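import Groth.Agent.PuncSecLib.ProIso
import Groth.Agent.FormalSysLib.Extend
import Groth.Agent.TildeOpenLib.Basic
import Groth.Agent.S2720

/-!
# Extension to `Spec A` and completion
-/

set_option autoImplicit false
set_option linter.style.haveILetI false
set_option backward.isDefEq.respectTransparency.types false
set_option maxHeartbeats 1000000

universe u

open CategoryTheory CategoryTheory.Limits AlgebraicGeometry TopologicalSpace Opposite

noncomputable section

namespace Groth.Agent.PuncSecLib

variable {A : Type u} [CommRing A]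

/-- Completion respects isomorphisms. -/
def completionMapIso {X : Scheme.{u}} [X.Over (Spec (CommRingCat.of A))] (I : Ideal A) {M N : X.Modules} (e : M ≅ N) :
    Formal.completion I M ≅ Formal.completion I N := by
  let C : ∀ n, Formal.modPow I (n + 1) M ≅ Formal.modPow I (n + 1) N := fun n => modPowMapIso I (n + 1) e
  let α : Formal.completion I M ⟶ Formal.completion I N := NatTrans.ofOpSequence (fun n => (C n).hom) fun n => by
    show (Functor.ofOpSequence (X := fun m => Formal.modPow I (m + 1) M) (fun m => Formal.modPowTrans I (m + 1) M)).map _ ≫ _ =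
      _ ≫ (Functor.ofOpSequence (X := fun m => Formal.modPow I (m + 1) N) (fun m => Formal.modPowTrans I (m + 1) N)).map _
    rw [Functor.ofOpSequence_map_homOfLE_succ, Functor.ofOpSequence_map_homOfLE_succ]
    refine (cancel_epi (cokernel.π (Formal.smulFamily (I ^ (n + 1 + 1)) M))).1 ?_
    refine (Category.assoc _ _ _).symm.trans ((congrArg (· ≫ (C n).hom) (Formal.modPowπ_trans I (n + 1) M)).trans ?_)
    refine (cokernel.π_desc _ _ _).trans (Eq.trans ?_ (Category.assoc _ _ _))
    refine Eq.trans ?_ (congrArg (· ≫ Formal.modPowTrans I (n + 1) N) (cokernel.π_desc _ _ _)).symm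
    refine Eq.trans ?_ (Category.assoc _ _ _).symm
    exact congrArg (e.hom ≫ ·) (Formal.modPowπ_trans I (n + 1) N).symm
  haveI : ∀ x, IsIso (α.app x) := fun x => inferInstanceAs (IsIso (C x.unop).hom)
  haveI : IsIso α := NatIso.isIso_of_isIso_app α
  exact asIso α

variable [IsNoetherianRing A]

theorem extends_of_completion (I 𝔞 : Ideal A) {G : ℕᵒᵖ ⥤ (LocCoh.puncturedOpen A 𝔞 : Scheme.{u}).Modules}
    (F : (LocCoh.puncturedOpen A 𝔞 : Scheme.{u}).Modules) (hF : Coh.IsCoh F) (e : Formal.completion I F ≅ G) :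
    @Algz.Extends A _ (Spec (CommRingCat.of A)) ⟨𝟙 (Spec (CommRingCat.of A))⟩ I (LocCoh.puncturedOpen A 𝔞) G := by
  letI : (Spec (CommRingCat.of A)).Over (Spec (CommRingCat.of A)) := ⟨𝟙 _⟩
  obtain ⟨M, _, _, hM, ⟨eF⟩⟩ := (Groth.Agent.S2269.result A _ F).1 hF
  haveI := hM
  let U := LocCoh.puncturedOpen A 𝔞
  haveI : IsNoetherianRing (CommRingCat.of A : Type u) := inferInstanceAs (IsNoetherianRing A)
  haveI : AlgebraicGeometry.IsNoetherian (Spec (CommRingCat.of A)) := inferInstance
  haveI : IsLocallyNoetherian (U : Scheme.{u}) := isLocallyNoetherian_of_isOpenImmersion U.ι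
  haveI : CompactSpace (U : Scheme.{u}) := isCompact_iff_compactSpace.1 (TopologicalSpace.NoetherianSpace.isCompact _)
  haveI : AlgebraicGeometry.IsNoetherian (U : Scheme.{u}) := {}
  let T : (Spec (CommRingCat.of A)).Modules := tilde (R := CommRingCat.of A) (ModuleCat.of A M)
  haveI : Module.Finite (CommRingCat.of A : Type u) (ModuleCat.of A M) := inferInstanceAs (Module.Finite A M)
  have hT : Coh.IsCoh T := Groth.Agent.S2720.isCoh_tilde' (R := CommRingCat.of A) (ModuleCat.of A M)
  obtain ⟨β⟩ := FormalSys.exists_pullback_completion_iso (I := I) (W := (U : Scheme.{u})) U.ι (Category.comp_id _) hT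
  exact ⟨Formal.completion I T, FormalSys.isCohFormal_completion hT I,
    ⟨Functor.isoWhiskerLeft (Formal.completion I T) (Scheme.Modules.restrictFunctorIsoPullback U.ι) ≪≫ β.symm ≪≫
      completionMapIso I (((Scheme.Modules.restrictFunctorIsoPullback U.ι).app T).symm ≪≫ eF.symm) ≪≫ e⟩⟩

end Groth.Agent.PuncSecLib
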