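import Groth.Agent.PuncSecLib.Extends
import Groth.Agent.S0797

/-!
# Systems of sections: algebraization from a compatible module, Mittag-Leffler
-/

set_option autoImplicit false
set_option linter.style.haveILetI false
set_option backward.isDefEq.respectTransparency.types false
set_option linter.unusedSectionVars false
set_option maxHeartbeats 1000000

universe u

open CategoryTheory CategoryTheory.Limits AlgebraicGeometry TopologicalSpace Opposite

noncomputable section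

namespace Groth.Agent.PuncSecLib

variable {A : Type u} [CommRing A] [IsNoetherianRing A] {𝔞 I : Ideal A}
  {G : ℕᵒᵖ ⥤ (LocCoh.puncturedOpen A 𝔞 : Scheme.{u}).Modules}

local notation "𝐔" => LocCoh.puncturedOpen A 𝔞

theorem cokTors_tS (hG : Formal.IsCohFormal I G) (n : ℕ) :
    CokTors 𝔞 ((ΓU 𝐔).map (trS G n)).hom := fun z => by
  obtain ⟨Θ, hΘ⟩ := exists_level_iso' hG n
  let e := ((ΓU 𝐔).mapIso Θ).toLinearEquiv
  obtain ⟨k, hk⟩ := cokTors_υ (𝔞 := 𝔞) (e.symm z)
  refine ⟨k, fun b hb => ?_⟩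
  obtain ⟨q, hq⟩ := hk b hb
  obtain ⟨y, rfl⟩ := Submodule.Quotient.mk_surjective _ q
  refine ⟨y, (hΘ y).symm.trans ?_⟩
  exact (congrArg e hq).trans ((e.map_smul b _).trans (congrArg (b • ·) (e.apply_symm_apply z)))

theorem exists_loc_lift (hG : Formal.IsCohFormal I G) {n r : ℕ} (h : n ≤ r) (z : Γp 𝔞 (G.obj (op n))) :
    Loc 𝔞 fun s => s • z ∈ LinearMap.range ((ΓU 𝐔).map (G.map (homOfLE h).op)).hom := by
  induction r, h using Nat.le_induction with
  | base =>
    intro p hp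
    refine ⟨1, fun h => p.2.ne_top ((Ideal.eq_top_iff_one _).2 h), z, ?_⟩
    show ((ΓU 𝐔).map (G.map (𝟙 (op n)))).hom z = (1 : A) • z
    refine Eq.trans ?_ (one_smul A z).symm
    exact congr(($(((congrArg (ΓU 𝐔).map (G.map_id (op n))).trans ((ΓU 𝐔).map_id _)))).hom z)
  | succ r h ih =>
    intro p hp
    obtain ⟨s, hs, y, hy⟩ := ih p hp
    obtain ⟨s', hs', x, hx⟩ := Loc.of_pow (P := fun s => s • y ∈ LinearMap.range ((ΓU 𝐔).map (trS G r)).hom)
      (cokTors_tS hG r y) p hp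
    refine ⟨s' * s, fun hc => (p.2.mem_or_mem hc).elim hs' hs, x, ?_⟩
    refine Eq.trans ?_ ((congrArg ((ΓU 𝐔).map (G.map (homOfLE h).op)).hom hx).trans
      ((map_smul _ s' y).trans ((congrArg (s' • ·) hy).trans (mul_smul s' s z).symm)))
    exact congr(($(((congrArg (ΓU 𝐔).map (G.map_comp (homOfLE (Nat.le_succ r)).op (homOfLE h).op))).trans
      ((ΓU 𝐔).map_comp _ _))).hom x)

/-- A coherent formal module is the completion of a compatible module. -/
theorem completion_iso_of_cone (hG : Formal.IsCohFormal I G) (M : Type u) [AddCommGroup M] [Module A M]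
    (pr : ∀ n, M →ₗ[A] Γp 𝔞 (G.obj (op n)))
    (hpr : ∀ n x, ((ΓU 𝐔).map (trS G n)).hom (pr (n + 1) x) = pr n x)
    (hker : ∀ n, LinearMap.ker (pr n) = I ^ (n + 1) • (⊤ : Submodule A M)) (hcok : ∀ n, CokTors 𝔞 (pr n)) :
    Nonempty (Formal.completion I ((tR 𝐔).obj (ModuleCat.of A M)) ≅ G) := by
  choose θ hθ using fun n => exists_modPow_iso_tR 𝐔 I (n + 1) M
  let l : ∀ n, (M ⧸ (I ^ (n + 1) • (⊤ : Submodule A M))) →ₗ[A] Γp 𝔞 (G.obj (op n)) := fun n =>
    Submodule.liftQ _ (pr n) (hker n).ge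
  have hlinj : ∀ n, Function.Injective (l n) := fun n => (injective_iff_map_eq_zero _).2 fun q hq => by
    obtain ⟨x, rfl⟩ := Submodule.Quotient.mk_surjective _ q
    exact (Submodule.Quotient.mk_eq_zero _).2 ((hker n).le hq)
  have hlcok : ∀ n, CokTors 𝔞 (l n) := fun n z => (hcok n z).imp fun k hk b hb => by
    obtain ⟨x, hx⟩ := hk b hb
    exact ⟨Submodule.Quotient.mk x, hx⟩
  haveI := fun n => isIso_tR (hlinj n) (hlcok n)
  haveI := fun n => isIso_counit 𝐔 (G.obj (op n)) (hG.1 n).1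
  let C : ∀ n, (Formal.completion I ((tR 𝐔).obj (ModuleCat.of A M))).obj (op n) ≅ G.obj (op n) := fun n =>
    θ n ≪≫ asIso ((tR 𝐔).map (ModuleCat.ofHom (l n))) ≪≫ asIso ((tRadj 𝐔).counit.app (G.obj (op n)))
  have hC : ∀ n, Formal.modPowπ I (n + 1) ((tR 𝐔).obj (ModuleCat.of A M)) ≫ (C n).hom =
      (tR 𝐔).map (ModuleCat.ofHom (pr n)) ≫ (tRadj 𝐔).counit.app (G.obj (op n)) := by
    intro n
    show _ ≫ (θ n).hom ≫ (tR 𝐔).map (ModuleCat.ofHom (l n)) ≫ (tRadj 𝐔).counit.app (G.obj (op n)) = _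
    rw [← Category.assoc, hθ, ← Category.assoc, ← Functor.map_comp]
    rfl
  have hnat : ∀ n, (Formal.completion I ((tR 𝐔).obj (ModuleCat.of A M))).map (homOfLE (n.le_add_right 1)).op ≫
      (C n).hom = (C (n + 1)).hom ≫ G.map (homOfLE (n.le_add_right 1)).op := by
    intro n
    show (Functor.ofOpSequence (X := fun m => Formal.modPow I (m + 1) ((tR 𝐔).obj (ModuleCat.of A M)))
      (fun m => Formal.modPowTrans I (m + 1) _)).map _ ≫ _ = _
    rw [Functor.ofOpSequence_map_homOfLE_succ]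
    refine (cancel_epi (cokernel.π (Formal.smulFamily (I ^ (n + 1 + 1)) ((tR 𝐔).obj (ModuleCat.of A M))))).1 ?_
    show Formal.modPowπ I (n + 1 + 1) _ ≫ _ = Formal.modPowπ I (n + 1 + 1) _ ≫ _
    refine (Category.assoc _ _ _).symm.trans ((congrArg (· ≫ _) (Formal.modPowπ_trans I (n + 1) _)).trans ?_)
    refine (hC n).trans ((Eq.trans ?_ (congrArg (· ≫ trS G n) (hC (n + 1))).symm).trans (Category.assoc _ _ _))
    rw [Category.assoc]
    refine Eq.trans ?_ (congrArg ((tR 𝐔).map (ModuleCat.ofHom (pr (n + 1))) ≫ ·)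
      ((tRadj 𝐔).counit.naturality (trS G n)))
    rw [← Category.assoc]
    refine congrArg (· ≫ _) ?_
    show _ = (tR 𝐔).map _ ≫ (tR 𝐔).map ((ΓU 𝐔).map (trS G n))
    rw [← Functor.map_comp]
    exact congrArg (tR 𝐔).map (ModuleCat.hom_ext (LinearMap.ext fun x => (hpr n x).symm))
  let α : Formal.completion I ((tR 𝐔).obj (ModuleCat.of A M)) ⟶ G := NatTrans.ofOpSequence (fun n => (C n).hom) hnat
  haveI : ∀ n, IsIso (α.app n) := fun n => inferInstanceAs (IsIso (C n.unop).hom)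
  haveI : IsIso α := NatIso.isIso_of_isIso_app α
  exact ⟨asIso α⟩

theorem exists_coh_completion_of_extends (I 𝔞 : Ideal A) [IsAdicComplete I A]
    {G : ℕᵒᵖ ⥤ (LocCoh.puncturedOpen A 𝔞 : Scheme.{u}).Modules}
    (h : @Algz.Extends A _ (Spec (CommRingCat.of A)) ⟨𝟙 (Spec (CommRingCat.of A))⟩ I (LocCoh.puncturedOpen A 𝔞) G) :
    ∃ F : (LocCoh.puncturedOpen A 𝔞 : Scheme.{u}).Modules, Coh.IsCoh F ∧ Nonempty (Formal.completion I F ≅ G) := by
  letI : (Spec (CommRingCat.of A)).Over (Spec (CommRingCat.of A)) := ⟨𝟙 _⟩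
  obtain ⟨G', hG', ⟨e⟩⟩ := h
  haveI : IsNoetherianRing (CommRingCat.of A : Type u) := inferInstanceAs (IsNoetherianRing A)
  haveI : AlgebraicGeometry.IsNoetherian (Spec (CommRingCat.of A)) := inferInstance
  have hnoeth : ∀ V : (Sp A).Opens, AlgebraicGeometry.IsNoetherian (V : Scheme.{u}) := fun V => by
    haveI : IsLocallyNoetherian (V : Scheme.{u}) := isLocallyNoetherian_of_isOpenImmersion V.ι
    haveI : CompactSpace (V : Scheme.{u}) := isCompact_iff_compactSpace.1 (TopologicalSpace.NoetherianSpace.isCompact _)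
    exact {}
  let T := LocCoh.puncturedOpen A (⊤ : Ideal A)
  haveI := hnoeth T
  haveI := hnoeth (LocCoh.puncturedOpen A 𝔞)
  let G'' : ℕᵒᵖ ⥤ (T : Scheme.{u}).Modules := G' ⋙ Scheme.Modules.pullback T.ι
  have hG'' : Formal.IsCohFormal I G'' := FormalSys.isCohFormal_pullback T.ι (Category.comp_id _) hG'
  let M : ℕ → Type u := fun n => Γp (⊤ : Ideal A) (G''.obj (op n))
  have hsurjυ : ∀ {P : Type u} [AddCommGroup P] [Module A P] {Q : Type u} [AddCommGroup Q] [Module A Q] {φ : P →ₗ[A] Q},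
      CokTors (⊤ : Ideal A) φ → Function.Surjective φ := fun {P} _ _ {Q} _ _ {φ} hφ y => by
    obtain ⟨k, hk⟩ := hφ y
    obtain ⟨x, hx⟩ := hk 1 (by rw [Ideal.top_pow]; trivial)
    exact ⟨x, hx.trans (one_smul A y)⟩
  haveI hfin : ∀ n, Module.Finite A (M n) := fun n => by
    obtain ⟨P, hP, hP'⟩ := exists_model hG'' n
    refine ⟨?_⟩
    rw [← show P = ⊤ from eq_top_iff.2 fun y _ => by
      obtain ⟨x, hx⟩ := hsurjυ hP' y
      rw [← hx]; exact x.2]
    exact hP
  let t : ∀ n, M (n + 1) →ₗ[A] M n := fun n => ((ΓU T).map (trS G'' n)).hom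
  have hker : ∀ n, LinearMap.ker (t n) = I ^ (n + 1) • (⊤ : Submodule A (M (n + 1))) := fun n => by
    obtain ⟨Θ, hΘ⟩ := exists_level_iso' hG'' n
    let e := ((ΓU T).mapIso Θ).toLinearEquiv
    refine le_antisymm (fun y hy => ?_) (Submodule.smul_le.2 fun a ha y _ => ?_)
    · have h0 : υ T _ (Submodule.Quotient.mk y) = 0 :=
        e.injective (((hΘ y).trans hy).trans (map_zero e).symm)
      obtain ⟨k, hk⟩ := (υ_eq_zero_iff (𝔞 := (⊤ : Ideal A)) _).1 h0
      exact (Submodule.Quotient.mk_eq_zero _).1 ((one_smul A _).symm.trans (hk 1 (by rw [Ideal.top_pow]; trivial)))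
    · rw [LinearMap.mem_ker, map_smul]
      exact smul_eq_zero_of_mem hG'' n ha _
  let L : Submodule A (∀ n, M n) :=
    { carrier := {y | ∀ n, t n (y (n + 1)) = y n}
      zero_mem' := fun n => map_zero _
      add_mem' := fun {x y} hx hy n => by simp only [Pi.add_apply, map_add, hx n, hy n]
      smul_mem' := fun a x hx n => by simp only [Pi.smul_apply, map_smul, hx n] }
  obtain ⟨hL, hLn⟩ := Groth.Agent.S0797.result A I M t (fun n => hsurjυ (cokTors_tS hG'' n))
    (fun n => eq_bot_iff.2 (Submodule.smul_le.2 fun a ha z _ => (Submodule.mem_bot A).2 (smul_eq_zero_of_mem hG'' n ha z)))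
    hker L (fun x => Iff.rfl)
  haveI := hL
  obtain ⟨α⟩ := completion_iso_of_cone hG'' L (fun n => (LinearMap.proj n).comp L.subtype) (fun n x => x.2 n)
    (fun n => (hLn n).2) (fun n y => ⟨0, fun b _ => by
      obtain ⟨x, hx⟩ := (hLn n).1 (b • y)
      exact ⟨x, hx⟩⟩)
  have hUT : LocCoh.puncturedOpen A 𝔞 ≤ T := fun p _ hp => p.2.ne_top (top_le_iff.1 hp)
  let j := (Sp A).homOfLE hUT
  have hFT : Coh.IsCoh ((tR T).obj (ModuleCat.of A L)) := by
    haveI : Module.Finite (CommRingCat.of A : Type u) (ModuleCat.of A L) := inferInstanceAs (Module.Finite A L)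
    exact TildeOpenLib.isCoh_restrict_tilde (R := CommRingCat.of A) (V := T) (ModuleCat.of A L)
  have hj : j ≫ T.ι = (LocCoh.puncturedOpen A 𝔞).ι := (Sp A).homOfLE_ι hUT
  obtain ⟨β⟩ := FormalSys.exists_pullback_completion_iso (I := I) j
    (show j ≫ T.ι ≫ 𝟙 _ = (LocCoh.puncturedOpen A 𝔞).ι ≫ 𝟙 _ by rw [← Category.assoc, hj]) hFT
  exact ⟨(Scheme.Modules.pullback j).obj ((tR T).obj (ModuleCat.of A L)), PullbackMod.isCoh_pullback j _ hFT,
    ⟨β ≪≫ Functor.isoWhiskerRight α _ ≪≫ Functor.associator _ _ _ ≪≫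
      Functor.isoWhiskerLeft G' ((Scheme.Modules.pullbackComp j T.ι) ≪≫ Scheme.Modules.pullbackCongr hj ≪≫
        (Scheme.Modules.restrictFunctorIsoPullback (LocCoh.puncturedOpen A 𝔞).ι).symm) ≪≫ e⟩⟩

theorem isML_aux {X : ℕᵒᵖ ⥤ ModuleCat.{u} A}
    (h : ∀ n, ∃ r, ∀ s, r ≤ s → LinearMap.range (ARSys.shiftMap X s n).hom = LinearMap.range (ARSys.shiftMap X r n).hom) :
    ARSys.IsML X := by
  intro n
  obtain ⟨r, hr⟩ := h n
  refine ⟨r, fun s hs => ?_⟩
  have key : ∀ {P Q : ModuleCat.{u} A} (f : P ⟶ Q),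
      ModuleCat.subobjectModule Q (imageSubobject f) = LinearMap.range f.hom := fun f => by
    show LinearMap.range (imageSubobject f).arrow.hom = _
    conv_rhs => rw [← imageSubobject_arrow_comp f]
    rw [ModuleCat.hom_comp, LinearMap.range_comp_of_range_eq_top]
    exact LinearMap.range_eq_top.2 ((ModuleCat.epi_iff_surjective _).1 inferInstance)
  refine (ModuleCat.subobjectModule _).injective ?_
  rw [key, key]
  exact hr s hs

end Groth.Agent.PuncSecLib
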