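import Groth.Agent.PuncSecLib.ModuleSystem
import Groth.Agent.S9530
import Groth.Prelude.Def_Algz

/-!
# Pro-isomorphic coherent formal modules are isomorphic
-/

set_option autoImplicit false
set_option linter.style.haveILetI false
set_option backward.isDefEq.respectTransparency.types false

universe u

open CategoryTheory CategoryTheory.Limits AlgebraicGeometry TopologicalSpace Opposite

noncomputable section

namespace Groth.Agent.PuncSecLib

variable {A : Type u} [CommRing A] {I : Ideal A} {X : Scheme.{u}} [X.Over (Spec (CommRingCat.of A))]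
  {F : ℕᵒᵖ ⥤ X.Modules}

theorem epi_tr_of_isCohFormal (hF : Formal.IsCohFormal I F) (n j : ℕ) (h : n ≤ j) :
    Epi (F.map (homOfLE h).op) := by
  induction j, h using Nat.le_induction with
  | base =>
    rw [show (homOfLE (le_refl n)).op = 𝟙 (op n) from rfl, F.map_id]
    infer_instance
  | succ j h ih =>
    obtain ⟨hz, hi⟩ := hF.2.2 j
    have e : F.map (homOfLE (Nat.le_succ j)).op =
        cokernel.π _ ≫ cokernel.desc _ _ hz := (cokernel.π_desc _ _ _).symm
    haveI := hi
    haveI : Epi (cokernel.desc _ _ hz) := @IsIso.epi_of_iso _ _ _ _ _ hi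
    haveI : Epi (F.map (homOfLE (Nat.le_succ j)).op) := by
      rw [e]; exact epi_comp _ _
    haveI := ih
    rw [show (homOfLE (Nat.le_succ_of_le h)).op = (homOfLE (Nat.le_succ j)).op ≫ (homOfLE h).op from rfl,
      F.map_comp]
    exact epi_comp _ _

theorem exists_factor_killed (hF : Formal.IsCohFormal I F) (n j : ℕ) (h : n ≤ j) {T : X.Modules}
    (hT : Formal.KilledBy (I ^ (n + 1)) T) (f : F.obj (op j) ⟶ T) :
    ∃ b : F.obj (op n) ⟶ T, F.map (homOfLE h).op ≫ b = f := by
  revert f
  induction j, h using Nat.le_induction with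
  | base =>
    intro f
    exact ⟨f, by rw [show (homOfLE (le_refl n)).op = 𝟙 (op n) from rfl, F.map_id, Category.id_comp]⟩
  | succ j h ih =>
    intro f
    obtain ⟨hz, hi⟩ := hF.2.2 j
    have hf0 : Formal.smulFamily (I ^ (j + 1)) (F.obj (op (j + 1))) ≫ f = 0 := by
      apply Sigma.hom_ext
      intro a
      rw [comp_zero, ← Category.assoc, Formal.smulFamily, Sigma.ι_desc,
        Groth.Agent.FormalLib.smulMod_natural,
        hT (a : A) (Ideal.pow_le_pow_right (Nat.succ_le_succ h) a.2), comp_zero]
    haveI := hi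
    obtain ⟨b, hb⟩ := ih (inv (cokernel.desc _ _ hz) ≫ cokernel.desc _ f hf0)
    refine ⟨b, ?_⟩
    rw [show (homOfLE (Nat.le_succ_of_le h)).op = (homOfLE (Nat.le_succ j)).op ≫ (homOfLE h).op from rfl,
      F.map_comp, Category.assoc, hb]
    conv_lhs => arg 1; rw [← cokernel.π_desc _ _ hz]
    rw [Category.assoc, IsIso.hom_inv_id_assoc, cokernel.π_desc]

theorem nonempty_iso_of_isProIsomorphic [AlgebraicGeometry.IsNoetherian X] {G : ℕᵒᵖ ⥤ X.Modules}
    (hF : Formal.IsCohFormal I F) (hG : Formal.IsCohFormal I G) (h : Algz.IsProIsomorphic F G) :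
    Nonempty (F ≅ G) := by
  obtain ⟨m, hm, hle, a, ha⟩ := h
  let π : DerCA.reindex F hm ⟶ F :=
    { app := fun x => F.map (homOfLE (hle x.unop)).op
      naturality := fun x y f => by
        show F.map _ ≫ F.map _ = F.map _ ≫ F.map _
        rw [← F.map_comp, ← F.map_comp]
        rfl }
  obtain ⟨β, hβ, -⟩ := Groth.Agent.S9530.result A I X F G hF hG m hm hle π (fun _ => rfl) a
  have hiso : ∀ n, IsIso (β.app (op n)) := fun n => by
    obtain ⟨k, hk, b, hb₁, hb₂⟩ := ha n
    obtain ⟨γ, hγ⟩ := exists_factor_killed hG n k hk (hF.2.1 n) (b ≫ π.app (op n))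
    have hak : a.app (op k) = π.app (op k) ≫ β.app (op k) := by rw [← NatTrans.comp_app, hβ]
    have han : a.app (op n) = π.app (op n) ≫ β.app (op n) := by rw [← NatTrans.comp_app, hβ]
    haveI : Epi (β.app (op n)) := by
      haveI := epi_tr_of_isCohFormal hG n k hk
      refine epi_of_epi_fac (f := b ≫ π.app (op n)) (h := G.map (homOfLE hk).op) ?_
      rw [Category.assoc, ← han]
      exact hb₂
    have hleft : β.app (op n) ≫ γ = 𝟙 _ := by
      haveI : Epi (π.app (op k) ≫ F.map (homOfLE hk).op) := by
        haveI := epi_tr_of_isCohFormal hF n (m k) (hk.trans (hle k))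
        show Epi (F.map _ ≫ F.map _)
        rw [← F.map_comp]
        exact this
      rw [← cancel_epi (π.app (op k) ≫ F.map (homOfLE hk).op), Category.comp_id, Category.assoc,
        ← Category.assoc (F.map (homOfLE hk).op), β.naturality, Category.assoc, hγ, ← Category.assoc,
        ← hak, ← Category.assoc, hb₁]
      exact π.naturality (homOfLE hk).op
    refine ⟨γ, hleft, ?_⟩
    rw [← cancel_epi (β.app (op n)), ← Category.assoc, hleft, Category.id_comp, Category.comp_id]
  haveI : ∀ x, IsIso (β.app x) := fun x => hiso x.unop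
  haveI : IsIso β := NatIso.isIso_of_isIso_app β
  exact ⟨asIso β⟩

end Groth.Agent.PuncSecLib
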