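import Groth.Agent.PuncSecLib.TowerLim
import Groth.Agent.S2269
import Groth.Agent.TildeOpenLib.Basic

/-!
# Algebraization of locally free formal modules for a principal ideal
-/

set_option autoImplicit false
set_option linter.style.haveILetI false
set_option backward.isDefEq.respectTransparency.types false
set_option linter.unusedSectionVars false
set_option maxHeartbeats 1000000

universe u

open CategoryTheory CategoryTheory.Limits AlgebraicGeometry TopologicalSpace Opposite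

noncomputable section

namespace Groth.Agent.PuncSecLib

variable {A : Type u} [CommRing A] [IsNoetherianRing A] {𝔞 : Ideal A}

local notation "𝐔" => LocCoh.puncturedOpen A 𝔞

omit [IsNoetherianRing A] in
theorem isFinLocFreeMod_of_iso {X : Scheme.{u}} [X.Over (Sp A)] {I : Ideal A} {n : ℕ} {G G' : X.Modules}
    (e : G ≅ G') (h : Formal2.IsFinLocFreeMod I n G) : Formal2.IsFinLocFreeMod I n G' := fun x => by
  obtain ⟨V, r, hx, ⟨θ⟩⟩ := h x
  exact ⟨V, r, hx, ⟨((Scheme.Modules.restrictFunctor V.ι).mapIso e).symm ≪≫ θ⟩⟩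

/-- The local model on a basic open. -/
theorem exists_local_iso {U : (Sp A).Opens} (I : Ideal A) (n : ℕ) (N : Type u) [AddCommGroup N] [Module A N]
    (hfree : Formal2.IsFinLocFreeMod I n ((tR U).obj (ModuleCat.of A N))) (p : PrimeSpectrum A) (hp : p ∈ U) :
    ∃ (h : A) (r : ℕ), h ∉ p.asIdeal ∧
      Nonempty (Sec N (PrimeSpectrum.basicOpen h : (Sp A).Opens) ≃ₗ[A]
        Sec ((Fin r → A) ⧸ (I ^ n • (⊤ : Submodule A (Fin r → A)))) (PrimeSpectrum.basicOpen h : (Sp A).Opens)) := by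
  obtain ⟨V, r, hV, ⟨e⟩⟩ := hfree (⟨p, hp⟩ : U)
  obtain ⟨θ, -⟩ := exists_modPow_iso_tR U I n (Fin r → A)
  have hmem : p ∈ U.ι ''ᵁ V := ⟨⟨p, hp⟩, hV, rfl⟩
  obtain ⟨_, ⟨h, rfl⟩, hph, hle⟩ := Opens.isBasis_iff_nbhd.1 PrimeSpectrum.isBasis_basic_opens hmem
  let W : (Sp A).Opens := PrimeSpectrum.basicOpen h
  have hrange : Set.range W.ι ⊆ Set.range (V.ι ≫ U.ι) := by
    rintro x ⟨w, rfl⟩
    obtain ⟨y, hy, hy'⟩ := hle w.2
    exact ⟨⟨y, hy⟩, hy'⟩
  let k : (W : Scheme.{u}) ⟶ V := IsOpenImmersion.lift (V.ι ≫ U.ι) W.ι hrange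
  have hk : (k ≫ V.ι) ≫ U.ι = W.ι := by rw [Category.assoc]; exact IsOpenImmersion.lift_fac _ _ hrange
  haveI : IsOpenImmersion (k ≫ V.ι ≫ U.ι) := by
    rw [← Category.assoc, hk]; infer_instance
  haveI : IsOpenImmersion k := IsOpenImmersion.of_comp k (V.ι ≫ U.ι)
  let P := ModuleCat.of A ((Fin r → A) ⧸ (I ^ n • (⊤ : Submodule A (Fin r → A))))
  let e' : (tR W).obj (ModuleCat.of A N) ≅ (tR W).obj P :=
    ((tRResIso V k hk).app (ModuleCat.of A N)).symm ≪≫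
      (Scheme.Modules.restrictFunctor k).mapIso (e ≪≫ (Scheme.Modules.restrictFunctor V.ι).mapIso
        (modPowMapIso I n (freeIso U r) ≪≫ θ)) ≪≫ (tRResIso V k hk).app P
  exact ⟨h, r, hph, ⟨((χ W N).trans ((ΓU W).mapIso e').toLinearEquiv).trans
    (χ W ((Fin r → A) ⧸ (I ^ n • (⊤ : Submodule A (Fin r → A))))).symm⟩⟩

theorem ΓU_map_smulMod (F : (𝐔 : Scheme.{u}).Modules) (a : A) (z : Γp 𝔞 F) :
    ((ΓU 𝐔).map (Formal.smulMod A F a)).hom z = a • z := by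
  have hz : ∀ w : Γp 𝔞 F, ((ΓU 𝐔).map ((tRadj 𝐔).counit.app F)).hom (υ 𝐔 (Γp 𝔞 F) w) = w := fun w =>
    congr(($((tRadj 𝐔).right_triangle_components F)).hom w)
  have h1 : (tR 𝐔).map (a • 𝟙 ((ΓU 𝐔).obj F)) ≫ (tRadj 𝐔).counit.app F =
      (tRadj 𝐔).counit.app F ≫ Formal.smulMod A F a := by
    rw [tR_map_lsmul]
    first
      | exact FormalLib.smulMod_natural ((tRadj 𝐔).counit.app F) a
      | exact (FormalLib.smulMod_natural ((tRadj 𝐔).counit.app F) a).symm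
  conv_lhs => rw [← hz z]
  refine ((congr(($((ΓU 𝐔).map_comp ((tRadj 𝐔).counit.app F) (Formal.smulMod A F a))).hom
    (υ 𝐔 (Γp 𝔞 F) z))).symm.trans ?_).trans (hz (a • z))
  rw [← h1, (ΓU 𝐔).map_comp]
  refine congrArg ((ΓU 𝐔).map ((tRadj 𝐔).counit.app F)).hom ?_
  exact υ_natural 𝐔 (LinearMap.lsmul A (Γp 𝔞 F) a) z

variable {f : A} {G : ℕᵒᵖ ⥤ (LocCoh.puncturedOpen A 𝔞 : Scheme.{u}).Modules}

/-- The transition maps. -/
abbrev trS (G : ℕᵒᵖ ⥤ (LocCoh.puncturedOpen A 𝔞 : Scheme.{u}).Modules) (n : ℕ) :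
    G.obj (op (n + 1)) ⟶ G.obj (op n) :=
  G.map (homOfLE (Nat.le_succ n)).op

theorem exists_level_iso (hG : Formal.IsCohFormal (Ideal.span {f}) G) (n : ℕ) :
    ∃ Θ : (tR 𝐔).obj (ModuleCat.of A (Γp 𝔞 (G.obj (op (n + 1))) ⧸
        (Ideal.span {f} ^ (n + 1) • (⊤ : Submodule A (Γp 𝔞 (G.obj (op (n + 1))))))) ) ≅ G.obj (op n),
      ∀ y, ((ΓU 𝐔).map Θ.hom).hom (υ 𝐔 _ (Submodule.Quotient.mk y)) = ((ΓU 𝐔).map (trS G n)).hom y := by
  haveI := isIso_counit 𝐔 (G.obj (op (n + 1))) (hG.1 (n + 1)).1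
  obtain ⟨w, hw⟩ := hG.2.2 n
  haveI := hw
  let c := (tRadj 𝐔).counit.app (G.obj (op (n + 1)))
  let I := Ideal.span {f}
  let M₀ := Γp 𝔞 (G.obj (op (n + 1)))
  obtain ⟨θ, hθ⟩ := exists_modPow_iso_tR 𝐔 I (n + 1) M₀
  let Θ := θ.symm ≪≫ modPowMapIso I (n + 1) (asIso c) ≪≫
    @asIso _ _ _ _ (cokernel.desc (Formal.smulFamily (I ^ (n + 1)) (G.obj (op (n + 1)))) (trS G n) w) hw
  refine ⟨Θ, fun y => ?_⟩
  have h1 : (tR 𝐔).map (ModuleCat.ofHom (I ^ (n + 1) • (⊤ : Submodule A M₀)).mkQ) ≫ Θ.hom = c ≫ trS G n := by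
    rw [← hθ]
    show (Formal.modPowπ I (n + 1) _ ≫ θ.hom) ≫ θ.inv ≫ (modPowMapIso I (n + 1) (asIso c)).hom ≫ _ = _
    rw [Category.assoc, θ.hom_inv_id_assoc, ← Category.assoc]
    refine (congrArg (· ≫ _) (cokernel.π_desc _ _ _)).trans ?_
    refine (Category.assoc _ _ _).trans ?_
    exact congrArg (c ≫ ·) (cokernel.π_desc _ _ _)
  have hy : ((ΓU 𝐔).map c).hom (υ 𝐔 M₀ y) = y :=
    congr(($((tRadj 𝐔).right_triangle_components (G.obj (op (n + 1))))).hom y)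
  refine (congrArg ((ΓU 𝐔).map Θ.hom).hom (υ_natural 𝐔 (I ^ (n + 1) • (⊤ : Submodule A M₀)).mkQ y).symm).trans ?_
  refine (congr(($((ΓU 𝐔).map_comp _ Θ.hom)).hom (υ 𝐔 M₀ y))).symm.trans ?_
  rw [h1, (ΓU 𝐔).map_comp]
  exact congrArg ((ΓU 𝐔).map (trS G n)).hom hy

theorem map_eq_zero_of_smul_eq_zero (hnzd : f ∈ nonZeroDivisors A)
    (hG : Formal.IsCohFormal (Ideal.span {f}) G) (n : ℕ)
    (hfree : Formal2.IsFinLocFreeMod (Ideal.span {f}) (n + 2) (G.obj (op (n + 1))))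
    (hk : ∀ z : Γp 𝔞 (G.obj (op n)), f ^ (n + 1) • z = 0)
    (x : Γp 𝔞 (G.obj (op (n + 1)))) (hx : f • x = 0) : ((ΓU 𝐔).map (trS G n)).hom x = 0 := by
  refine eq_zero_of_loc fun p hp => ?_
  haveI := isIso_counit 𝐔 (G.obj (op (n + 1))) (hG.1 (n + 1)).1
  have hf : Formal2.IsFinLocFreeMod (Ideal.span {f}) (n + 2)
      ((tR 𝐔).obj (ModuleCat.of A (Γp 𝔞 (G.obj (op (n + 1)))))) :=
    isFinLocFreeMod_of_iso (asIso ((tRadj 𝐔).counit.app (G.obj (op (n + 1))))).symm hfree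
  obtain ⟨h, r, hph, ⟨e⟩⟩ := exists_local_iso (Ideal.span {f}) (n + 2) (Γp 𝔞 (G.obj (op (n + 1)))) hf p hp
  let W : (Sp A).Opens := PrimeSpectrum.basicOpen h
  let F₀ := (Fin r → A) ⧸ (Ideal.span {f} ^ (n + 2) • (⊤ : Submodule A (Fin r → A)))
  haveI : IsLocalizedModule (Submonoid.powers h) (ε F₀ W) :=
    IsLocalizedModule.of_linearEquiv (Submonoid.powers h)
      (StructureSheaf.toOpenₗ A F₀ (PrimeSpectrum.basicOpen h))
      ((tilde.modulesSpecToSheafIso (R := CommRingCat.of A) (ModuleCat.of A F₀)).app _).toLinearEquiv.symm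
  obtain ⟨k, v, hv⟩ := exists_pow_smul_eq_ε h (e (ε _ W x))
  obtain ⟨v, rfl⟩ := Submodule.Quotient.mk_surjective _ v
  have hfx : f • ε (Γp 𝔞 (G.obj (op (n + 1)))) W x = 0 :=
    ((ε (Γp 𝔞 (G.obj (op (n + 1)))) W).map_smul f x).symm.trans ((congrArg (ε _ W) hx).trans (map_zero _))
  have h0 : ε F₀ W (f • Submodule.Quotient.mk v) = ε F₀ W 0 := by
    refine ((ε F₀ W).map_smul f (Submodule.Quotient.mk v)).trans ((congrArg (f • ·) hv.symm).trans ?_)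
    refine (smul_comm f (h ^ k) (e (ε _ W x))).trans ?_
    refine Eq.trans ?_ (map_zero (ε F₀ W)).symm
    have he : f • e (ε _ W x) = 0 := (e.map_smul f _).symm.trans ((congrArg e hfx).trans e.map_zero)
    exact (congrArg (h ^ k • ·) he).trans (smul_zero _)
  obtain ⟨⟨_, l, rfl⟩, hl⟩ := (IsLocalizedModule.eq_iff_exists (Submonoid.powers h) (ε F₀ W)).1 h0
  have hl' : h ^ l • (f • Submodule.Quotient.mk v : F₀) = 0 := hl.trans (smul_zero _)
  rw [← Submodule.Quotient.mk_smul, ← Submodule.Quotient.mk_smul, Submodule.Quotient.mk_eq_zero] at hl'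
  obtain ⟨w, hw⟩ := (mem_pow_smul_top f _ _ _).1 hl'
  have hw' : h ^ l • v = f ^ (n + 1) • w := funext fun i => by
    have h1 : f ^ (n + 2) * w i = h ^ l * (f * v i) := congrFun hw i
    show h ^ l * v i = f ^ (n + 1) * w i
    refine (mul_cancel_left_mem_nonZeroDivisors hnzd).1 ?_
    rw [← mul_assoc f (f ^ (n + 1)), ← pow_succ', h1]
    ring
  have h2 : h ^ (l + k) • ε _ W x = f ^ (n + 1) • e.symm (ε F₀ W (Submodule.Quotient.mk w)) := by
    apply e.injective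
    refine (e.map_smul _ _).trans (Eq.trans ?_ ((e.map_smul _ _).trans
      (congrArg (f ^ (n + 1) • ·) (e.apply_symm_apply _))).symm)
    refine ((congrArg (· • e (ε _ W x)) (pow_add h l k)).trans (mul_smul _ _ _)).trans ?_
    refine (congrArg (h ^ l • ·) hv).trans ?_
    refine ((ε F₀ W).map_smul _ _).symm.trans (Eq.trans ?_ ((ε F₀ W).map_smul _ _))
    exact congrArg (ε F₀ W) ((Submodule.Quotient.mk_smul _ _ _).symm.trans
      ((congrArg Submodule.Quotient.mk hw').trans (Submodule.Quotient.mk_smul _ _ _)))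
  let t := ((ΓU 𝐔).map (trS G n)).hom
  have h3 : ε _ W (h ^ (l + k) • t x) = 0 := by
    rw [map_smul, ← sm_ε, ← map_smul (sm t W), h2, map_smul, ← sm_lsmul]
    rw [show LinearMap.lsmul A (Γp 𝔞 (G.obj (op n))) (f ^ (n + 1)) = 0 from LinearMap.ext hk, sm_zero]
  obtain ⟨s, hs, hs0⟩ := (ε_eq_zero_iff W _).1 h3 p hph
  refine ⟨s * h ^ (l + k), fun hc => (p.2.mem_or_mem hc).elim hs fun h' => hph (p.2.mem_of_pow_mem _ h'), ?_⟩
  show (s * h ^ (l + k)) • t x = 0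
  rw [mul_smul, hs0]

/-- The tower of sections. -/
def mkTower (hnzd : f ∈ nonZeroDivisors A) (hG : Formal.IsCohFormal (Ideal.span {f}) G)
    (hfree : ∀ n : ℕ, Formal2.IsFinLocFreeMod (Ideal.span {f}) (n + 1) (G.obj (op n))) :
    Tower 𝔞 f (fun n => G.obj (op n)) where
  t n := ((ΓU 𝐔).map (trS G n)).hom
  killed n z := by
    rw [← ΓU_map_smulMod (G.obj (op n)) (f ^ (n + 1)) z,
      hG.2.1 n _ (Ideal.pow_mem_pow (Ideal.mem_span_singleton_self f) (n + 1)), Functor.map_zero]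
    rfl
  cok n z := by
    obtain ⟨Θ, hΘ⟩ := exists_level_iso hG n
    obtain ⟨k, hk⟩ := cokTors_υ (𝔞 := 𝔞) (((ΓU 𝐔).mapIso Θ).toLinearEquiv.symm z)
    refine ⟨k, fun b hb => ?_⟩
    obtain ⟨q, hq⟩ := hk b hb
    obtain ⟨y, rfl⟩ := Submodule.Quotient.mk_surjective _ q
    refine ⟨y, (hΘ y).symm.trans ?_⟩
    rw [hq, map_smul]
    exact congrArg (b • ·) (((ΓU 𝐔).mapIso Θ).toLinearEquiv.apply_symm_apply z)
  ker n y hy := by
    obtain ⟨Θ, hΘ⟩ := exists_level_iso hG n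
    have h0 : υ 𝐔 _ (Submodule.Quotient.mk y) = 0 :=
      ((ΓU 𝐔).mapIso Θ).toLinearEquiv.injective (((hΘ y).trans hy).trans (map_zero _).symm)
    intro p hp
    obtain ⟨s, hs, hsy⟩ := Loc.of_pow (P := fun s => s • (Submodule.Quotient.mk y :
      Γp 𝔞 (G.obj (op (n + 1))) ⧸ (Ideal.span {f} ^ (n + 1) • (⊤ : Submodule A _))) = 0)
      ((υ_eq_zero_iff _).1 h0) p hp
    rw [← Submodule.Quotient.mk_smul, Submodule.Quotient.mk_eq_zero] at hsy
    obtain ⟨w, hw⟩ := (mem_pow_smul_top f _ _ _).1 hsy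
    exact ⟨s, hs, w, hw.symm⟩
  reg n x hx := map_eq_zero_of_smul_eq_zero hnzd hG n (hfree (n + 1)) (fun z => by
    rw [← ΓU_map_smulMod (G.obj (op n)) (f ^ (n + 1)) z,
      hG.2.1 n _ (Ideal.pow_mem_pow (Ideal.mem_span_singleton_self f) (n + 1)), Functor.map_zero]
    rfl) x hx

theorem finite_level_zero (hG : Formal.IsCohFormal (Ideal.span {f}) G)
    (hfree : Formal2.IsFinLocFreeMod (Ideal.span {f}) 1 (G.obj (op 0)))
    (h₁ : Module.Finite A (LocCoh.H 𝔞 1 (A ⧸ Ideal.span {f})))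
    (h₂ : Module.Finite A (LocCoh.H 𝔞 2 (A ⧸ Ideal.span {f}))) :
    Module.Finite A (Γp 𝔞 (G.obj (op 0))) ∧ Module.Finite A (LocCoh.H 𝔞 2 (Γp 𝔞 (G.obj (op 0)))) := by
  obtain ⟨N, _, _, hN, ⟨e⟩⟩ := (Groth.Agent.S2269.result A 𝐔 (G.obj (op 0))).1 (hG.1 0)
  haveI := hN
  let e' : G.obj (op 0) ≅ (tR 𝐔).obj (ModuleCat.of A N) := e
  haveI hS := finite_sec (𝔞 := 𝔞) N (finite_H_of_locFree _ h₁ h₂ N (isFinLocFreeMod_of_iso e' hfree) 1 one_le_two)
  haveI hΓ : Module.Finite A (Γp 𝔞 (G.obj (op 0))) :=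
    Module.Finite.equiv ((χ 𝐔 N).trans ((ΓU 𝐔).mapIso e'.symm).toLinearEquiv)
  haveI := isIso_counit 𝐔 (G.obj (op 0)) (hG.1 0).1
  have hf : Formal2.IsFinLocFreeMod (Ideal.span {f}) 1 ((tR 𝐔).obj (ModuleCat.of A (Γp 𝔞 (G.obj (op 0))))) :=
    isFinLocFreeMod_of_iso (asIso ((tRadj 𝐔).counit.app (G.obj (op 0)))).symm hfree
  exact ⟨hΓ, finite_H_of_locFree _ h₁ h₂ (Γp 𝔞 (G.obj (op 0))) hf 2 le_rfl⟩

theorem algebraization_principal [IsAdicComplete (Ideal.span {f}) A] (hnzd : f ∈ nonZeroDivisors A)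
    (h₁ : Module.Finite A (LocCoh.H 𝔞 1 (A ⧸ Ideal.span {f})))
    (h₂ : Module.Finite A (LocCoh.H 𝔞 2 (A ⧸ Ideal.span {f})))
    (hG : Formal.IsCohFormal (Ideal.span {f}) G)
    (hfree : ∀ n : ℕ, Formal2.IsFinLocFreeMod (Ideal.span {f}) (n + 1) (G.obj (op n))) :
    ∃ F : (LocCoh.puncturedOpen A 𝔞 : Scheme.{u}).Modules, Coh.IsCoh F ∧
      Nonempty (Formal.completion (Ideal.span {f}) F ≅ G) := by
  let I := Ideal.span {f}
  let T := mkTower hnzd hG hfree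
  obtain ⟨hΓ, hH2⟩ := finite_level_zero hG (hfree 0) h₁ h₂
  haveI := hΓ
  haveI := T.finite_lim
  let M := ↥T.Lim
  refine ⟨(tR 𝐔).obj (ModuleCat.of A M), ?_, ?_⟩
  · haveI : IsNoetherianRing (CommRingCat.of A : Type u) := inferInstanceAs (IsNoetherianRing A)
    haveI : Module.Finite (CommRingCat.of A : Type u) (ModuleCat.of A M) := inferInstanceAs (Module.Finite A M)
    exact TildeOpenLib.isCoh_restrict_tilde (R := CommRingCat.of A) (V := 𝐔) (ModuleCat.of A M)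
  choose θ hθ using fun n => exists_modPow_iso_tR 𝐔 I (n + 1) M
  let l : ∀ n, (M ⧸ (I ^ (n + 1) • (⊤ : Submodule A M))) →ₗ[A] Γp 𝔞 (G.obj (op n)) := fun n =>
    Submodule.liftQ _ (T.pr n) (T.ker_pr n).ge
  have hlinj : ∀ n, Function.Injective (l n) := fun n => (injective_iff_map_eq_zero _).2 fun q hq => by
    obtain ⟨x, rfl⟩ := Submodule.Quotient.mk_surjective _ q
    exact (Submodule.Quotient.mk_eq_zero _).2 ((T.ker_pr n).le hq)
  have hlcok : ∀ n, CokTors 𝔞 (l n) := fun n z => (T.cokTors_pr hH2 n z).imp fun k hk b hb => by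
    obtain ⟨x, hx⟩ := hk b hb
    exact ⟨Submodule.Quotient.mk x, hx⟩
  haveI := fun n => isIso_tR (hlinj n) (hlcok n)
  haveI := fun n => isIso_counit 𝐔 (G.obj (op n)) (hG.1 n).1
  let C : ∀ n, (Formal.completion I ((tR 𝐔).obj (ModuleCat.of A M))).obj (op n) ≅ G.obj (op n) := fun n =>
    θ n ≪≫ asIso ((tR 𝐔).map (ModuleCat.ofHom (l n))) ≪≫ asIso ((tRadj 𝐔).counit.app (G.obj (op n)))
  have hC : ∀ n, Formal.modPowπ I (n + 1) ((tR 𝐔).obj (ModuleCat.of A M)) ≫ (C n).hom =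
      (tR 𝐔).map (ModuleCat.ofHom (T.pr n)) ≫ (tRadj 𝐔).counit.app (G.obj (op n)) := by
    intro n
    show _ ≫ (θ n).hom ≫ (tR 𝐔).map (ModuleCat.ofHom (l n)) ≫ (tRadj 𝐔).counit.app (G.obj (op n)) = _
    rw [← Category.assoc, hθ, ← Category.assoc, ← Functor.map_comp]
    rfl
  have hnat : ∀ n, (Formal.completion I ((tR 𝐔).obj (ModuleCat.of A M))).map (homOfLE (n.le_add_right 1)).op ≫
      (C n).hom = (C (n + 1)).hom ≫ G.map (homOfLE (n.le_add_right 1)).op := by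
    intro n
    show (Functor.ofOpSequence (X := fun m => Formal.modPow I (m + 1) ((tR 𝐔).obj (ModuleCat.of A M)))
      (fun m => Formal.modPowTrans I (m + 1) _)).map _ ≫ _ = _
    rw [Functor.ofOpSequence_map_homOfLE_succ]
    refine (cancel_epi (cokernel.π (Formal.smulFamily (I ^ (n + 1 + 1)) ((tR 𝐔).obj (ModuleCat.of A M))))).1 ?_
    show Formal.modPowπ I (n + 1 + 1) _ ≫ _ = Formal.modPowπ I (n + 1 + 1) _ ≫ _
    refine (Category.assoc _ _ _).symm.trans ((congrArg (· ≫ _) (Formal.modPowπ_trans I (n + 1) _)).trans ?_)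
    refine (hC n).trans ((Eq.trans ?_ (congrArg (· ≫ trS G n) (hC (n + 1))).symm).trans (Category.assoc _ _ _))
    rw [Category.assoc]
    refine Eq.trans ?_ (congrArg ((tR 𝐔).map (ModuleCat.ofHom (T.pr (n + 1))) ≫ ·)
      ((tRadj 𝐔).counit.naturality (trS G n)))
    rw [← Category.assoc]
    refine congrArg (· ≫ _) ?_
    show _ = (tR 𝐔).map _ ≫ (tR 𝐔).map ((ΓU 𝐔).map (trS G n))
    rw [← Functor.map_comp]
    exact congrArg (tR 𝐔).map (ModuleCat.hom_ext (LinearMap.ext fun x => (x.2 n).symm))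
  let α : Formal.completion I ((tR 𝐔).obj (ModuleCat.of A M)) ⟶ G := NatTrans.ofOpSequence (fun n => (C n).hom) hnat
  haveI : ∀ n, IsIso (α.app n) := fun n => inferInstanceAs (IsIso (C n.unop).hom)
  haveI : IsIso α := NatIso.isIso_of_isIso_app α
  exact ⟨asIso α⟩

end Groth.Agent.PuncSecLib
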