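import Groth.Agent.PuncSecLib.Formal

/-!
# Formal cohomology along a principal ideal, with torsion
-/

set_option autoImplicit false
set_option linter.style.haveILetI false
set_option backward.isDefEq.respectTransparency.types false

universe u

open CategoryTheory AlgebraicGeometry TopologicalSpace Opposite

noncomputable section

namespace Groth.Agent.PuncSecLib

variable {A : Type u} [CommRing A] [IsNoetherianRing A] {𝔞 : Ideal A} (f : A)
  (M : Type u) [AddCommGroup M] [Module A M] (c : ℕ)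

local notation "𝐔" => LocCoh.puncturedOpen A 𝔞

/-- The torsion. -/
abbrev Tor : Submodule A M := LinearMap.ker (LinearMap.lsmul A M (f ^ c))

/-- The torsion-free quotient. -/
abbrev Qt : Type u := M ⧸ Tor f M c

theorem qt_regular (hc : ∀ (n : ℕ) (x : M), f ^ n • x = 0 → f ^ c • x = 0) :
    IsSMulRegular (Qt f M c) f := by
  refine (isSMulRegular_iff_right_eq_zero_of_smul).2 fun q hq => ?_
  obtain ⟨m, rfl⟩ := Submodule.Quotient.mk_surjective _ q
  rw [← Submodule.Quotient.mk_smul, Submodule.Quotient.mk_eq_zero] at hq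
  refine (Submodule.Quotient.mk_eq_zero _).2 (hc (c + 1) m ?_)
  rw [pow_succ, mul_smul]
  exact hq

/-- The inclusion of the torsion at a level. -/
abbrev ιn (n : ℕ) : Tor f M c →ₗ[A] Formal2.quotPow A (Ideal.span {f}) M n :=
  (Formal2.quotPowπ A (Ideal.span {f}) M n).comp (Tor f M c).subtype

/-- The projection at a level. -/
def pn (n : ℕ) : Formal2.quotPow A (Ideal.span {f}) M n →ₗ[A] Formal2.quotPow A (Ideal.span {f}) (Qt f M c) n :=
  Submodule.mapQ _ _ (Tor f M c).mkQ (by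
    intro x hx
    obtain ⟨y, rfl⟩ := (mem_pow_smul_top f M _ x).1 hx
    exact (mem_pow_smul_top f (Qt f M c) _ _).2 ⟨(Tor f M c).mkQ y, (map_smul _ _ _).symm⟩)

theorem pn_mk (n : ℕ) (x : M) :
    pn f M c n (Submodule.Quotient.mk x) = Submodule.Quotient.mk (Submodule.Quotient.mk x) :=
  Submodule.mapQ_apply _ _ _ x

theorem pn_comp_π (n : ℕ) :
    (pn f M c n).comp (Formal2.quotPowπ A (Ideal.span {f}) M n) =
      (Formal2.quotPowπ A (Ideal.span {f}) (Qt f M c) n).comp (Tor f M c).mkQ :=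
  LinearMap.ext fun x => pn_mk f M c n x

theorem pn_comp_trans (n : ℕ) :
    (pn f M c n).comp (Formal2.quotPowTrans A (Ideal.span {f}) M n) =
      (Formal2.quotPowTrans A (Ideal.span {f}) (Qt f M c) n).comp (pn f M c (n + 1)) := by
  refine Submodule.linearMap_qext _ (LinearMap.ext fun x => ?_)
  show pn f M c n (Formal2.quotPowTrans A (Ideal.span {f}) M n (Submodule.Quotient.mk x)) =
    Formal2.quotPowTrans A (Ideal.span {f}) (Qt f M c) n (pn f M c (n + 1) (Submodule.Quotient.mk x))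
  rw [quotPowTrans_mk, pn_mk, pn_mk, quotPowTrans_mk]

theorem qle_comp_pn {n m : ℕ} (h : n ≤ m) :
    (pn f M c n).comp (qle f M h) = (qle f (Qt f M c) h).comp (pn f M c m) := by
  refine Submodule.linearMap_qext _ (LinearMap.ext fun x => ?_)
  show pn f M c n (qle f M h (Submodule.Quotient.mk x)) =
    qle f (Qt f M c) h (pn f M c m (Submodule.Quotient.mk x))
  rw [qle_mk, pn_mk, pn_mk, qle_mk]

theorem qle_comp_ιn {n m : ℕ} (h : n ≤ m) : (qle f M h).comp (ιn f M c m) = ιn f M c n :=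
  LinearMap.ext fun x => qle_mk f M h (x : M)

theorem pn_surjective (n : ℕ) : Function.Surjective (pn f M c n) := fun q => by
  obtain ⟨q, rfl⟩ := Submodule.Quotient.mk_surjective _ q
  obtain ⟨m, rfl⟩ := Submodule.Quotient.mk_surjective _ q
  exact ⟨Submodule.Quotient.mk m, pn_mk f M c n m⟩

theorem ιn_injective (hc : ∀ (n : ℕ) (x : M), f ^ n • x = 0 → f ^ c • x = 0) {n : ℕ} (hn : c ≤ n + 1) :
    Function.Injective (ιn f M c n) := by
  refine (injective_iff_map_eq_zero _).2 fun t ht => Subtype.ext ?_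
  obtain ⟨y, hy⟩ := (mem_pow_smul_top f M _ _).1 ((Submodule.Quotient.mk_eq_zero _).1 ht)
  have hyt : f ^ c • y = 0 := hc (c + (n + 1)) y (by
    rw [pow_add, mul_smul, hy]
    exact t.2)
  show (Tor f M c).subtype t = 0
  rw [← hy, ← Nat.sub_add_cancel hn, pow_add, mul_smul, hyt, smul_zero]

theorem range_ιn (n : ℕ) : LinearMap.range (ιn f M c n) = LinearMap.ker (pn f M c n) := by
  ext q
  obtain ⟨m, rfl⟩ := Submodule.Quotient.mk_surjective _ q
  rw [LinearMap.mem_ker, pn_mk, Submodule.Quotient.mk_eq_zero, LinearMap.mem_range]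
  constructor
  · rintro ⟨t, ht⟩
    have ht' : (t : M) - m ∈ Ideal.span {f} ^ (n + 1) • (⊤ : Submodule A M) := (Submodule.Quotient.eq _).1 ht
    obtain ⟨y, hy⟩ := (mem_pow_smul_top f M _ _).1 ht'
    refine (mem_pow_smul_top f (Qt f M c) _ _).2 ⟨-Submodule.Quotient.mk y, ?_⟩
    rw [smul_neg, ← Submodule.Quotient.mk_smul, ← Submodule.Quotient.mk_neg, Submodule.Quotient.eq, hy,
      neg_sub]
    rw [sub_sub_cancel_left]
    exact neg_mem t.2
  · intro h
    obtain ⟨y, hy⟩ := (mem_pow_smul_top f (Qt f M c) _ _).1 h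
    obtain ⟨y, rfl⟩ := Submodule.Quotient.mk_surjective _ y
    rw [← Submodule.Quotient.mk_smul, Submodule.Quotient.eq] at hy
    refine ⟨⟨m - f ^ (n + 1) • y, by simpa using neg_mem hy⟩, (Submodule.Quotient.eq _).2 ?_⟩
    refine (mem_pow_smul_top f M _ _).2 ⟨-y, ?_⟩
    rw [smul_neg]
    show _ = m - f ^ (n + 1) • y - m
    abel

theorem sc_tor_eq_zero (i : ℕ) (V : (Sp A).Opens) (x : H (Tor f M c) i V) : sc (f ^ c) i V x = 0 := by
  rw [sc, show LinearMap.lsmul A (Tor f M c) (f ^ c) = 0 from LinearMap.ext fun t => Subtype.ext t.2, hm_zero]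

theorem killH_qt {i k : ℕ} (h : KillH 𝔞 i M (f ^ k)) : KillH 𝔞 i (Qt f M c) (f ^ (k + c)) := by
  intro x
  have hex : LinearMap.range (Tor f M c).subtype = LinearMap.ker (Tor f M c).mkQ := by
    rw [Submodule.range_subtype, Submodule.ker_mkQ]
  obtain ⟨y, hy⟩ := exists_of_δ_eq_zero (Submodule.injective_subtype _) (Submodule.mkQ_surjective _) hex i 𝐔
    (sc (f ^ c) i 𝐔 x) (by rw [δ_sc, sc_tor_eq_zero])
  rw [pow_add, ← sc_sc, ← hy, ← hm_sc, h, map_zero]

theorem killC_qt {k : ℕ} (h : KillC 𝔞 M (f ^ k)) : KillC 𝔞 (Qt f M c) (f ^ (k + c)) := by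
  intro x
  have hex : LinearMap.range (Tor f M c).subtype = LinearMap.ker (Tor f M c).mkQ := by
    rw [Submodule.range_subtype, Submodule.ker_mkQ]
  obtain ⟨y, hy⟩ := exists_of_δ_eq_zero (Submodule.injective_subtype _) (Submodule.mkQ_surjective _) hex 0 𝐔
    (sc (f ^ c) 0 𝐔 x) (by rw [δ_sc, sc_tor_eq_zero])
  obtain ⟨m, hm'⟩ := h y
  exact ⟨(Tor f M c).mkQ m, by rw [pow_add, ← sc_sc, ← hy, ← hm_sc, hm', hm_η]⟩

theorem exists_torsion_stable (hc : ∀ (n : ℕ) (x : M), f ^ n • x = 0 → f ^ c • x = 0) (i : ℕ) {k : ℕ}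
    (hk : i = 0 ∨ KillH 𝔞 i (Qt f M c) (f ^ k)) :
    ∃ N : ℕ, c ≤ N ∧ ∀ t : H (Tor f M c) i 𝐔, hm (ιn f M c N) i 𝐔 t = 0 →
      hm (Tor f M c).subtype i 𝐔 t = 0 := by
  rcases i with _ | j
  · exact ⟨c, le_rfl, fun t ht => by
      rw [(injective_iff_map_eq_zero _).1 (hm_injective_zero (ιn_injective f M c hc (Nat.le_succ c)) _) t ht, map_zero]⟩
  have hk : KillH 𝔞 (j + 1) (Qt f M c) (f ^ k) := hk.resolve_left (Nat.succ_ne_zero j)
  have hex : LinearMap.range (Tor f M c).subtype = LinearMap.ker (Tor f M c).mkQ := by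
    rw [Submodule.range_subtype, Submodule.ker_mkQ]
  refine ⟨c + k, Nat.le_add_right c k, fun t ht => ?_⟩
  obtain ⟨z, hz⟩ := exists_δ_of_hm_eq_zero (ιn_injective f M c hc (by omega)) (pn_surjective f M c (c + k))
    (range_ιn f M c (c + k)) j 𝐔 t ht
  obtain ⟨w, hw⟩ := exists_lift (qt_regular f M c hc) hk c z
  have h1 := δ_natural (ιn_injective f M c hc (by omega : c ≤ c + k + 1)) (pn_surjective f M c (c + k))
    (range_ιn f M c (c + k)) (ιn_injective f M c hc (Nat.le_succ c)) (pn_surjective f M c c) (range_ιn f M c c)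
    LinearMap.id (qle f M (Nat.le_add_right c k)) (qle f (Qt f M c) (Nat.le_add_right c k))
    (qle_comp_ιn f M c _).symm (qle_comp_pn f M c _) j 𝐔 z
  have h2 := δ_natural (Submodule.injective_subtype (Tor f M c)) (Submodule.mkQ_surjective _) hex
    (ιn_injective f M c hc (Nat.le_succ c)) (pn_surjective f M c c) (range_ιn f M c c)
    LinearMap.id (Formal2.quotPowπ A (Ideal.span {f}) M c) (Formal2.quotPowπ A (Ideal.span {f}) (Qt f M c) c)
    (LinearMap.ext fun _ => rfl) (pn_comp_π f M c c) j 𝐔 w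
  rw [hz, hm_id] at h1
  rw [hw, h1, hm_id] at h2
  rw [h2, hm_δ]

theorem formal_main (i : ℕ) {k : ℕ} (hc : ∀ (n : ℕ) (x : M), f ^ n • x = 0 → f ^ c • x = 0)
    (hk : KillH 𝔞 (i + 1) (Qt f M c) (f ^ k)) (hk' : i = 0 ∨ KillH 𝔞 i (Qt f M c) (f ^ k))
    (hC : Compl 𝔞 f (Qt f M c) i) :
    Formal2.FormalCohBijective A (Ideal.span {f}) M i 𝐔 := by
  obtain ⟨N, hcN, hN⟩ := exists_torsion_stable f M c hc i hk'
  obtain ⟨hinj, hsurj⟩ := formal_reg (qt_regular f M c hc) hk hC
  have hex : LinearMap.range (Tor f M c).subtype = LinearMap.ker (Tor f M c).mkQ := by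
    rw [Submodule.range_subtype, Submodule.ker_mkQ]
  have hιπ : ∀ n (t : H (Tor f M c) i 𝐔), hm (Formal2.quotPowπ A (Ideal.span {f}) M n) i 𝐔
      (hm (Tor f M c).subtype i 𝐔 t) = hm (ιn f M c n) i 𝐔 t := fun n t => (hm_comp _ _ i _ t).symm
  have hpπ : ∀ n (x : H M i 𝐔), hm (Formal2.quotPowπ A (Ideal.span {f}) (Qt f M c) n) i 𝐔
      (hm (Tor f M c).mkQ i 𝐔 x) = hm (pn f M c n) i 𝐔 (hm (Formal2.quotPowπ A (Ideal.span {f}) M n) i 𝐔 x) := by
    intro n x
    rw [← hm_comp, ← hm_comp, pn_comp_π]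
  refine ⟨fun (x x' : H M i 𝐔) hx => ?_,
    fun (y : ∀ n, H (Formal2.quotPow A (Ideal.span {f}) M n) i 𝐔) hy => ?_⟩
  · have hz : ∀ n, hm (Formal2.quotPowπ A (Ideal.span {f}) M n) i 𝐔 (x - x') = 0 := fun n => by
      refine (AddMonoidHom.map_sub (hm (Formal2.quotPowπ A (Ideal.span {f}) M n) i 𝐔) x x').trans ?_
      exact sub_eq_zero.2 (hx n)
    obtain ⟨t, ht⟩ := exists_of_hm_eq_zero (Submodule.injective_subtype _) (Submodule.mkQ_surjective _) hex i 𝐔
      (x - x') (hinj _ fun n => by rw [hpπ, hz, map_zero])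
    have h0 := hN t (by rw [← hιπ, ht, hz])
    exact sub_eq_zero.1 (ht.symm.trans h0)
  · have hy : Compat (𝔞 := 𝔞) M i y := hy
    obtain ⟨x', hx'⟩ := hsurj (fun n => hm (pn f M c n) i 𝐔 (y n)) (fun n => by
      rw [← hm_comp, ← pn_comp_trans, hm_comp, hy n])
    have hδ : δ (Submodule.injective_subtype (Tor f M c)) (Submodule.mkQ_surjective _) hex i 𝐔 x' = 0 := by
      have h2 := δ_natural (Submodule.injective_subtype (Tor f M c)) (Submodule.mkQ_surjective _) hex
        (ιn_injective f M c hc (by omega : c ≤ N + 1)) (pn_surjective f M c N) (range_ιn f M c N)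
        LinearMap.id (Formal2.quotPowπ A (Ideal.span {f}) M N) (Formal2.quotPowπ A (Ideal.span {f}) (Qt f M c) N)
        (LinearMap.ext fun _ => rfl) (pn_comp_π f M c N) i 𝐔 x'
      rw [hx' N, δ_hm, hm_id] at h2
      exact h2.symm
    obtain ⟨x, hx⟩ := exists_of_δ_eq_zero (Submodule.injective_subtype _) (Submodule.mkQ_surjective _) hex i 𝐔 x' hδ
    have ht : ∀ n, N ≤ n → ∃ t, hm (ιn f M c n) i 𝐔 t =
        y n - hm (Formal2.quotPowπ A (Ideal.span {f}) M n) i 𝐔 x := fun n hn =>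
      exists_of_hm_eq_zero (ιn_injective f M c hc (by omega)) (pn_surjective f M c n) (range_ιn f M c n) i 𝐔 _
        (by rw [map_sub, ← hpπ, hx, hx' n, sub_self])
    obtain ⟨t, htN⟩ := ht N le_rfl
    refine ⟨x + hm (Tor f M c).subtype i 𝐔 t, fun n => ?_⟩
    rw [HVmap_eq]
    have key : ∀ m, N ≤ m →
        hm (Formal2.quotPowπ A (Ideal.span {f}) M m) i 𝐔 (x + hm (Tor f M c).subtype i 𝐔 t) = y m := by
      intro m hm'
      obtain ⟨s, hs⟩ := ht m hm'
      have h0 : hm (ιn f M c N) i 𝐔 (s - t) = 0 := by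
        rw [map_sub, htN, ← qle_comp_ιn f M c hm', hm_comp, hs, map_sub, compat_le hy hm', ← hm_comp, qle_comp_π,
          sub_self]
      have h1 := hN (s - t) h0
      rw [map_sub, sub_eq_zero] at h1
      rw [map_add, ← h1, hιπ, hs, add_sub_cancel]
    rw [← qle_comp_π f M (le_max_left n N), hm_comp, key _ (le_max_right n N)]
    exact compat_le hy _

theorem killH_mono {i k k' : ℕ} (hkk : k ≤ k') {N : Type u} [AddCommGroup N] [Module A N]
    (h : KillH 𝔞 i N (f ^ k)) : KillH 𝔞 i N (f ^ k') := fun x => by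
  rw [← Nat.sub_add_cancel hkk, pow_add, ← sc_sc, h, map_zero]

end Groth.Agent.PuncSecLib
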