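import Groth.Agent.PuncSecLib.ModuleSystem
import Groth.Agent.LocZLib.Flasque

/-!
# `A`-linear dimension shifting on an open of `Spec A`, and Artinian cohomology
-/

set_option autoImplicit false
set_option linter.style.haveILetI false
set_option backward.isDefEq.respectTransparency.types false
set_option linter.unusedSectionVars false
set_option maxHeartbeats 1000000

universe u

open CategoryTheory CategoryTheory.Limits AlgebraicGeometry TopologicalSpace Opposite

noncomputable section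

namespace Groth.Agent.PuncSecLib

variable {A : Type u} [CommRing A]

section General

variable {X : Scheme.{u}}

theorem smul_HH_eq [X.Over (Sp A)] (M : X.Modules) (n : ℕ) (a : A) (x : Coh.HH X M n) :
    a • x = Sheaf.H.map ((SheafOfModules.toSheaf _).map (Formal.smulMod A M a)) n x := rfl

variable {S : ShortComplex X.Modules} (hS : S.ShortExact)

/-- The connecting map on `Coh.HH`. -/
def δH (n : ℕ) : Coh.HH X S.X₃ n →+ Coh.HH X S.X₁ (n + 1) :=
  ((CohBase.HEquiv (X := X.toTopCat) (Coh.toAb S.X₁) (n + 1)).symm.toAddMonoidHom.comp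
    (CohBase.hδ (QCohLib.toAb_shortExact hS) ⊤ n)).comp
    (CohBase.HEquiv (X := X.toTopCat) (Coh.toAb S.X₃) n).toAddMonoidHom

theorem δH_map_g (n : ℕ) (y : Coh.HH X S.X₂ n) :
    δH hS n (Sheaf.H.map ((SheafOfModules.toSheaf _).map S.g) n y) = 0 := by
  refine (congrArg (CohBase.HEquiv (X := X.toTopCat) (Coh.toAb S.X₁) (n + 1)).symm
    ((CohBase.hδ_eq_zero_iff (QCohLib.toAb_shortExact hS) ⊤ n _).2
      ⟨CohBase.HEquiv (X := X.toTopCat) (Coh.toAb S.X₂) n y,
        (CohBase.HEquiv_map ((SheafOfModules.toSheaf _).map S.g) n y).symm⟩)).trans (map_zero _)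

theorem δH_surjective (n : ℕ) [Subsingleton (CohBase.HU (X := X.toTopCat) ⊤ (Coh.toAb S.X₂) (n + 1))] :
    Function.Surjective (δH hS n) := fun x => by
  haveI : Subsingleton (CohBase.HU ⊤ (S.map (QCohLib.toAbF X)).X₂ (n + 1)) := ‹_›
  obtain ⟨w, hw⟩ := CohBase.hδ_surjective (QCohLib.toAb_shortExact hS) ⊤ n
    (CohBase.HEquiv (X := X.toTopCat) (Coh.toAb S.X₁) (n + 1) x)
  refine ⟨(CohBase.HEquiv (X := X.toTopCat) (Coh.toAb S.X₃) n).symm w, ?_⟩
  show (CohBase.HEquiv _ (n + 1)).symm (CohBase.hδ _ ⊤ n (CohBase.HEquiv _ n ((CohBase.HEquiv _ n).symm w))) = x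
  rw [AddEquiv.apply_symm_apply, hw]
  exact (CohBase.HEquiv _ (n + 1)).symm_apply_apply x

variable [X.Over (Sp A)]

theorem δH_smul (n : ℕ) (a : A) (x : Coh.HH X S.X₃ n) : δH hS n (a • x) = a • δH hS n x := by
  let φ : S ⟶ S := ShortComplex.homMk (Formal.smulMod A S.X₁ a) (Formal.smulMod A S.X₂ a) (Formal.smulMod A S.X₃ a)
    (by
      first
        | exact FormalLib.smulMod_natural S.f a
        | exact (FormalLib.smulMod_natural S.f a).symm)
    (by
      first
        | exact FormalLib.smulMod_natural S.g a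
        | exact (FormalLib.smulMod_natural S.g a).symm)
  let h' := QCohLib.toAb_shortExact hS
  have hnat := CohBase.hδ_naturality h' h' ((QCohLib.toAbF X).mapShortComplex.map φ) ⊤ n
    (CohBase.HEquiv (X := X.toTopCat) (Coh.toAb S.X₃) n x)
  rw [smul_HH_eq, smul_HH_eq]
  apply (CohBase.HEquiv (X := X.toTopCat) (Coh.toAb S.X₁) (n + 1)).injective
  refine ((CohBase.HEquiv _ (n + 1)).apply_symm_apply _).trans ?_
  refine ((congrArg (CohBase.hδ h' ⊤ n) (CohBase.HEquiv_map _ n x)).trans hnat.symm).trans ?_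
  refine Eq.trans ?_ (CohBase.HEquiv_map _ (n + 1) _).symm
  exact congrArg (CohBase.hmap ⊤ _ (n + 1)) ((CohBase.HEquiv _ (n + 1)).apply_symm_apply _).symm

/-- The connecting map, linear. -/
def δL (n : ℕ) : Coh.HH X S.X₃ n →ₗ[A] Coh.HH X S.X₁ (n + 1) :=
  { δH hS n with map_smul' := δH_smul hS n }

/-- Induced maps, linear. -/
def mapL {M N : X.Modules} (g : M ⟶ N) (n : ℕ) : Coh.HH X M n →ₗ[A] Coh.HH X N n :=
  { Sheaf.H.map ((SheafOfModules.toSheaf _).map g) n with
    map_smul' := fun a x => by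
      show Sheaf.H.map _ n (a • x) = a • Sheaf.H.map ((SheafOfModules.toSheaf _).map g) n x
      rw [smul_HH_eq, smul_HH_eq, Formal.HHmap_comp, Formal.HHmap_comp]
      have e : Formal.smulMod A M a ≫ g = g ≫ Formal.smulMod A N a := FormalLib.smulMod_natural g a
      exact congrArg (fun t => Sheaf.H.map ((SheafOfModules.toSheaf _).map t) n x) e }

end General

variable [IsNoetherianRing A] {𝔞 : Ideal A}

local notation "𝐔" => LocCoh.puncturedOpen A 𝔞

theorem tR_shortExact {K E C : Type u} [AddCommGroup K] [Module A K] [AddCommGroup E] [Module A E]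
    [AddCommGroup C] [Module A C] {ι : K →ₗ[A] E} {π : E →ₗ[A] C} (hι : Function.Injective ι)
    (hπ : Function.Surjective π) (hex : LinearMap.range ι = LinearMap.ker π) (U : (Sp A).Opens) :
    ((mseq hex).map (tR U)).ShortExact := by
  have hS : (mseq hex).ShortExact :=
    { exact := ShortComplex.Exact.moduleCat_of_range_eq_ker _ _ hex
      mono_f := (ModuleCat.mono_iff_injective _).2 hι
      epi_g := (ModuleCat.epi_iff_surjective _).2 hπ }
  haveI : Mono ((mseq hex).map (tR U)).f := mono_tR U hι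
  haveI := hS.epi_g
  haveI : Epi ((mseq hex).map (tR U)).g := (tR U).map_epi (mseq hex).g
  haveI : PreservesColimitsOfSize.{u, u} (tR U) := (tRadj U).leftAdjoint_preservesColimits
  haveI : PreservesColimitsOfSize.{0, 0} (tR U) := preservesColimitsOfSize_shrink _
  exact ShortComplex.ShortExact.mk' (ShortComplex.exact_of_g_is_cokernel _
    (CokernelCofork.mapIsColimit _ hS.gIsCokernel (tR U))) inferInstance inferInstance

theorem subsingleton_HU_tR_of_injective (U : (Sp A).Opens) (E : Type u) [AddCommGroup E] [Module A E]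
    [Module.Injective A E] (n : ℕ) :
    Subsingleton (CohBase.HU (X := (U : Scheme.{u}).toTopCat) ⊤ (Coh.toAb ((tR U).obj (ModuleCat.of A E))) (n + 1)) := by
  haveI : TopCat.Sheaf.IsFlasque (X := (U : Scheme.{u}).toTopCat) (Coh.toAb ((tR U).obj (ModuleCat.of A E))) :=
    LocZLib.isFlasque_of_surjective _ fun {W V} h => by
      intro s
      obtain ⟨m, hm⟩ := ε_surjective_of_injective (M := E) (U.ι ''ᵁ W) s
      exact ⟨ε E (U.ι ''ᵁ V) m, (rs_ε (U.ι.image_mono h) m).trans hm⟩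
  exact LocZLib.subsingleton_HU_flasque (X := (U : Scheme.{u}).toTopCat) ⊤ n _

/-- Sections as degree zero cohomology. -/
def Ψ (F : (𝐔 : Scheme.{u}).Modules) : Γp 𝔞 F ≃+ Coh.HH (𝐔 : Scheme.{u}) F 0 :=
  ((CohBase.HEquiv (X := (𝐔 : Scheme.{u}).toTopCat) (Coh.toAb F) 0).trans (CohBase.H0Equiv ⊤ (Coh.toAb F))).symm

theorem Ψ_natural {F G : (𝐔 : Scheme.{u}).Modules} (g : F ⟶ G) (z : Γp 𝔞 F) :
    Sheaf.H.map ((SheafOfModules.toSheaf _).map g) 0 (Ψ F z) = Ψ G (((ΓU 𝐔).map g).hom z) := by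
  apply (((CohBase.HEquiv (X := (𝐔 : Scheme.{u}).toTopCat) (Coh.toAb G) 0).trans
    (CohBase.H0Equiv ⊤ (Coh.toAb G)))).injective
  refine Eq.trans ?_ (AddEquiv.apply_symm_apply _ _).symm
  show CohBase.H0Equiv ⊤ _ (CohBase.HEquiv _ 0 (Sheaf.H.map _ 0 (Ψ F z))) = _
  rw [CohBase.HEquiv_map]
  refine (CohBase.H0Equiv_hmap ⊤ _ _).trans ?_
  exact congrArg _ ((((CohBase.HEquiv (X := (𝐔 : Scheme.{u}).toTopCat) (Coh.toAb F) 0).trans
    (CohBase.H0Equiv ⊤ (Coh.toAb F)))).apply_symm_apply z)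

/-- Sections as degree zero cohomology, linear. -/
def ΨL (F : (𝐔 : Scheme.{u}).Modules) : Γp 𝔞 F ≃ₗ[A] Coh.HH (𝐔 : Scheme.{u}) F 0 :=
  { Ψ F with
    map_smul' := fun a z => by
      show Ψ F (a • z) = a • Ψ F z
      rw [smul_HH_eq, Ψ_natural, ΓU_map_smulMod] }

variable (𝔞) in
theorem isArtinian_HH_tR : ∀ (q : ℕ) (M : Type u) [AddCommGroup M] [Module A M],
    IsArtinian A (LocCoh.H 𝔞 (q + 2) M) →
      IsArtinian A (Coh.HH (𝐔 : Scheme.{u}) ((tR 𝐔).obj (ModuleCat.of A M)) (q + 1)) := by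
  intro q
  induction q with
  | zero =>
    intro M _ _ hart
    obtain ⟨E, ι, hE, hι⟩ := exists_embedding (A := A) M
    let π := (LinearMap.range ι).mkQ
    have hex : LinearMap.range ι = LinearMap.ker π := (Submodule.ker_mkQ _).symm
    let hS := tR_shortExact hι (Submodule.mkQ_surjective _) hex 𝐔
    have hS₀ : (mseq hex).ShortExact :=
      { exact := ShortComplex.Exact.moduleCat_of_range_eq_ker _ _ hex
        mono_f := (ModuleCat.mono_iff_injective _).2 hι
        epi_g := (ModuleCat.epi_iff_surjective _).2 (Submodule.mkQ_surjective _) }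
    haveI : Injective (mseq hex).X₂ := Module.injective_object_of_injective_module A ↥E
    haveI : Subsingleton ((localCohomology 𝔞 1).obj (mseq hex).X₂ : Type u) := LocCohLib.subsingleton_of_injective 0
    haveI : IsArtinian A ((localCohomology 𝔞 (1 + 1)).obj (mseq hex).X₁ : Type u) := hart
    haveI : IsArtinian A (LocCoh.H 𝔞 1 (↥E ⧸ LinearMap.range ι)) := isArtinian_of_injective
      (LocCohLib.δ 𝔞 hS₀ 1) ((injective_iff_map_eq_zero _).2 fun z hz => by
        obtain ⟨w, rfl⟩ := LocCohLib.exists_of_δ_eq_zero 𝔞 hS₀ 1 z hz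
        rw [Subsingleton.elim w 0, map_zero]
        rfl)
    haveI := isArtinian_obs (𝔞 := 𝔞) (C := ↥E ⧸ LinearMap.range ι)
    let d : Γp 𝔞 ((tR 𝐔).obj (ModuleCat.of A (↥E ⧸ LinearMap.range ι))) →ₗ[A]
        Coh.HH (𝐔 : Scheme.{u}) ((tR 𝐔).obj (ModuleCat.of A M)) (0 + 1) :=
      (δL (S := (mseq hex).map (tR 𝐔)) hS 0).comp (ΨL _).toLinearMap
    have hd : LinearMap.range (υ 𝐔 (↥E ⧸ LinearMap.range ι)) ≤ LinearMap.ker d := by
      rintro _ ⟨c, rfl⟩
      obtain ⟨e, rfl⟩ := Submodule.mkQ_surjective _ c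
      show δH hS 0 (Ψ _ (υ 𝐔 _ (π e))) = 0
      refine (congrArg (δH hS 0) ((congrArg (Ψ (𝔞 := 𝔞) _) (υ_natural 𝐔 π e).symm).trans
        (Ψ_natural (𝔞 := 𝔞) ((tR 𝐔).map (ModuleCat.ofHom π)) (υ 𝐔 ↥E e)).symm)).trans ?_
      exact δH_map_g hS 0 _
    refine isArtinian_of_surjective _ ((LinearMap.range (υ 𝐔 (↥E ⧸ LinearMap.range ι))).liftQ d hd) fun x => ?_
    haveI : Subsingleton (CohBase.HU (X := (𝐔 : Scheme.{u}).toTopCat) ⊤ (Coh.toAb ((mseq hex).map (tR 𝐔)).X₂) (0 + 1)) :=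
      subsingleton_HU_tR_of_injective 𝐔 ↥E 0
    obtain ⟨w, rfl⟩ := δH_surjective hS 0 x
    obtain ⟨z, rfl⟩ := (Ψ _).surjective w
    exact ⟨Submodule.Quotient.mk z, rfl⟩
  | succ q ih =>
    intro M _ _ hart
    obtain ⟨E, ι, hE, hι⟩ := exists_embedding (A := A) M
    let π := (LinearMap.range ι).mkQ
    have hex : LinearMap.range ι = LinearMap.ker π := (Submodule.ker_mkQ _).symm
    let hS := tR_shortExact hι (Submodule.mkQ_surjective _) hex 𝐔
    have hS₀ : (mseq hex).ShortExact :=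
      { exact := ShortComplex.Exact.moduleCat_of_range_eq_ker _ _ hex
        mono_f := (ModuleCat.mono_iff_injective _).2 hι
        epi_g := (ModuleCat.epi_iff_surjective _).2 (Submodule.mkQ_surjective _) }
    haveI : Injective (mseq hex).X₂ := Module.injective_object_of_injective_module A ↥E
    haveI : Subsingleton ((localCohomology 𝔞 (q + 2)).obj (mseq hex).X₂ : Type u) :=
      LocCohLib.subsingleton_of_injective (q + 1)
    haveI : IsArtinian A ((localCohomology 𝔞 (q + 2 + 1)).obj (mseq hex).X₁ : Type u) := hart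
    have hIH := ih (↥E ⧸ LinearMap.range ι) (isArtinian_of_injective
      (LocCohLib.δ 𝔞 hS₀ (q + 2)) ((injective_iff_map_eq_zero _).2 fun z hz => by
        obtain ⟨w, rfl⟩ := LocCohLib.exists_of_δ_eq_zero 𝔞 hS₀ (q + 2) z hz
        rw [Subsingleton.elim w 0, map_zero]
        rfl))
    haveI : Subsingleton (CohBase.HU (X := (𝐔 : Scheme.{u}).toTopCat) ⊤ (Coh.toAb ((mseq hex).map (tR 𝐔)).X₂) (q + 1 + 1)) :=
      subsingleton_HU_tR_of_injective 𝐔 ↥E (q + 1)
    haveI : IsArtinian A (Coh.HH (𝐔 : Scheme.{u}) ((mseq hex).map (tR 𝐔)).X₃ (q + 1)) := hIH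
    exact isArtinian_of_surjective _ (δL (S := (mseq hex).map (tR 𝐔)) hS (q + 1)) (δH_surjective hS (q + 1))

end Groth.Agent.PuncSecLib
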