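import Groth.Agent.PuncSecLib.Cohom
import Groth.Agent.LocCohLib.Basic

/-!
# Annihilators of `Hⁱ(U, M~)` from annihilators of local cohomology
-/

set_option autoImplicit false
set_option linter.style.haveILetI false
set_option backward.isDefEq.respectTransparency.types false

universe u

open CategoryTheory CategoryTheory.Limits AlgebraicGeometry TopologicalSpace Opposite

noncomputable section

namespace Groth.Agent.PuncSecLib

variable {A : Type u} [CommRing A] [IsNoetherianRing A] (𝔞 : Ideal A)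

/-- `a` carries every section over the punctured open into the image of `M`. -/
def KillC (M : Type u) [AddCommGroup M] [Module A M] (a : A) : Prop :=
  ∀ s : H M 0 (LocCoh.puncturedOpen A 𝔞), ∃ m : M,
    sc a 0 (LocCoh.puncturedOpen A 𝔞) s = η M (LocCoh.puncturedOpen A 𝔞) m

/-- `a` kills the cohomology in degree `i`. -/
def KillH (i : ℕ) (M : Type u) [AddCommGroup M] [Module A M] (a : A) : Prop :=
  ∀ x : H M i (LocCoh.puncturedOpen A 𝔞), sc a i (LocCoh.puncturedOpen A 𝔞) x = 0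

variable (M : Type u) [AddCommGroup M] [Module A M]

theorem killC_of_H1 (a : A) (h : ∀ z : LocCoh.H 𝔞 1 M, a • z = 0) : KillC 𝔞 M a := by
  intro s
  let U := LocCoh.puncturedOpen A 𝔞
  obtain ⟨E, ι, hE, hι⟩ := exists_embedding (A := A) M
  let π : ↥E →ₗ[A] ↥E ⧸ LinearMap.range ι := (LinearMap.range ι).mkQ
  have hπ : Function.Surjective π := Submodule.mkQ_surjective _
  have hex : LinearMap.range ι = LinearMap.ker π := (Submodule.ker_mkQ _).symm
  obtain ⟨e, he⟩ := η_surjective_of_injective (M := ↥E) U (hm ι 0 U s)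
  have h0 : η (↥E ⧸ LinearMap.range ι) U (π e) = 0 := by
    rw [← hm_η, he]
    exact hm_hm_eq_zero hex 0 U s
  have htor : π e ∈ DRing.torsionSub 𝔞 (↥E ⧸ LinearMap.range ι) := (η_eq_zero_iff_pow _).1 h0
  have hS : (mseq hex).ShortExact :=
    { exact := ShortComplex.Exact.moduleCat_of_range_eq_ker _ _ hex
      mono_f := (ModuleCat.mono_iff_injective _).2 hι
      epi_g := (ModuleCat.epi_iff_surjective _).2 hπ }
  obtain ⟨w, hw⟩ := (SetLike.ext_iff.1 (LocCohLib.range_h0 (I := 𝔞) (M := (mseq hex).X₃)) (π e)).2 htor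
  have hδ0 : LocCohLib.δ 𝔞 hS 0 (a • w) = 0 :=
    ((LocCohLib.δ 𝔞 hS 0).map_smul a w).trans (h _)
  obtain ⟨v, hv⟩ := LocCohLib.exists_of_δ_eq_zero 𝔞 hS 0 (a • w) hδ0
  have hg : LocCohLib.h0 𝔞 (mseq hex).X₂ v ∈ DRing.torsionSub 𝔞 ↥E :=
    (SetLike.ext_iff.1 (LocCohLib.range_h0 (I := 𝔞) (M := (mseq hex).X₂)) _).1 (LinearMap.mem_range_self _ v)
  obtain ⟨g, hgdef⟩ : ∃ g : ↥E, g = LocCohLib.h0 𝔞 (mseq hex).X₂ v := ⟨_, rfl⟩
  rw [← hgdef] at hg
  have hπg : π g = a • π e := by
    rw [hgdef]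
    refine (LocCohLib.h0_map (mseq hex).g v).symm.trans ?_
    refine (congrArg (LocCohLib.h0 𝔞 (mseq hex).X₃) hv).trans ?_
    exact ((LocCohLib.h0 𝔞 (mseq hex).X₃).map_smul a w).trans (congrArg (a • ·) hw)
  obtain ⟨m, hm'⟩ : a • e - g ∈ LinearMap.range ι := by
    rw [hex, LinearMap.mem_ker, map_sub, map_smul, hπg, sub_self]
  refine ⟨m, hm_injective_zero hι U ?_⟩
  rw [hm_η, hm', map_sub, hm_sc, ← he, sc_η, (η_eq_zero_iff_pow _).2 hg, sub_zero]

theorem killH_of_H (i : ℕ) : ∀ (M : Type u) [AddCommGroup M] [Module A M] (a : A),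
    (∀ z : LocCoh.H 𝔞 (i + 2) M, a • z = 0) → KillH 𝔞 (i + 1) M a := by
  induction i with
  | zero =>
    intro M _ _ a h x
    let U := LocCoh.puncturedOpen A 𝔞
    obtain ⟨E, ι, hE, hι⟩ := exists_embedding (A := A) M
    let π : ↥E →ₗ[A] ↥E ⧸ LinearMap.range ι := (LinearMap.range ι).mkQ
    have hπ : Function.Surjective π := Submodule.mkQ_surjective _
    have hex : LinearMap.range ι = LinearMap.ker π := (Submodule.ker_mkQ _).symm
    have hS : (mseq hex).ShortExact :=
      { exact := ShortComplex.Exact.moduleCat_of_range_eq_ker _ _ hex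
        mono_f := (ModuleCat.mono_iff_injective _).2 hι
        epi_g := (ModuleCat.epi_iff_surjective _).2 hπ }
    haveI : Injective (mseq hex).X₂ := Module.injective_object_of_injective_module A ↥E
    haveI := subsingleton_of_injective' (M := ↥E) 0 U
    obtain ⟨w, rfl⟩ := exists_δ_of_hm_eq_zero hι hπ hex 0 U x (Subsingleton.elim _ _)
    have hQ : ∀ z : LocCoh.H 𝔞 1 (↥E ⧸ LinearMap.range ι), a • z = 0 := fun z => by
      haveI : Subsingleton ((localCohomology 𝔞 1).obj (mseq hex).X₂ : Type u) :=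
        LocCohLib.subsingleton_of_injective 0
      obtain ⟨y, hy⟩ := LocCohLib.exists_of_δ_eq_zero 𝔞 hS 1 (a • z) (((LocCohLib.δ 𝔞 hS _).map_smul a z).trans (h _))
      rw [Subsingleton.elim y 0, map_zero] at hy
      exact hy.symm
    obtain ⟨q, hq⟩ := killC_of_H1 𝔞 _ a hQ w
    obtain ⟨e, rfl⟩ := hπ q
    rw [← δ_sc, hq, ← hm_η, δ_hm]
  | succ i ih =>
    intro M _ _ a h x
    let U := LocCoh.puncturedOpen A 𝔞
    obtain ⟨E, ι, hE, hι⟩ := exists_embedding (A := A) M
    let π : ↥E →ₗ[A] ↥E ⧸ LinearMap.range ι := (LinearMap.range ι).mkQ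
    have hπ : Function.Surjective π := Submodule.mkQ_surjective _
    have hex : LinearMap.range ι = LinearMap.ker π := (Submodule.ker_mkQ _).symm
    have hS : (mseq hex).ShortExact :=
      { exact := ShortComplex.Exact.moduleCat_of_range_eq_ker _ _ hex
        mono_f := (ModuleCat.mono_iff_injective _).2 hι
        epi_g := (ModuleCat.epi_iff_surjective _).2 hπ }
    haveI : Injective (mseq hex).X₂ := Module.injective_object_of_injective_module A ↥E
    haveI := subsingleton_of_injective' (M := ↥E) (i + 1) U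
    obtain ⟨w, rfl⟩ := exists_δ_of_hm_eq_zero hι hπ hex (i + 1) U x (Subsingleton.elim _ _)
    have hQ : ∀ z : LocCoh.H 𝔞 (i + 2) (↥E ⧸ LinearMap.range ι), a • z = 0 := fun z => by
      haveI : Subsingleton ((localCohomology 𝔞 (i + 2)).obj (mseq hex).X₂ : Type u) :=
        LocCohLib.subsingleton_of_injective (i + 1)
      obtain ⟨y, hy⟩ := LocCohLib.exists_of_δ_eq_zero 𝔞 hS (i + 2) (a • z) (((LocCohLib.δ 𝔞 hS _).map_smul a z).trans (h _))
      rw [Subsingleton.elim y 0, map_zero] at hy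
      exact hy.symm
    rw [← δ_sc, ih _ a hQ w, map_zero]

end Groth.Agent.PuncSecLib
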