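import Groth.Agent.PuncSecLib.Cohom
import Groth.Agent.PuncSecLib.Kill
import Groth.Agent.FiniteCompleteLib.Basic

/-!
# Formal cohomology of `M~` on a punctured open along a principal ideal
-/

set_option autoImplicit false
set_option linter.style.haveILetI false
set_option backward.isDefEq.respectTransparency.types false

universe u

open CategoryTheory AlgebraicGeometry TopologicalSpace Opposite

noncomputable section

namespace Groth.Agent.PuncSecLib

section Ideals

variable {A : Type u} [CommRing A] (f : A) (M : Type u) [AddCommGroup M] [Module A M]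

theorem mem_pow_smul_top (n : ℕ) (x : M) :
    x ∈ Ideal.span {f} ^ n • (⊤ : Submodule A M) ↔ ∃ y : M, f ^ n • y = x := by
  rw [Ideal.span_singleton_pow, Submodule.ideal_span_singleton_smul]
  constructor
  · intro h
    obtain ⟨y, -, hy⟩ := Submodule.mem_smul_pointwise_iff_exists _ _ _ |>.1 h
    exact ⟨y, hy⟩
  · rintro ⟨y, rfl⟩
    exact Submodule.smul_mem_pointwise_smul y _ _ Submodule.mem_top

/-- The projection between levels. -/
def qle {n m : ℕ} (h : n ≤ m) :
    Formal2.quotPow A (Ideal.span {f}) M m →ₗ[A] Formal2.quotPow A (Ideal.span {f}) M n :=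
  Submodule.factor (Submodule.smul_mono_left (Ideal.pow_le_pow_right (by omega)))

theorem qle_mk {n m : ℕ} (h : n ≤ m) (x : M) :
    qle f M h (Submodule.Quotient.mk x) = Submodule.Quotient.mk x :=
  Submodule.factor_mk (Submodule.smul_mono_left (Ideal.pow_le_pow_right (by omega))) x

theorem qle_comp_π {n m : ℕ} (h : n ≤ m) :
    (qle f M h).comp (Formal2.quotPowπ A (Ideal.span {f}) M m) = Formal2.quotPowπ A (Ideal.span {f}) M n :=
  LinearMap.ext fun x => qle_mk f M h x

theorem quotPowTrans_mk (n : ℕ) (x : M) :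
    Formal2.quotPowTrans A (Ideal.span {f}) M n (Submodule.Quotient.mk x) = Submodule.Quotient.mk x :=
  Submodule.mapQ_apply _ _ _ x

theorem qle_trans_eq {n m : ℕ} (h : n ≤ m) :
    (qle f M h).comp (Formal2.quotPowTrans A (Ideal.span {f}) M m) = qle f M (h.trans (Nat.le_succ m)) := by
  refine Submodule.linearMap_qext _ (LinearMap.ext fun x => ?_)
  show qle f M h (Formal2.quotPowTrans A (Ideal.span {f}) M m (Submodule.Quotient.mk x)) =
    qle f M (h.trans (Nat.le_succ m)) (Submodule.Quotient.mk x)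
  rw [quotPowTrans_mk, qle_mk, qle_mk]

theorem qle_self (n : ℕ) : qle f M (le_refl n) = LinearMap.id :=
  Submodule.linearMap_qext _ (LinearMap.ext fun x => qle_mk f M (le_refl n) x)

theorem range_lsmul (n : ℕ) :
    LinearMap.range (LinearMap.lsmul A M (f ^ (n + 1))) =
      LinearMap.ker (Formal2.quotPowπ A (Ideal.span {f}) M n) := by
  ext x
  rw [LinearMap.mem_range, LinearMap.mem_ker, Submodule.mkQ_apply, Submodule.Quotient.mk_eq_zero,
    mem_pow_smul_top]
  rfl

theorem π_surjective (n : ℕ) : Function.Surjective (Formal2.quotPowπ A (Ideal.span {f}) M n) :=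
  Submodule.mkQ_surjective _

variable [IsNoetherianRing A] [Module.Finite A M]

theorem exists_stable : ∃ c : ℕ, ∀ (n : ℕ) (x : M), f ^ n • x = 0 → f ^ c • x = 0 := by
  let g : ℕ →o Submodule A M := ⟨fun n => LinearMap.ker (LinearMap.lsmul A M (f ^ n)), fun a b h x hx => by
    have hx' : f ^ a • x = 0 := hx
    show f ^ b • x = 0
    rw [← Nat.sub_add_cancel h, pow_add, mul_smul, hx', smul_zero]⟩
  obtain ⟨c, hc⟩ := monotone_stabilizes_iff_noetherian.2 (inferInstance : IsNoetherian A M) g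
  refine ⟨c, fun n x hx => ?_⟩
  have h : x ∈ g (max c n) := g.mono (le_max_right c n) hx
  rw [← hc _ (le_max_left c n)] at h
  exact h

end Ideals

variable {A : Type u} [CommRing A] [IsNoetherianRing A] {𝔞 : Ideal A} {f : A}

local notation "𝐔" => LocCoh.puncturedOpen A 𝔞

/-- Divisibility by a power of `f`. -/
def Dv (f : A) {M : Type u} [AddCommGroup M] [Module A M] {i : ℕ} {V : (Sp A).Opens} (n : ℕ)
    (x : H M i V) : Prop := ∃ h, sc (f ^ (n + 1)) i V h = x

section Reg

variable {M : Type u} [AddCommGroup M] [Module A M] {i : ℕ}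

omit [IsNoetherianRing A] in
theorem dv_add {V : (Sp A).Opens} {n : ℕ} {x y : H M i V} (hx : Dv f n x) (hy : Dv f n y) :
    Dv f n (x + y) := by
  obtain ⟨a, rfl⟩ := hx
  obtain ⟨b, rfl⟩ := hy
  exact ⟨a + b, map_add _ _ _⟩

omit [IsNoetherianRing A] in
theorem dv_mono {V : (Sp A).Opens} {n m : ℕ} (h : n ≤ m) {x : H M i V} (hx : Dv f m x) : Dv f n x := by
  obtain ⟨a, rfl⟩ := hx
  refine ⟨sc (f ^ (m - n)) i V a, ?_⟩
  rw [sc_sc, ← pow_add, show n + 1 + (m - n) = m + 1 by omega]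

omit [IsNoetherianRing A] in
theorem dv_tele {V : (Sp A).Opens} (x : ℕ → H M i V) (hx : ∀ n, Dv f n (x (n + 1) - x n)) {n m : ℕ}
    (h : n ≤ m) : Dv f n (x m - x n) := by
  induction m, h using Nat.le_induction with
  | base => exact ⟨0, by rw [map_zero, sub_self]⟩
  | succ k hk ih => rw [← sub_add_sub_cancel (x (k + 1)) (x k) (x n)]; exact dv_add (dv_mono hk (hx k)) ih

variable (f M i 𝔞) in
/-- The cohomology group is separated and complete. -/
def Compl : Prop :=
  (∀ x : H M i 𝐔, (∀ n, Dv f n x) → x = 0) ∧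
  ∀ x : ℕ → H M i 𝐔, (∀ n, Dv f n (x (n + 1) - x n)) → ∃ z, ∀ n, Dv f n (z - x n)

omit [IsNoetherianRing A] in
theorem compl_of_killH {k : ℕ} (h : KillH 𝔞 i M (f ^ k)) : Compl 𝔞 f M i := by
  have h0 : ∀ n, k ≤ n → ∀ x : H M i 𝐔, Dv f n x → x = 0 := by
    rintro n hn x ⟨a, rfl⟩
    rw [show n + 1 = n + 1 - k + k by omega, pow_add, ← sc_sc, h, map_zero]
  refine ⟨fun x hx => h0 k le_rfl x (hx k), fun x hx => ⟨x k, fun n => ?_⟩⟩
  rcases le_total n k with hnk | hnk
  · exact dv_tele x hx hnk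
  · have e := h0 k le_rfl _ (dv_tele x hx hnk)
    exact ⟨0, by rw [map_zero, ← neg_sub, e, neg_zero]⟩

theorem η_injective (hf : f ∈ 𝔞) (hreg : IsSMulRegular M f) : Function.Injective (η M 𝐔) := by
  refine (injective_iff_map_eq_zero _).2 fun m hm => ?_
  obtain ⟨n, hn⟩ := (η_eq_zero_iff_pow m).1 hm
  exact (hreg.pow n).right_eq_zero_of_smul (hn _ (Ideal.pow_mem_pow hf n))

theorem compl_of_killC (hf : f ∈ 𝔞) (hreg : IsSMulRegular M f) [IsAdicComplete (Ideal.span {f}) A]
    [Module.Finite A M] {k : ℕ} (h : KillC 𝔞 M (f ^ k)) : Compl 𝔞 f M 0 := by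
  haveI := FiniteCompleteLib.isAdicComplete_of_finite (Ideal.span {f}) M
  have hη := η_injective (M := M) hf hreg
  refine ⟨fun x hx => ?_, fun x hx => ?_⟩
  · have h1 : ∀ n, ∃ t : M, x = η M 𝐔 (f ^ (n + 1) • t) := fun n => by
      obtain ⟨a, rfl⟩ := hx (n + k)
      obtain ⟨t, ht⟩ := h a
      exact ⟨t, by rw [show n + k + 1 = n + 1 + k by omega, pow_add, ← sc_sc, ht, sc_η]⟩
    choose t ht using h1
    rw [ht 0]
    refine (congrArg _ (IsHausdorff.haus (inferInstance : IsHausdorff (Ideal.span {f}) M) (f ^ (0 + 1) • t 0) fun n => ?_)).trans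
      (map_zero _)
    rw [SModEq.zero, mem_pow_smul_top]
    rcases n with _ | n
    · exact ⟨f ^ (0 + 1) • t 0, by rw [pow_zero, one_smul]⟩
    · exact ⟨t n, hη ((ht n).symm.trans (ht 0))⟩
  · have h1 : ∀ j, ∃ t : M, x (k + j + 1) - x (k + j) = η M 𝐔 (f ^ (j + 1) • t) := fun j => by
      obtain ⟨a, ha⟩ := hx (k + j)
      obtain ⟨t, ht⟩ := h a
      exact ⟨t, by rw [← ha, show k + j + 1 = j + 1 + k by omega, pow_add, ← sc_sc, ht, sc_η]⟩
    choose t ht using h1
    let z : ℕ → M := fun j => ∑ l ∈ Finset.range j, f ^ (l + 1) • t l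
    have hz : ∀ j, x (k + j) - x k = η M 𝐔 (z j) := by
      intro j
      induction j with
      | zero => simp [z]
      | succ j ih =>
        rw [show z (j + 1) = z j + f ^ (j + 1) • t j from Finset.sum_range_succ _ _, map_add, ← ih, ← ht j,
          ← add_assoc k j 1]
        abel
    obtain ⟨L, hL⟩ := IsPrecomplete.prec (inferInstance : IsPrecomplete (Ideal.span {f}) M)
      (f := z) (fun {a b} hab => by
        rw [SModEq.sub_mem, mem_pow_smul_top]
        refine ⟨- ∑ l ∈ Finset.Ico a b, f ^ (l + 1 - a) • t l, ?_⟩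
        rw [smul_neg, Finset.smul_sum]
        show _ = z a - z b
        rw [← neg_sub (z b), show z b - z a = ∑ l ∈ Finset.Ico a b, f ^ (l + 1) • t l from
          (Finset.sum_Ico_eq_sub _ hab).symm]
        refine congrArg _ (Finset.sum_congr rfl fun l hl => ?_)
        rw [smul_smul, ← pow_add, show a + (l + 1 - a) = l + 1 from by have := (Finset.mem_Ico.1 hl).1; omega])
    refine ⟨x k + η M 𝐔 L, fun n => ?_⟩
    have e : x k + η M 𝐔 L - x n = (x (k + (n + 1)) - x n) + η M 𝐔 (L - z (n + 1)) := by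
      rw [map_sub, ← hz]
      abel
    rw [e]
    refine dv_add (dv_tele x hx (by omega)) ?_
    have := hL (n + 1)
    rw [SModEq.sub_mem, mem_pow_smul_top] at this
    obtain ⟨y, hy⟩ := this
    exact ⟨η M 𝐔 (-y), by rw [sc_η, smul_neg, hy, neg_sub]⟩

variable (M) in
/-- A compatible family. -/
def Compat (i : ℕ) (y : ∀ n, H (Formal2.quotPow A (Ideal.span {f}) M n) i 𝐔) : Prop :=
  ∀ n, hm (Formal2.quotPowTrans A (Ideal.span {f}) M n) i 𝐔 (y (n + 1)) = y n

omit [IsNoetherianRing A] in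
theorem compat_le {y : ∀ n, H (Formal2.quotPow A (Ideal.span {f}) M n) i 𝐔} (hy : Compat (𝔞 := 𝔞) M i y)
    {n m : ℕ} (h : n ≤ m) : hm (qle f M h) i 𝐔 (y m) = y n := by
  induction m, h using Nat.le_induction with
  | base => rw [qle_self, hm_id]
  | succ k hk ih => rw [← qle_trans_eq f M hk, hm_comp, hy, ih]

omit [IsNoetherianRing A] in
theorem exists_lift (hreg : IsSMulRegular M f) {k : ℕ} (hk : KillH 𝔞 (i + 1) M (f ^ k)) (n : ℕ)
    (y : H (Formal2.quotPow A (Ideal.span {f}) M (n + k)) i 𝐔) :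
    ∃ x, hm (Formal2.quotPowπ A (Ideal.span {f}) M n) i 𝐔 x = hm (qle f M (Nat.le_add_right n k)) i 𝐔 y := by
  have hinj : ∀ j, Function.Injective (LinearMap.lsmul A M (f ^ (j + 1))) := fun j => hreg.pow (j + 1)
  refine exists_of_δ_eq_zero (hinj n) (π_surjective f M n) (range_lsmul f M n) i 𝐔 _ ?_
  rw [δ_natural (hinj (n + k)) (π_surjective f M (n + k)) (range_lsmul f M (n + k)) (hinj n) (π_surjective f M n)
    (range_lsmul f M n) (LinearMap.lsmul A M (f ^ k)) LinearMap.id (qle f M (Nat.le_add_right n k)) ?_ ?_ i 𝐔 y]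
  · exact hk _
  · refine LinearMap.ext fun m => ?_
    show f ^ (n + 1) • f ^ k • m = f ^ (n + k + 1) • m
    rw [smul_smul, ← pow_add, show n + 1 + k = n + k + 1 by omega]
  · exact LinearMap.ext fun _ => rfl

omit [IsNoetherianRing A] in
theorem formal_reg (hreg : IsSMulRegular M f) {k : ℕ} (hk : KillH 𝔞 (i + 1) M (f ^ k))
    (hc : Compl 𝔞 f M i) :
    (∀ x : H M i 𝐔, (∀ n, hm (Formal2.quotPowπ A (Ideal.span {f}) M n) i 𝐔 x = 0) → x = 0) ∧
    ∀ y, Compat (𝔞 := 𝔞) (f := f) M i y →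
      ∃ x : H M i 𝐔, ∀ n, hm (Formal2.quotPowπ A (Ideal.span {f}) M n) i 𝐔 x = y n := by
  have hinj : ∀ j, Function.Injective (LinearMap.lsmul A M (f ^ (j + 1))) := fun j => hreg.pow (j + 1)
  have hker : ∀ n (x : H M i 𝐔), hm (Formal2.quotPowπ A (Ideal.span {f}) M n) i 𝐔 x = 0 → Dv f n x :=
    fun n x hx => exists_of_hm_eq_zero (hinj n) (π_surjective f M n) (range_lsmul f M n) i 𝐔 x hx
  have hdv : ∀ n (x : H M i 𝐔), Dv f n x → hm (Formal2.quotPowπ A (Ideal.span {f}) M n) i 𝐔 x = 0 := by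
    rintro n x ⟨a, rfl⟩
    exact hm_hm_eq_zero (range_lsmul f M n) i 𝐔 a
  refine ⟨fun x hx => hc.1 x fun n => hker n x (hx n), fun y hy => ?_⟩
  have hx : ∀ n, ∃ x, hm (Formal2.quotPowπ A (Ideal.span {f}) M n) i 𝐔 x = y n := fun n => by
    obtain ⟨x, hx⟩ := exists_lift hreg hk n (y (n + k))
    exact ⟨x, hx.trans (compat_le hy _)⟩
  choose x hx using hx
  obtain ⟨z, hz⟩ := hc.2 x fun n => hker n _ (by
    rw [map_sub, hx n, ← qle_comp_π f M (Nat.le_succ n), hm_comp, hx (n + 1)]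
    exact sub_eq_zero.2 (compat_le hy _))
  exact ⟨z, fun n => sub_eq_zero.1 (((congrArg _ (hx n).symm).trans (map_sub _ _ _).symm).trans (hdv n _ (hz n)))⟩

end Reg

end Groth.Agent.PuncSecLib
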