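import Groth.Agent.PuncSecLib.Kill
import Groth.Agent.PuncSecLib.Formal

/-!
# Algebraization of formal sections along a principal ideal, up to shrinking the open
-/

set_option autoImplicit false
set_option linter.style.haveILetI false
set_option backward.isDefEq.respectTransparency.types false

universe u

open CategoryTheory AlgebraicGeometry TopologicalSpace Opposite

noncomputable section

namespace Groth.Agent.PuncSecLib

variable {A : Type u} [CommRing A]

theorem h0_res {M : Type u} [AddCommGroup M] [Module A M] {V W : (Sp A).Opens} (h : V ≤ W) (x : H M 0 W) :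
    h0 M V (Formal2.HVres A M 0 h x) = rs M h (h0 M W x) := by
  obtain ⟨φ, rfl⟩ := Abelian.Ext.addEquiv₀.symm.surjective x
  show CohBase.secEquiv V (tsh A M) (Abelian.Ext.addEquiv₀ _) =
    rs M h (CohBase.secEquiv W (tsh A M) (Abelian.Ext.addEquiv₀ _))
  rw [AddEquiv.apply_symm_apply]
  refine (congrArg (fun z => CohBase.secEquiv V (tsh A M) (Abelian.Ext.addEquiv₀ z))
    (Abelian.Ext.mk₀_comp_mk₀ (CohCx.freeSheafMap (Opens.grothendieckTopology (Sp A)) (homOfLE h)) φ)).trans ?_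
  rw [← Abelian.Ext.addEquiv₀_symm_apply, AddEquiv.apply_symm_apply, CohBase.secEquiv_apply,
    CohBase.secEquiv_apply]
  exact CohFree.evalGen_freeSheafMap_comp (Opens.grothendieckTopology (Sp A)) (homOfLE h) (tsh A M) φ

theorem smul_regular_D {M : Type u} [AddCommGroup M] [Module A M] (g : A) {W : (Sp A).Opens}
    (h : W ≤ (PrimeSpectrum.basicOpen g : (Sp A).Opens)) : IsSMulRegular (Sec M W) g := fun x y hxy =>
  Scheme.Modules.isSMulRegular_of_le_basicOpen (R := CommRingCat.of A)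
    (M := tilde (R := CommRingCat.of A) (ModuleCat.of A M)) (U := W) (f := g) h hxy

theorem exists_pow_smul_eq_ε {M : Type u} [AddCommGroup M] [Module A M] (g : A)
    (s : Sec M (PrimeSpectrum.basicOpen g : (Sp A).Opens)) :
    ∃ (n : ℕ) (m : M), g ^ n • s = ε M (PrimeSpectrum.basicOpen g : (Sp A).Opens) m := by
  haveI : IsLocalizedModule (Submonoid.powers g) (ε M (PrimeSpectrum.basicOpen g : (Sp A).Opens)) :=
    IsLocalizedModule.of_linearEquiv (Submonoid.powers g)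
      (StructureSheaf.toOpenₗ A M (PrimeSpectrum.basicOpen g))
      ((tilde.modulesSpecToSheafIso (R := CommRingCat.of A) (ModuleCat.of A M)).app _).toLinearEquiv.symm
  obtain ⟨⟨m, ⟨_, n, rfl⟩⟩, hx⟩ :=
    IsLocalizedModule.surj (Submonoid.powers g) (ε M (PrimeSpectrum.basicOpen g : (Sp A).Opens)) s
  exact ⟨n, m, hx⟩

theorem sec_ext {M : Type u} [AddCommGroup M] [Module A M] {ι : Type u} {W : ι → (Sp A).Opens}
    {V : (Sp A).Opens} (hle : ∀ i, W i ≤ V) (hcov : V ≤ iSup W) (s t : Sec M V)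
    (h : ∀ i, rs M (hle i) s = rs M (hle i) t) : s = t :=
  TopCat.Sheaf.eq_of_locally_eq' (modulesSpecToSheaf.obj (tilde (R := CommRingCat.of A) (ModuleCat.of A M)))
    W V (fun i => homOfLE (hle i)) hcov s t h

variable [IsNoetherianRing A] {𝔞 : Ideal A} {f : A} (M : Type u) [AddCommGroup M] [Module A M]

local notation "𝐔" => LocCoh.puncturedOpen A 𝔞

/-- A set of generators carries the sections to a finite module. -/
theorem finite_sec [Module.Finite A M] (h : Module.Finite A (LocCoh.H 𝔞 1 M)) :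
    Module.Finite A (Sec M 𝐔) := by
  classical
  obtain ⟨G, hG⟩ := h.fg_top
  obtain ⟨t, ht⟩ : ∃ t : ℕ, ∀ z : LocCoh.H 𝔞 1 M, ∀ b ∈ 𝔞 ^ t, b • z = 0 := by
    choose n hn using fun z : LocCoh.H 𝔞 1 M => LocCohLib.isPowerTorsion (I := 𝔞) z
    refine ⟨G.sup n, fun z b hb => ?_⟩
    have hz : z ∈ Submodule.span A (G : Set (LocCoh.H 𝔞 1 M)) := hG.symm ▸ Submodule.mem_top
    induction hz using Submodule.span_induction with
    | mem z hz => exact hn z b (Ideal.pow_le_pow_right (Finset.le_sup (f := n) hz) hb)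
    | zero => exact smul_zero b
    | add x y _ _ hx hy => rw [smul_add, hx, hy, add_zero]
    | smul c x _ hx => rw [smul_comm, hx, smul_zero]
  obtain ⟨B, hB⟩ := IsNoetherian.noetherian (𝔞 ^ t)
  let R : Submodule A (Sec M 𝐔) := LinearMap.range (ε M 𝐔)
  have hR : ∀ (b : A), b ∈ 𝔞 ^ t → ∀ s : Sec M 𝐔, b • s ∈ R := fun b hb s => by
    obtain ⟨m, hm⟩ := killC_of_H1 𝔞 M b (fun z => ht z b hb) ((h0 M 𝐔).symm s)
    have hm' := congrArg (h0 M 𝐔) hm
    rw [h0_sc, AddEquiv.apply_symm_apply] at hm'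
    exact ⟨m, (hm'.trans ((h0 M 𝐔).apply_symm_apply _)).symm⟩
  have hbt : ∀ b : {b // b ∈ B}, (b : A) ∈ 𝔞 ^ t := fun b => hB ▸ Submodule.subset_span b.2
  let Φ : Sec M 𝐔 →ₗ[A] ({b // b ∈ B} → R) := LinearMap.pi fun b =>
    ((LinearMap.lsmul A (Sec M 𝐔) (b : A)).codRestrict R (hR b (hbt b)))
  refine Module.Finite.of_injective Φ ((injective_iff_map_eq_zero Φ).2 fun s hs => ?_)
  refine (rs_refl _ s).symm.trans (rs_eq_zero_of_pow (le_refl 𝐔) s ⟨t, fun b hb => ?_⟩)
  rw [← hB] at hb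
  induction hb using Submodule.span_induction with
  | mem b hb => exact congrArg Subtype.val (congrFun hs ⟨b, hb⟩)
  | zero => exact zero_smul A s
  | add x y _ _ hx hy => rw [add_smul, hx, hy, add_zero]
  | smul c x _ hx => rw [smul_eq_mul, mul_smul, hx, smul_zero]

variable (f 𝔞) in
/-- Compatible families of sections. -/
def Lim : Submodule A (∀ n, Sec (Formal2.quotPow A (Ideal.span {f}) M n) 𝐔) where
  carrier := {y | ∀ n, sm (Formal2.quotPowTrans A (Ideal.span {f}) M n) 𝐔 (y (n + 1)) = y n}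
  zero_mem' n := map_zero _
  add_mem' {x y} hx hy n := by simp only [Pi.add_apply, map_add, hx n, hy n]
  smul_mem' a x hx n := by simp only [Pi.smul_apply, map_smul, hx n]

variable (f 𝔞) in
/-- The canonical map. -/
def κ : M →ₗ[A] Lim 𝔞 f M :=
  LinearMap.codRestrict (Lim 𝔞 f M)
    (LinearMap.pi fun n => (ε (Formal2.quotPow A (Ideal.span {f}) M n) 𝐔).comp (Formal2.quotPowπ A (Ideal.span {f}) M n))
    fun m n => (sm_ε _ _ _).trans (congrArg _ (quotPowTrans_mk f M n m))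

omit [IsNoetherianRing A] in
theorem κ_apply (m : M) (n : ℕ) :
    (κ 𝔞 f M m).1 n = ε (Formal2.quotPow A (Ideal.span {f}) M n) 𝐔 (Submodule.Quotient.mk m) := rfl

/-- Multiplication by `f` raises the level. -/
def fmul (n : ℕ) : Formal2.quotPow A (Ideal.span {f}) M n →ₗ[A] Formal2.quotPow A (Ideal.span {f}) M (n + 1) :=
  Submodule.mapQ _ _ (LinearMap.lsmul A M f) (by
    intro x hx
    obtain ⟨y, rfl⟩ := (mem_pow_smul_top f M _ x).1 hx
    refine (mem_pow_smul_top f M _ _).2 ⟨y, ?_⟩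
    show f ^ (n + 1 + 1) • y = f • f ^ (n + 1) • y
    rw [smul_smul, ← pow_succ'])

omit [IsNoetherianRing A] in
theorem fmul_mk (n : ℕ) (x : M) :
    fmul (f := f) M n (Submodule.Quotient.mk x) = Submodule.Quotient.mk (f • x) :=
  Submodule.mapQ_apply _ _ _ x

omit [IsNoetherianRing A] in
theorem fmul_injective (hreg : IsSMulRegular M f) (n : ℕ) : Function.Injective (fmul (f := f) M n) := by
  refine (injective_iff_map_eq_zero _).2 fun q hq => ?_
  obtain ⟨x, rfl⟩ := Submodule.Quotient.mk_surjective _ q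
  rw [fmul_mk, Submodule.Quotient.mk_eq_zero] at hq
  obtain ⟨y, hy⟩ := (mem_pow_smul_top f M _ _).1 hq
  refine (Submodule.Quotient.mk_eq_zero _).2 ((mem_pow_smul_top f M _ _).2 ⟨y, hreg ?_⟩)
  show f • f ^ (n + 1) • y = f • x
  rw [smul_smul, ← pow_succ', hy]

omit [IsNoetherianRing A] in
theorem range_fmul (n : ℕ) :
    LinearMap.range (fmul (f := f) M n) = LinearMap.ker (qle f M (Nat.zero_le (n + 1))) := by
  ext q
  obtain ⟨x, rfl⟩ := Submodule.Quotient.mk_surjective _ q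
  rw [LinearMap.mem_ker, qle_mk, Submodule.Quotient.mk_eq_zero, LinearMap.mem_range]
  constructor
  · rintro ⟨q, hq⟩
    obtain ⟨y, rfl⟩ := Submodule.Quotient.mk_surjective _ q
    rw [fmul_mk, Submodule.Quotient.eq] at hq
    obtain ⟨z, hz⟩ := (mem_pow_smul_top f M _ _).1 hq
    refine (mem_pow_smul_top f M _ _).2 ⟨y - f ^ (n + 1) • z, ?_⟩
    rw [pow_one, smul_sub, smul_smul, ← pow_succ', hz, sub_sub_cancel]
  · intro hx
    obtain ⟨y, hy⟩ := (mem_pow_smul_top f M _ _).1 hx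
    refine ⟨Submodule.Quotient.mk y, ?_⟩
    rw [fmul_mk, ← hy, pow_one]

omit [IsNoetherianRing A] in
theorem exists_eq_smul (hreg : IsSMulRegular M f) (y : Lim 𝔞 f M) (hy : y.1 0 = 0) :
    ∃ z : Lim 𝔞 f M, y = f • z := by
  let U := LocCoh.puncturedOpen A 𝔞
  have hz : ∀ n, ∃ z, sm (fmul (f := f) M n) U z = y.1 (n + 1) := fun n => by
    have h0' : sm (qle f M (Nat.zero_le (n + 1))) U (y.1 (n + 1)) = 0 := by
      rw [← hy]
      clear hy
      induction n with
      | zero =>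
        rw [← y.2 0]
        exact congrArg (fun φ => sm φ U (y.1 (0 + 1))) (Submodule.linearMap_qext _ (LinearMap.ext fun x =>
          (qle_mk f M (Nat.zero_le (0 + 1)) x).trans (quotPowTrans_mk f M 0 x).symm))
      | succ n ih => rw [← qle_trans_eq f M (Nat.zero_le (n + 1)), sm_comp, y.2 (n + 1), ih]
    obtain ⟨w, hw⟩ := exists_of_hm_eq_zero (fmul_injective M hreg n)
      (fun q => by
        obtain ⟨x, rfl⟩ := Submodule.Quotient.mk_surjective _ q
        exact ⟨Submodule.Quotient.mk x, qle_mk f M _ x⟩) (range_fmul M n) 0 U ((h0 _ U).symm (y.1 (n + 1)))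
      ((h0 _ U).injective (by rw [h0_hm, AddEquiv.apply_symm_apply, h0', map_zero]))
    exact ⟨h0 _ U w, by rw [← h0_hm, hw, AddEquiv.apply_symm_apply]⟩
  choose z hz using hz
  have hzc : z ∈ Lim 𝔞 f M := fun n => sm_injective (fmul_injective M hreg n) U (by
    rw [hz n, ← sm_comp, ← y.2 (n + 1), ← hz (n + 1), ← sm_comp]
    refine congrArg (fun φ => sm φ U (z (n + 1))) (Submodule.linearMap_qext _ (LinearMap.ext fun x => ?_))
    show fmul (f := f) M n (Formal2.quotPowTrans A (Ideal.span {f}) M n (Submodule.Quotient.mk x)) =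
      Formal2.quotPowTrans A (Ideal.span {f}) M (n + 1) (fmul (f := f) M (n + 1) (Submodule.Quotient.mk x))
    rw [quotPowTrans_mk, fmul_mk, fmul_mk, quotPowTrans_mk])
  refine ⟨⟨z, hzc⟩, Subtype.ext (funext fun n => ?_)⟩
  show y.1 n = f • z n
  rw [← y.2 n, ← hz n, ← sm_comp, ← sm_lsmul]
  refine congrArg (fun φ => sm φ U (z n)) (Submodule.linearMap_qext _ (LinearMap.ext fun x => ?_))
  show Formal2.quotPowTrans A (Ideal.span {f}) M n (fmul (f := f) M n (Submodule.Quotient.mk x)) =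
    f • Submodule.Quotient.mk x
  rw [fmul_mk, quotPowTrans_mk, Submodule.Quotient.mk_smul]

omit [IsNoetherianRing A] in
theorem isHausdorff_lim : IsHausdorff (Ideal.span {f}) (Lim 𝔞 f M) := by
  refine ⟨fun y hy => Subtype.ext (funext fun n => ?_)⟩
  obtain ⟨z, hz⟩ := (mem_pow_smul_top f (Lim 𝔞 f M) (n + 1) y).1 (SModEq.zero.1 (hy (n + 1)))
  show y.1 n = 0
  rw [← hz]
  show f ^ (n + 1) • z.1 n = 0
  rw [← sm_lsmul, show LinearMap.lsmul A (Formal2.quotPow A (Ideal.span {f}) M n) (f ^ (n + 1)) = 0 from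
    Submodule.linearMap_qext _ (LinearMap.ext fun x => (Submodule.Quotient.mk_smul _ _ x).symm.trans
      ((Submodule.Quotient.mk_eq_zero _).2 ((mem_pow_smul_top f M _ _).2 ⟨x, rfl⟩))), sm_zero]

theorem finite_lim [IsAdicComplete (Ideal.span {f}) A] [Module.Finite A M] (hreg : IsSMulRegular M f)
    (hfin : Module.Finite A (Sec (Formal2.quotPow A (Ideal.span {f}) M 0) 𝐔)) :
    Module.Finite A (Lim 𝔞 f M) := by
  classical
  let ev : Lim 𝔞 f M →ₗ[A] Sec (Formal2.quotPow A (Ideal.span {f}) M 0) 𝐔 :=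
    (LinearMap.proj 0).comp (Lim 𝔞 f M).subtype
  haveI := hfin
  obtain ⟨r, g, hg⟩ := Module.Finite.exists_fin' A (LinearMap.range ev)
  choose w hw using fun i : Fin r => (g (Pi.single i 1)).2
  let φ : (Fin r → A) →ₗ[A] Lim 𝔞 f M := Fintype.linearCombination A w
  haveI := FiniteCompleteLib.isAdicComplete_of_finite (Ideal.span {f}) (Fin r → A)
  haveI := isHausdorff_lim (𝔞 := 𝔞) (f := f) M
  refine Module.Finite.of_surjective φ (surjective_of_mkQ_comp_surjective (I := Ideal.span {f}) fun q => ?_)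
  obtain ⟨y, rfl⟩ := Submodule.Quotient.mk_surjective _ q
  obtain ⟨c, hc⟩ := hg ⟨ev y, LinearMap.mem_range_self ev y⟩
  refine ⟨c, (Submodule.Quotient.eq _).2 ?_⟩
  have h0' : (φ c - y).1 0 = 0 := by
    show ev (φ c - y) = 0
    rw [map_sub, sub_eq_zero, Fintype.linearCombination_apply, map_sum]
    refine Eq.trans ?_ ((congrArg Subtype.val hc).trans rfl)
    conv_rhs => rw [pi_eq_sum_univ' c, map_sum, AddSubmonoidClass.coe_finsetSum]
    refine Finset.sum_congr rfl fun i _ => ?_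
    rw [map_smul, map_smul, hw i]
    rfl
  obtain ⟨z, hz⟩ := exists_eq_smul M hreg (φ c - y) h0'
  rw [hz]
  exact Submodule.smul_mem_smul (Ideal.mem_span_singleton_self f) Submodule.mem_top

theorem eq_zero_of_forall_germ [Module.Finite A M] (p : PrimeSpectrum A) (hfp : f ∈ p.asIdeal) (m : M)
    (h : ∀ n, ∃ s : A, s ∉ p.asIdeal ∧ s • (Submodule.Quotient.mk m : Formal2.quotPow A (Ideal.span {f}) M n) = 0) :
    ∃ s : A, s ∉ p.asIdeal ∧ s • m = 0 := by
  let Ap := Localization.AtPrime p.asIdeal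
  let Mp := LocalizedModule p.asIdeal.primeCompl M
  let J : Ideal Ap := IsLocalRing.maximalIdeal Ap
  haveI : IsNoetherianRing Ap := IsLocalization.isNoetherianRing p.asIdeal.primeCompl Ap inferInstance
  have hmem : (LocalizedModule.mk m 1 : Mp) ∈ (⨅ i : ℕ, J ^ i • ⊤ : Submodule Ap Mp) := by
    rw [Submodule.mem_iInf]
    intro i
    obtain ⟨s, hs, hsm⟩ := h i
    rw [← Submodule.Quotient.mk_smul, Submodule.Quotient.mk_eq_zero] at hsm
    obtain ⟨y, hy⟩ := (mem_pow_smul_top f M _ _).1 hsm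
    have e : (LocalizedModule.mk m 1 : Mp) =
        (algebraMap A Ap (f ^ (i + 1))) • LocalizedModule.mk y (⟨s, hs⟩ : p.asIdeal.primeCompl) := by
      rw [algebraMap_smul, LocalizedModule.smul'_mk, hy]
      exact LocalizedModule.mk_eq.2 ⟨1, by rw [one_smul, one_smul]; exact (one_smul _ (s • m)).symm⟩
    rw [e, map_pow]
    exact Submodule.smul_mem_smul (Ideal.pow_le_pow_right (Nat.le_succ i) (Ideal.pow_mem_pow
      ((IsLocalization.AtPrime.to_map_mem_maximal_iff Ap p.asIdeal f).2 hfp) _)) Submodule.mem_top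
  rw [Ideal.iInf_pow_smul_eq_bot_of_isLocalRing J (IsLocalRing.maximalIdeal.isMaximal Ap).ne_top,
    Submodule.mem_bot] at hmem
  obtain ⟨⟨s, hs⟩, hsm⟩ := (IsLocalizedModule.eq_zero_iff p.asIdeal.primeCompl
    (LocalizedModule.mkLinearMap p.asIdeal.primeCompl M)).1 hmem
  exact ⟨s, hs, hsm⟩

set_option maxHeartbeats 1000000 in
theorem exists_local_model [Module.Finite A M] (hreg : IsSMulRegular M f) [Module.Finite A (Lim 𝔞 f M)]
    (hH : ∃ t : ℕ, ∀ b ∈ 𝔞 ^ t, ∀ s : Sec (Formal2.quotPow A (Ideal.span {f}) M 0) 𝐔,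
      ∃ q, ε (Formal2.quotPow A (Ideal.span {f}) M 0) 𝐔 q = b • s)
    (p : PrimeSpectrum A) (hp : p ∈ 𝐔) (hfp : f ∈ p.asIdeal) (y : Lim 𝔞 f M) :
    ∃ (g : A) (m : M), g ∉ p.asIdeal ∧ (PrimeSpectrum.basicOpen g : (Sp A).Opens) ≤ 𝐔 ∧
      g • y = κ 𝔞 f M m ∧ ∀ m', κ 𝔞 f M m' = 0 → g • m' = 0 := by
  classical
  obtain ⟨a, ha, hap⟩ := Set.not_subset.1 (fun hc => hp hc)
  obtain ⟨t, ht⟩ := hH
  let K := LinearMap.range (κ 𝔞 f M)
  let N := (↥(Lim 𝔞 f M)) ⧸ K
  let b := a ^ t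
  have hb : LinearMap.range (b • (LinearMap.id : N →ₗ[A] N)) ≤ Ideal.span {f} • ⊤ := by
    rintro _ ⟨q, rfl⟩
    obtain ⟨z, rfl⟩ := Submodule.Quotient.mk_surjective _ q
    obtain ⟨q₀, hq₀⟩ := ht b (Ideal.pow_mem_pow ha t) (z.1 0)
    obtain ⟨m₀, rfl⟩ := Submodule.Quotient.mk_surjective _ q₀
    obtain ⟨w, hw⟩ := exists_eq_smul M hreg (b • z - κ 𝔞 f M m₀) (by
      show b • z.1 0 - (κ 𝔞 f M m₀).1 0 = 0
      rw [κ_apply, hq₀, sub_self])
    show b • (Submodule.Quotient.mk z : N) ∈ _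
    rw [← Submodule.Quotient.mk_smul, show b • z = f • w + κ 𝔞 f M m₀ from sub_eq_iff_eq_add.1 hw,
      Submodule.Quotient.mk_add, (Submodule.Quotient.mk_eq_zero K).2 (LinearMap.mem_range_self _ m₀), add_zero,
      Submodule.Quotient.mk_smul]
    exact Submodule.smul_mem_smul (Ideal.mem_span_singleton_self f) Submodule.mem_top
  obtain ⟨P, hP, -, hcoef, hzero⟩ :=
    LinearMap.exists_monic_and_natDegree_eq_and_coeff_mem_pow_and_aeval_eq_zero A
      (b • (LinearMap.id : N →ₗ[A] N)) (Ideal.span {f}) hb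
  let g₁ := P.eval b
  have hg₁ : g₁ ∉ p.asIdeal := by
    intro hc
    have hsum : g₁ - b ^ P.natDegree ∈ p.asIdeal := by
      show P.eval b - b ^ P.natDegree ∈ p.asIdeal
      rw [Polynomial.eval_eq_sum_range, Finset.sum_range_succ, hP.coeff_natDegree, one_mul, add_sub_cancel_right]
      refine Ideal.sum_mem _ fun i hi => Ideal.mul_mem_right _ _ ?_
      have h1 : P.coeff i ∈ Ideal.span {f} :=
        Ideal.pow_le_self (by have := Finset.mem_range.1 hi; omega) (hcoef i)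
      exact ((Ideal.span_singleton_le_iff_mem _).2 hfp) h1
    have : b ^ P.natDegree ∈ p.asIdeal := by simpa using p.asIdeal.sub_mem hc hsum
    exact hap (p.2.mem_of_pow_mem _ (p.2.mem_of_pow_mem _ this))
  have hg₁N : ∀ q : N, g₁ • q = 0 := fun q => by
    have e : b • (LinearMap.id : N →ₗ[A] N) = algebraMap A (Module.End A N) b := by
      ext; simp [Algebra.algebraMap_eq_smul_one]
    rw [e, Polynomial.aeval_algebraMap_apply] at hzero
    simpa [Algebra.algebraMap_eq_smul_one, g₁] using LinearMap.congr_fun hzero q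
  obtain ⟨m, hm⟩ : g₁ • y ∈ K :=
    (Submodule.Quotient.mk_eq_zero K).1 ((Submodule.Quotient.mk_smul K g₁ y).trans (hg₁N _))
  have hker : ∀ m' : M, κ 𝔞 f M m' = 0 → ∃ s : A, s ∉ p.asIdeal ∧ s • m' = 0 := fun m' hm' => by
    refine eq_zero_of_forall_germ M p hfp m' fun n => ?_
    have e : ε (Formal2.quotPow A (Ideal.span {f}) M n) 𝐔 (Submodule.Quotient.mk m') = 0 := by
      rw [← κ_apply, hm']; rfl
    exact (ε_eq_zero_iff _ _).1 e p hp
  obtain ⟨G, hG⟩ := IsNoetherian.noetherian (LinearMap.ker (κ 𝔞 f M))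
  choose s hs hsm using fun m' : {x // x ∈ G} =>
    hker m'.1 (show m'.1 ∈ LinearMap.ker (κ 𝔞 f M) from hG ▸ Submodule.subset_span m'.2)
  refine ⟨g₁ * (∏ x, s x) * a, ((∏ x, s x) * a) • m, fun hc => ?_, ?_, ?_, fun m' hm' => ?_⟩
  · rcases p.2.mem_or_mem hc with h1 | h1
    · rcases p.2.mem_or_mem h1 with h2 | h2
      · exact hg₁ h2
      · obtain ⟨x, -, hx⟩ := (p.2.prod_mem_iff).1 h2
        exact hs x hx
    · exact hap h1
  · intro q hq hq'
    exact hq (q.asIdeal.mul_mem_left _ (hq' ha))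
  · rw [map_smul, hm, smul_smul]
    congr 1
    ring
  · have hm'' : m' ∈ Submodule.span A (G : Set M) := hG.symm ▸ (LinearMap.mem_ker.2 hm')
    clear hm'
    induction hm'' using Submodule.span_induction with
    | mem x hx =>
      obtain ⟨d, hd⟩ := Finset.dvd_prod_of_mem s (Finset.mem_univ (⟨x, hx⟩ : {x // x ∈ G}))
      rw [hd, show g₁ * (s ⟨x, hx⟩ * d) * a = g₁ * d * a * s ⟨x, hx⟩ by ring, mul_smul, hsm ⟨x, hx⟩, smul_zero]
    | zero => exact smul_zero _
    | add x y _ _ hx hy => rw [smul_add, hx, hy, add_zero]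
    | smul c x _ hx => rw [smul_comm, hx, smul_zero]

/-- Existence, on a smaller open. -/
theorem exists_algebraic [Module.Finite A M] (hreg : IsSMulRegular M f) [Module.Finite A (Lim 𝔞 f M)]
    (hH : ∃ t : ℕ, ∀ b ∈ 𝔞 ^ t, ∀ s : Sec (Formal2.quotPow A (Ideal.span {f}) M 0) 𝐔,
      ∃ q, ε (Formal2.quotPow A (Ideal.span {f}) M 0) 𝐔 q = b • s)
    (y : Lim 𝔞 f M) :
    ∃ (V : (Sp A).Opens) (hV : Formal2.Admissible A (Ideal.span {f}) 𝐔 V) (x : Sec M V),
      ∀ n, rs (Formal2.quotPow A (Ideal.span {f}) M n) hV.1 (y.1 n) =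
        sm (Formal2.quotPowπ A (Ideal.span {f}) M n) V x := by
  let P := {q : A × M // (PrimeSpectrum.basicOpen q.1 : (Sp A).Opens) ≤ 𝐔 ∧ q.1 • y = κ 𝔞 f M q.2 ∧
    ∀ m', κ 𝔞 f M m' = 0 → q.1 • m' = 0}
  let W : P → (Sp A).Opens := fun q => PrimeSpectrum.basicOpen q.1.1
  let V : (Sp A).Opens := iSup W
  have hVU : V ≤ 𝐔 := iSup_le fun q => q.2.1
  have hV : Formal2.Admissible A (Ideal.span {f}) 𝐔 V := by
    refine ⟨hVU, fun p hp hpf => ?_⟩
    have hfp : f ∈ p.asIdeal := hpf (Ideal.mem_span_singleton_self f)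
    obtain ⟨g, m, hg, h1, h2, h3⟩ := exists_local_model M hreg hH p hp hfp y
    exact Opens.mem_iSup.2 ⟨⟨(g, m), h1, h2, h3⟩, hg⟩
  have hu : ∀ q : P, IsUnit (algebraMap A (Module.End A (Sec M (W q))) q.1.1) := fun q =>
    Scheme.Modules.isUnit_algebraMap_end_of_le_basicOpen (R := CommRingCat.of A)
      (M := tilde (R := CommRingCat.of A) (ModuleCat.of A M)) (U := W q) q.1.1 le_rfl
  choose x hx using fun q : P => ((Module.End.isUnit_iff _).1 (hu q)).2 (ε M (W q) q.1.2)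
  have hx' : ∀ q : P, q.1.1 • x q = ε M (W q) q.1.2 := hx
  obtain ⟨s, hs, -⟩ := TopCat.Sheaf.existsUnique_gluing'
    (modulesSpecToSheaf.obj (tilde (R := CommRingCat.of A) (ModuleCat.of A M))) W V
    (fun q => homOfLE (le_iSup W q)) le_rfl x (fun q q' => by
      show rs M (inf_le_left : W q ⊓ W q' ≤ W q) (x q) = rs M (inf_le_right : W q ⊓ W q' ≤ W q') (x q')
      have hr := smul_regular_D (M := M) q.1.1 (inf_le_left : W q ⊓ W q' ≤ W q)
      have hr' := smul_regular_D (M := M) q'.1.1 (inf_le_right : W q ⊓ W q' ≤ W q')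
      refine hr' (hr ?_)
      show q.1.1 • q'.1.1 • rs M (inf_le_left : W q ⊓ W q' ≤ W q) (x q) =
        q.1.1 • q'.1.1 • rs M (inf_le_right : W q ⊓ W q' ≤ W q') (x q')
      rw [smul_comm, ← map_smul, hx', rs_ε, ← map_smul (rs M (inf_le_right : W q ⊓ W q' ≤ W q')), hx', rs_ε,
        ← map_smul, ← map_smul, ← sub_eq_zero, ← map_sub]
      refine hr.right_eq_zero_of_smul ?_
      rw [← map_smul, q.2.2.2 _ ?_, map_zero]
      rw [map_sub, map_smul, map_smul, ← q.2.2.1, ← q'.2.2.1, smul_comm, sub_self])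
  refine ⟨V, hV, s, fun n => sec_ext (fun q => le_iSup W q) le_rfl _ _ fun q => ?_⟩
  have hsq : rs M (le_iSup W q) s = x q := hs q
  refine smul_regular_D q.1.1 le_rfl ?_
  show q.1.1 • rs _ (le_iSup W q) (rs _ hV.1 (y.1 n)) =
    q.1.1 • rs _ (le_iSup W q) (sm (Formal2.quotPowπ A (Ideal.span {f}) M n) V s)
  rw [← sm_rs, hsq, ← map_smul (sm _ (W q)), hx', sm_ε, ← map_smul, ← map_smul]
  have e : q.1.1 • y.1 n = ε _ 𝐔 (Submodule.Quotient.mk q.1.2) := congrFun (congrArg Subtype.val q.2.2.1) n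
  rw [e, rs_ε, rs_ε]
  rfl

/-- Injectivity, on a smaller open. -/
theorem exists_res_eq_zero [Module.Finite A M] {V : (Sp A).Opens}
    (hV : Formal2.Admissible A (Ideal.span {f}) 𝐔 V) (x : Sec M V)
    (hx : ∀ n, sm (Formal2.quotPowπ A (Ideal.span {f}) M n) V x = 0) :
    ∃ (V' : (Sp A).Opens) (h : Formal2.Admissible A (Ideal.span {f}) 𝐔 V' ∧ V' ≤ V), rs M h.2 x = 0 := by
  let P := {g : A // ∃ h : (PrimeSpectrum.basicOpen g : (Sp A).Opens) ≤ V, rs M h x = 0}
  let W : P → (Sp A).Opens := fun q => PrimeSpectrum.basicOpen q.1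
  let V' : (Sp A).Opens := iSup W
  have hV' : V' ≤ V := iSup_le fun q => q.2.1
  have hadm : Formal2.Admissible A (Ideal.span {f}) 𝐔 V' := by
    refine ⟨hV'.trans hV.1, fun p hp hpf => ?_⟩
    have hfp : f ∈ p.asIdeal := hpf (Ideal.mem_span_singleton_self f)
    obtain ⟨_, ⟨g, rfl⟩, hpg, hgV⟩ :=
      Opens.isBasis_iff_nbhd.1 PrimeSpectrum.isBasis_basic_opens (hV.2 p hp hpf)
    obtain ⟨k, m, hm⟩ := exists_pow_smul_eq_ε g (rs M hgV x)
    obtain ⟨s, hs, hsm⟩ := eq_zero_of_forall_germ M p hfp m fun n => by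
      have e : ε (Formal2.quotPow A (Ideal.span {f}) M n) (PrimeSpectrum.basicOpen g : (Sp A).Opens)
          (Submodule.Quotient.mk m) = 0 := by
        show ε (Formal2.quotPow A (Ideal.span {f}) M n) (PrimeSpectrum.basicOpen g : (Sp A).Opens)
          (Formal2.quotPowπ A (Ideal.span {f}) M n m) = 0
        rw [← sm_ε, ← hm, map_smul, sm_rs, hx, map_zero, smul_zero]
      exact (ε_eq_zero_iff _ _).1 e p hpg
    have hle : (PrimeSpectrum.basicOpen (g * s) : (Sp A).Opens) ≤ (PrimeSpectrum.basicOpen g : (Sp A).Opens) :=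
      PrimeSpectrum.basicOpen_mul_le_left g s
    refine Opens.mem_iSup.2 ⟨⟨g * s, hle.trans hgV, ?_⟩, ?_⟩
    · refine (smul_regular_D (M := M) (g * s) le_rfl).pow (k + 1) |>.right_eq_zero_of_smul ?_
      have e : (g * s) ^ (k + 1) • rs M hle (rs M hgV x) =
          (g * s ^ k) • s • rs M hle (g ^ k • rs M hgV x) := by
        rw [map_smul, smul_smul, smul_smul]
        congr 1
        ring
      refine e.trans ?_
      rw [hm, rs_ε, ← map_smul, hsm, map_zero, smul_zero]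
    · show g * s ∉ p.asIdeal
      exact fun hc => (p.2.mem_or_mem hc).elim hpg hs
  exact ⟨V', ⟨hadm, hV'⟩, sec_ext (fun q => le_iSup W q) le_rfl _ _ fun q => by
    rw [map_zero]
    exact q.2.2⟩

/-- The colimit comparison in degree zero. -/
theorem formalColim_principal (hf : f ∈ 𝔞) [IsAdicComplete (Ideal.span {f}) A] [Module.Finite A M]
    (hreg : IsSMulRegular M f)
    (hfin : Module.Finite A (LocCoh.H 𝔞 1 (Formal2.quotPow A (Ideal.span {f}) M 0))) :
    Formal2.FormalCohColimBijective A (Ideal.span {f}) M 0 𝐔 := by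
  haveI hS := finite_sec (𝔞 := 𝔞) _ hfin
  haveI := finite_lim M hreg hS
  have hH : ∃ t : ℕ, ∀ b ∈ 𝔞 ^ t, ∀ s : Sec (Formal2.quotPow A (Ideal.span {f}) M 0) 𝐔,
      ∃ q, ε (Formal2.quotPow A (Ideal.span {f}) M 0) 𝐔 q = b • s := by
    classical
    obtain ⟨G, hG⟩ := hS.fg_top
    choose n hn using fun s : Sec (Formal2.quotPow A (Ideal.span {f}) M 0) 𝐔 => exists_pow_smul_mem_range s
    refine ⟨G.sup n, fun b hb s => ?_⟩
    have hs : s ∈ Submodule.span A (G : Set (Sec (Formal2.quotPow A (Ideal.span {f}) M 0) 𝐔)) :=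
      hG.symm ▸ Submodule.mem_top
    induction hs using Submodule.span_induction with
    | mem s hs => exact hn s b (Ideal.pow_le_pow_right (Finset.le_sup (f := n) hs) hb)
    | zero => exact ⟨0, by rw [map_zero, smul_zero]⟩
    | add x y _ _ hx hy =>
      obtain ⟨p, hp⟩ := hx
      obtain ⟨q, hq⟩ := hy
      exact ⟨p + q, by rw [map_add, hp, hq, smul_add]⟩
    | smul c x _ hx =>
      obtain ⟨p, hp⟩ := hx
      exact ⟨c • p, by rw [map_smul, hp, smul_comm]⟩
  refine ⟨fun V hV x hx => ?_, fun y hy => ?_⟩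
  · obtain ⟨V', h, h'⟩ := exists_res_eq_zero M hV (h0 M V x) fun n =>
      (h0_hm _ _ x).symm.trans ((congrArg (h0 _ V) (hx n)).trans (map_zero _))
    exact ⟨V', h, (h0 M V').injective ((h0_res h.2 x).trans (h'.trans (map_zero (h0 M V')).symm))⟩
  · obtain ⟨V, hV, x, hx⟩ := exists_algebraic M hreg hH
      ⟨fun n => h0 _ 𝐔 (y n), fun n => (h0_hm _ _ _).symm.trans (congrArg (h0 _ 𝐔) (hy n))⟩
    refine ⟨V, hV, (h0 M V).symm x, fun n => (h0 _ V).injective ?_⟩
    refine (h0_res hV.1 (y n)).trans ((hx n).trans ?_)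
    rw [HVmap_eq]
    refine Eq.trans ?_ (h0_hm _ _ _).symm
    rw [AddEquiv.apply_symm_apply]

end Groth.Agent.PuncSecLib
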