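import Groth.Agent.PuncSecLib.Obs
import Groth.Agent.PuncSecLib.Principal

/-!
# Towers of sections of a locally free formal module for a principal ideal
-/

set_option autoImplicit false
set_option linter.style.haveILetI false
set_option backward.isDefEq.respectTransparency.types false
set_option linter.unusedSectionVars false

universe u

open CategoryTheory CategoryTheory.Limits AlgebraicGeometry TopologicalSpace Opposite

noncomputable section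

namespace Groth.Agent.PuncSecLib

variable {A : Type u} [CommRing A] {𝔞 : Ideal A}
  {M N : Type u} [AddCommGroup M] [Module A M] [AddCommGroup N] [Module A N]

/-- A property holding, up to an element outside each prime of the punctured open. -/
def Loc (𝔞 : Ideal A) (P : A → Prop) : Prop :=
  ∀ p : PrimeSpectrum A, p ∈ LocCoh.puncturedOpen A 𝔞 → ∃ s : A, s ∉ p.asIdeal ∧ P s

theorem Loc.of_pow {P : A → Prop} (h : ∃ n : ℕ, ∀ b ∈ 𝔞 ^ n, P b) : Loc 𝔞 P := fun p hp => by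
  obtain ⟨n, hn⟩ := h
  obtain ⟨a, ha, hap⟩ := Set.not_subset.1 (fun hc => hp hc)
  exact ⟨a ^ n, fun hc => hap (p.2.mem_of_pow_mem n hc), hn _ (Ideal.pow_mem_pow ha n)⟩

variable [IsNoetherianRing A]

theorem cokTors_of_loc {φ : M →ₗ[A] N} (h : ∀ y, Loc 𝔞 fun s => s • y ∈ LinearMap.range φ) : CokTors 𝔞 φ :=
  fun y => by
  obtain ⟨n, hn⟩ := exists_pow_kill_of_forall_prime (𝔞 := 𝔞) (m := (LinearMap.range φ).mkQ y) fun p hp => by
    obtain ⟨s, hs, hsy⟩ := h y p hp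
    exact ⟨s, hs, by rw [← map_smul]; exact (Submodule.Quotient.mk_eq_zero _).2 hsy⟩
  exact ⟨n, fun b hb => (Submodule.Quotient.mk_eq_zero _).1 ((map_smul _ b y).trans (hn b hb))⟩

variable (𝔞) in
/-- Sections of a module on the punctured open. -/
abbrev Γp (F : (LocCoh.puncturedOpen A 𝔞 : Scheme.{u}).Modules) : Type u :=
  ↑((ΓU (LocCoh.puncturedOpen A 𝔞)).obj F)

theorem eq_zero_of_loc {F : (LocCoh.puncturedOpen A 𝔞 : Scheme.{u}).Modules} {z : Γp 𝔞 F}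
    (h : Loc 𝔞 fun s => s • z = 0) : z = 0 :=
  eq_zero_of_powTors (exists_pow_kill_of_forall_prime h)

theorem exists_factor {F : (LocCoh.puncturedOpen A 𝔞 : Scheme.{u}).Modules} {t : M →ₗ[A] N}
    (hcok : CokTors 𝔞 t) (φ : M →ₗ[A] Γp 𝔞 F) (hker : ∀ x, t x = 0 → φ x = 0) :
    ∃ q : N →ₗ[A] Γp 𝔞 F, q.comp t = φ := by
  obtain ⟨q, hq⟩ := exists_extension (ι := (LinearMap.range t).subtype) Subtype.val_injective
    (fun y => (hcok y).imp fun n hn b hb => by rw [Submodule.range_subtype]; exact hn b hb)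
    (((LinearMap.ker t).liftQ φ fun x hx => hker x hx).comp t.quotKerEquivRange.symm.toLinearMap)
  refine ⟨q, LinearMap.ext fun x => (LinearMap.congr_fun hq ⟨t x, LinearMap.mem_range_self t x⟩).trans ?_⟩
  rw [LinearMap.comp_apply, LinearEquiv.coe_coe, LinearMap.quotKerEquivRange_symm_apply_image]
  rfl

/-- The sections of a locally free formal module. -/
structure Tower (𝔞 : Ideal A) (f : A) (G : ℕ → (LocCoh.puncturedOpen A 𝔞 : Scheme.{u}).Modules) where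
  t : ∀ n, Γp 𝔞 (G (n + 1)) →ₗ[A] Γp 𝔞 (G n)
  killed : ∀ n (z : Γp 𝔞 (G n)), f ^ (n + 1) • z = 0
  cok : ∀ n, CokTors 𝔞 (t n)
  ker : ∀ n y, t n y = 0 → Loc 𝔞 fun s => ∃ x, s • y = f ^ (n + 1) • x
  reg : ∀ n (x : Γp 𝔞 (G (n + 1))), f • x = 0 → t n x = 0

namespace Tower

variable {f : A} {G : ℕ → (LocCoh.puncturedOpen A 𝔞 : Scheme.{u}).Modules} (T : Tower 𝔞 f G)

include T

theorem exists_ψ (n : ℕ) : ∃ ψ : Γp 𝔞 (G n) →ₗ[A] Γp 𝔞 (G (n + 1)), ∀ x, ψ (T.t n x) = f • x := by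
  obtain ⟨q, hq⟩ := exists_factor (T.cok n) (LinearMap.lsmul A (Γp 𝔞 (G (n + 1))) f) fun x hx =>
    eq_zero_of_loc fun p hp => by
      obtain ⟨s, hs, w, hw⟩ := T.ker n x hx p hp
      refine ⟨s, hs, ?_⟩
      show s • f • x = 0
      rw [smul_comm, hw, smul_smul, ← pow_succ', T.killed]
  exact ⟨q, LinearMap.congr_fun hq⟩

/-- Multiplication by `f` raises the level. -/
def ψ (n : ℕ) : Γp 𝔞 (G n) →ₗ[A] Γp 𝔞 (G (n + 1)) := (T.exists_ψ n).choose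

theorem ψ_t (n : ℕ) (x : Γp 𝔞 (G (n + 1))) : T.ψ n (T.t n x) = f • x := (T.exists_ψ n).choose_spec x

theorem t_ψ (n : ℕ) (z : Γp 𝔞 (G n)) : T.t n (T.ψ n z) = f • z := by
  refine LinearMap.congr_fun (hom_ext_cokTors (T.cok n)
    (q := (T.t n).comp (T.ψ n)) (q' := LinearMap.lsmul A _ f) (LinearMap.ext fun x => ?_)) z
  show T.t n (T.ψ n (T.t n x)) = f • T.t n x
  rw [ψ_t, map_smul]

theorem t_ψ_succ (n : ℕ) (z : Γp 𝔞 (G (n + 1))) : T.t (n + 1) (T.ψ (n + 1) z) = T.ψ n (T.t n z) := by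
  rw [t_ψ, ψ_t]

theorem ψ_injective (n : ℕ) : Function.Injective (T.ψ n) := by
  refine (injective_iff_map_eq_zero _).2 fun z hz => eq_zero_of_loc fun p hp => ?_
  obtain ⟨s, hs, x, hx⟩ := Loc.of_pow (P := fun s => s • z ∈ LinearMap.range (T.t n)) (T.cok n z) p hp
  refine ⟨s, hs, ?_⟩
  show s • z = 0
  rw [← hx]
  exact T.reg n x (by rw [← ψ_t, hx, map_smul, hz, smul_zero])

/-- Projection to level zero. -/
def p₀ (T' : Tower 𝔞 f G) : ∀ n, Γp 𝔞 (G n) →ₗ[A] Γp 𝔞 (G 0)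
  | 0 => LinearMap.id
  | n + 1 => (T'.p₀ n).comp (T'.t n)

theorem p₀_ψ : ∀ (n : ℕ) (z : Γp 𝔞 (G n)), T.p₀ (n + 1) (T.ψ n z) = 0
  | 0, z => by
    show T.t 0 (T.ψ 0 z) = 0
    rw [t_ψ]
    exact (congrArg (· • z) (pow_one f).symm).trans (T.killed 0 z)
  | n + 1, z => by
    show T.p₀ (n + 1) (T.t (n + 1) (T.ψ (n + 1) z)) = 0
    rw [t_ψ_succ]
    exact p₀_ψ n _

theorem exists_eq_ψ : ∀ (n : ℕ) (y : Γp 𝔞 (G (n + 1))), T.p₀ (n + 1) y = 0 → ∃ z, T.ψ n z = y := by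
  suffices h : ∀ n (y : Γp 𝔞 (G (n + 1))), T.p₀ (n + 1) y = 0 →
      Loc 𝔞 fun s => s • y ∈ LinearMap.range (T.ψ n) by
    intro n y hy
    have hle : LinearMap.range (T.ψ n) ≤ LinearMap.ker (T.p₀ (n + 1)) := by
      rintro _ ⟨z, rfl⟩; exact T.p₀_ψ n z
    let ψK := (T.ψ n).codRestrict (LinearMap.ker (T.p₀ (n + 1))) fun z => hle (LinearMap.mem_range_self _ z)
    have hcok : CokTors 𝔞 ψK := cokTors_of_loc fun w p hp => by
      obtain ⟨s, hs, z, hz⟩ := h n w.1 w.2 p hp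
      exact ⟨s, hs, z, Subtype.ext hz⟩
    obtain ⟨q, hq⟩ := exists_extension (ι := ψK)
      (fun a b hab => T.ψ_injective n (congrArg Subtype.val hab)) hcok LinearMap.id
    have e := hom_ext_cokTors hcok (q := (T.ψ n).comp q) (q' := (LinearMap.ker (T.p₀ (n + 1))).subtype)
      (by rw [LinearMap.comp_assoc, hq]; rfl)
    exact ⟨q ⟨y, hy⟩, LinearMap.congr_fun e ⟨y, hy⟩⟩
  intro n
  induction n with
  | zero =>
    intro y hy p hp
    obtain ⟨s, hs, x, hx⟩ := T.ker 0 y hy p hp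
    exact ⟨s, hs, T.t 0 x, (T.ψ_t 0 x).trans (Eq.trans (congrArg (· • x) (pow_one f).symm) hx.symm)⟩
  | succ n ih =>
    intro y hy p hp
    obtain ⟨s₁, hs₁, z, hz⟩ := ih (T.t (n + 1) y) hy p hp
    obtain ⟨s₂, hs₂, w, hw⟩ := Loc.of_pow (P := fun s => s • z ∈ LinearMap.range (T.t n)) (T.cok n z) p hp
    have h0 : T.t (n + 1) ((s₂ * s₁) • y - T.ψ (n + 1) w) = 0 := by
      rw [map_sub, map_smul, t_ψ_succ, hw, map_smul, hz, smul_smul, sub_self]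
    obtain ⟨s₃, hs₃, x, hx⟩ := T.ker (n + 1) _ h0 p hp
    refine ⟨s₃ * (s₂ * s₁), fun hc => ?_, s₃ • w + T.t (n + 1) (f ^ (n + 1) • x), ?_⟩
    · rcases p.2.mem_or_mem hc with h | h
      · exact hs₃ h
      · exact (p.2.mem_or_mem h).elim hs₂ hs₁
    · rw [map_add, map_smul, ψ_t, smul_smul, ← pow_succ', ← hx, smul_sub, add_sub_cancel]
      simp only [mul_smul]

/-- The inclusion of level zero. -/
def j (T' : Tower 𝔞 f G) : ∀ n, Γp 𝔞 (G 0) →ₗ[A] Γp 𝔞 (G n)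
  | 0 => LinearMap.id
  | n + 1 => (T'.ψ n).comp (T'.j n)

theorem j_injective : ∀ n, Function.Injective (T.j n)
  | 0 => Function.injective_id
  | n + 1 => (T.ψ_injective n).comp (j_injective n)

theorem t_j : ∀ (n : ℕ) (γ : Γp 𝔞 (G 0)), T.t n (T.j (n + 1) γ) = 0
  | 0, γ => T.p₀_ψ 0 γ
  | n + 1, γ => by
    show T.t (n + 1) (T.ψ (n + 1) (T.j (n + 1) γ)) = 0
    rw [t_ψ_succ, t_j n, map_zero]

theorem exists_eq_j : ∀ (n : ℕ) (y : Γp 𝔞 (G (n + 1))), T.t n y = 0 → ∃ γ, T.j (n + 1) γ = y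
  | 0, y, hy => T.exists_eq_ψ 0 y hy
  | n + 1, y, hy => by
    obtain ⟨z, rfl⟩ := T.exists_eq_ψ (n + 1) y (show T.p₀ (n + 1) (T.t (n + 1) y) = 0 by rw [hy, map_zero])
    rw [t_ψ_succ, map_eq_zero_iff _ (T.ψ_injective n)] at hy
    obtain ⟨γ, rfl⟩ := exists_eq_j n z hy
    exact ⟨γ, rfl⟩

section Obs

variable {E : Type u} [AddCommGroup E] [Module A E] [Module.Injective A E] (ι : Γp 𝔞 (G 0) →ₗ[A] E)

theorem exists_e (n : ℕ) (e : Γp 𝔞 (G n) →ₗ[A] E) : ∃ e' : Γp 𝔞 (G (n + 1)) →ₗ[A] E, ∀ z, e' (T.ψ n z) = e z :=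
  Module.Injective.out (T.ψ n) (T.ψ_injective n) e

/-- Extensions to all levels. -/
def e (T' : Tower 𝔞 f G) (ι' : Γp 𝔞 (G 0) →ₗ[A] E) : ∀ n, Γp 𝔞 (G n) →ₗ[A] E
  | 0 => ι'
  | n + 1 => (T'.exists_e n (e T' ι' n)).choose

theorem e_ψ (n : ℕ) (z : Γp 𝔞 (G n)) : T.e ι (n + 1) (T.ψ n z) = T.e ι n z :=
  (T.exists_e n (T.e ι n)).choose_spec z

theorem e_j : ∀ (n : ℕ) (γ : Γp 𝔞 (G 0)), T.e ι n (T.j n γ) = ι γ
  | 0, _ => rfl
  | n + 1, γ => (T.e_ψ ι n _).trans (e_j n γ)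

/-- Sections of the quotient of the injective module. -/
abbrev SC (ι : Γp 𝔞 (G 0) →ₗ[A] E) : Type u :=
  Γp 𝔞 ((tR (LocCoh.puncturedOpen A 𝔞)).obj (ModuleCat.of A (E ⧸ LinearMap.range ι)))

/-- From the injective module to sections of its quotient. -/
def πC (ι : Γp 𝔞 (G 0) →ₗ[A] E) : E →ₗ[A] SC ι :=
  (υ (LocCoh.puncturedOpen A 𝔞) (E ⧸ LinearMap.range ι)).comp (LinearMap.range ι).mkQ

omit T in
theorem πC_apply (e₀ : E) :
    πC ι e₀ = υ (LocCoh.puncturedOpen A 𝔞) (E ⧸ LinearMap.range ι) ((LinearMap.range ι).mkQ e₀) := rfl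

omit T in
theorem πC_ι (γ : Γp 𝔞 (G 0)) : πC ι (ι γ) = 0 := by
  rw [πC_apply, show (LinearMap.range ι).mkQ (ι γ) = 0 from
    (Submodule.Quotient.mk_eq_zero _).2 (LinearMap.mem_range_self ι γ), map_zero]

/-- The composite to sections of the quotient. -/
def toC (n : ℕ) : Γp 𝔞 (G (n + 1)) →ₗ[A] SC ι := (πC ι).comp (T.e ι (n + 1))

theorem toC_apply (n : ℕ) (x : Γp 𝔞 (G (n + 1))) : T.toC ι n x = πC ι (T.e ι (n + 1) x) := rfl

theorem exists_c (n : ℕ) : ∃ c : Γp 𝔞 (G n) →ₗ[A] SC ι, ∀ x, c (T.t n x) = T.toC ι n x := by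
  obtain ⟨q, hq⟩ := exists_factor (T.cok n) (T.toC ι n) fun x hx => by
    obtain ⟨γ, rfl⟩ := T.exists_eq_j n x hx
    rw [toC_apply, e_j, πC_ι]
  exact ⟨q, LinearMap.congr_fun hq⟩

/-- The map inducing the obstruction. -/
def c (n : ℕ) : Γp 𝔞 (G n) →ₗ[A] SC ι := (T.exists_c ι n).choose

theorem c_t (n : ℕ) (x : Γp 𝔞 (G (n + 1))) : T.c ι n (T.t n x) = T.toC ι n x := (T.exists_c ι n).choose_spec x

theorem c_ψ (n : ℕ) (z : Γp 𝔞 (G n)) : T.c ι (n + 1) (T.ψ n z) = T.c ι n z := by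
  refine LinearMap.congr_fun (hom_ext_cokTors (T.cok n) (q := (T.c ι (n + 1)).comp (T.ψ n)) (q' := T.c ι n)
    (LinearMap.ext fun x => ?_)) z
  show T.c ι (n + 1) (T.ψ n (T.t n x)) = T.c ι n (T.t n x)
  rw [← t_ψ_succ, c_t, c_t, toC_apply, toC_apply, e_ψ]

/-- The obstruction to lifting. -/
def d (n : ℕ) : Γp 𝔞 (G n) →ₗ[A] Obs 𝔞 (E ⧸ LinearMap.range ι) :=
  (LinearMap.range (υ (LocCoh.puncturedOpen A 𝔞) (E ⧸ LinearMap.range ι))).mkQ.comp (T.c ι n)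

theorem d_ψ (n : ℕ) (z : Γp 𝔞 (G n)) : T.d ι (n + 1) (T.ψ n z) = T.d ι n z :=
  congrArg Submodule.Quotient.mk (T.c_ψ ι n z)

set_option maxHeartbeats 1000000 in
theorem exists_lift (hι : Function.Injective ι) (n : ℕ) (y : Γp 𝔞 (G n)) (hy : T.d ι n y = 0) :
    ∃ x, T.t n x = y := by
  obtain ⟨q₀, he⟩ := (Submodule.Quotient.mk_eq_zero _).1 hy
  obtain ⟨e₀, rfl⟩ := Submodule.mkQ_surjective _ q₀
  let W : Submodule A (Γp 𝔞 (G n) × E) := LinearMap.ker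
    ((T.c ι n).comp (LinearMap.fst A _ E) -
      ((υ (LocCoh.puncturedOpen A 𝔞) _).comp (LinearMap.range ι).mkQ).comp (LinearMap.snd A (Γp 𝔞 (G n)) E))
  let ι' : Γp 𝔞 (G (n + 1)) →ₗ[A] W := ((T.t n).prod (T.e ι (n + 1))).codRestrict W fun x => by
    show T.c ι n (T.t n x) - υ _ _ _ = 0
    rw [c_t]
    exact sub_self _
  have hinj : Function.Injective ι' := (injective_iff_map_eq_zero _).2 fun x hx => by
    obtain ⟨γ, rfl⟩ := T.exists_eq_j n x (congrArg (fun w : W => w.1.1) hx)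
    have : ι γ = 0 := (T.e_j ι (n + 1) γ).symm.trans (congrArg (fun w : W => w.1.2) hx)
    rw [hι (this.trans (map_zero ι).symm), map_zero]
  have hcok : CokTors 𝔞 ι' := cokTors_of_loc fun ⟨⟨z, e⟩, hw⟩ p hp => by
    obtain ⟨s, hs, x, hx⟩ := Loc.of_pow (P := fun s => s • z ∈ LinearMap.range (T.t n)) (T.cok n z) p hp
    have hw' : T.c ι n z = υ _ _ ((LinearMap.range ι).mkQ e) := sub_eq_zero.1 hw
    have h1 : υ (LocCoh.puncturedOpen A 𝔞) _ ((LinearMap.range ι).mkQ (T.e ι (n + 1) x - s • e)) = 0 := by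
      rw [map_sub, map_sub, map_smul, map_smul, ← hw', ← map_smul, ← hx, c_t]
      exact sub_self _
    obtain ⟨s', hs', hs''⟩ := Loc.of_pow (P := fun r => r • (LinearMap.range ι).mkQ (T.e ι (n + 1) x - s • e) = 0)
      ((υ_eq_zero_iff _).1 h1) p hp
    rw [← map_smul, Submodule.mkQ_apply, Submodule.Quotient.mk_eq_zero] at hs''
    obtain ⟨γ, hγ⟩ := hs''
    refine ⟨s' * s, fun hc => (p.2.mem_or_mem hc).elim hs' hs, s' • x - T.j (n + 1) γ, Subtype.ext (Prod.ext ?_ ?_)⟩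
    · show T.t n (s' • x - T.j (n + 1) γ) = (s' * s) • z
      rw [map_sub, t_j, sub_zero, map_smul, hx, mul_smul]
    · show T.e ι (n + 1) (s' • x - T.j (n + 1) γ) = (s' * s) • e
      rw [map_sub, e_j, hγ, map_smul, smul_sub, sub_sub_cancel, mul_smul]
  obtain ⟨q, hq⟩ := exists_extension hinj hcok LinearMap.id
  have ht : (T.t n).comp q = (LinearMap.fst A _ E).comp W.subtype :=
    hom_ext_cokTors hcok (by rw [LinearMap.comp_assoc, hq]; rfl)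
  exact ⟨q ⟨(y, e₀), sub_eq_zero.2 he.symm⟩, LinearMap.congr_fun ht _⟩

end Obs

end Tower

end Groth.Agent.PuncSecLib
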