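import Groth.Agent.PuncSecLib.Basic
import Groth.Agent.CohBase.Natural
import Groth.Agent.QCohLib.Exact
import Groth.Agent.LocZLib.Flasque

/-!
# Cohomology of `M~` on opens of `Spec A`, functorially in `M`
-/

set_option autoImplicit false
set_option linter.style.haveILetI false
set_option backward.isDefEq.respectTransparency.types false
set_option maxHeartbeats 1000000

universe u

open CategoryTheory CategoryTheory.Limits AlgebraicGeometry TopologicalSpace Opposite Abelian

noncomputable section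

namespace Groth.Agent.PuncSecLib

open CohBase

variable {A : Type u} [CommRing A] {M N K : Type u} [AddCommGroup M] [Module A M] [AddCommGroup N] [Module A N]
  [AddCommGroup K] [Module A K]

variable (A) in
/-- The abelian sheaf of a module, as a functor. -/
def tF : ModuleCat.{u} A ⥤ AbSh (Sp A).toTopCat :=
  tilde.functor (CommRingCat.of A) ⋙ QCohLib.toAbF (Sp A)

instance additive_tildeFunctor : (tilde.functor (CommRingCat.of A)).Additive :=
  ⟨fun {_ _ f g} => tilde.map_add f g⟩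

instance additive_tF : (tF A).Additive :=
  inferInstanceAs (tilde.functor (CommRingCat.of A) ⋙ QCohLib.toAbF (Sp A)).Additive

variable (A M) in
/-- The underlying abelian sheaf. -/
abbrev tsh : AbSh (Sp A).toTopCat := (tF A).obj (ModuleCat.of A M)

/-- The map of abelian sheaves. -/
abbrev tshMap (φ : M →ₗ[A] N) : tsh A M ⟶ tsh A N := (tF A).map (ModuleCat.ofHom φ)

variable (M) in
/-- Cohomology on an open. -/
abbrev H (i : ℕ) (V : (Sp A).Opens) : Type u := CohBase.HU V (tsh A M) i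

/-- Functoriality. -/
def hm (φ : M →ₗ[A] N) (i : ℕ) (V : (Sp A).Opens) : H M i V →+ H N i V := hmap V (tshMap φ) i

theorem HVmap_eq (φ : M →ₗ[A] N) (i : ℕ) (V : (Sp A).Opens) (x : H M i V) :
    Formal2.HVmap A φ i V x = hm φ i V x := rfl

variable (M) in
/-- Degree zero. -/
def h0 (V : (Sp A).Opens) : H M 0 V ≃+ Sec M V := H0Equiv V (tsh A M)

theorem h0_hm (φ : M →ₗ[A] N) (V : (Sp A).Opens) (x : H M 0 V) :
    h0 N V (hm φ 0 V x) = sm φ V (h0 M V x) :=
  H0Equiv_hmap V (tshMap φ) x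

theorem hm_comp (ψ : N →ₗ[A] K) (φ : M →ₗ[A] N) (i : ℕ) (V : (Sp A).Opens) (x : H M i V) :
    hm (ψ.comp φ) i V x = hm ψ i V (hm φ i V x) := by
  show hmap V ((tF A).map (ModuleCat.ofHom φ ≫ ModuleCat.ofHom ψ)) i x = _
  rw [(tF A).map_comp]
  show _ = (x.comp (Ext.mk₀ _) (add_zero i)).comp (Ext.mk₀ _) (add_zero i)
  rw [Ext.comp_assoc_of_third_deg_zero, Ext.mk₀_comp_mk₀]
  rfl

theorem hm_add (φ ψ : M →ₗ[A] N) (i : ℕ) (V : (Sp A).Opens) (x : H M i V) :
    hm (φ + ψ) i V x = hm φ i V x + hm ψ i V x := by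
  show hmap V ((tF A).map (ModuleCat.ofHom φ + ModuleCat.ofHom ψ)) i x = _
  rw [(tF A).map_add]
  show x.comp (Ext.mk₀ _) (add_zero i) = _
  rw [Ext.mk₀_add, Ext.comp_add]
  rfl

theorem hm_zero (i : ℕ) (V : (Sp A).Opens) (x : H M i V) : hm (0 : M →ₗ[A] N) i V x = 0 := by
  have h := hm_add (0 : M →ₗ[A] N) 0 i V x
  rw [add_zero] at h
  exact add_left_cancel (h.symm.trans (add_zero _).symm)

theorem hm_id (i : ℕ) (V : (Sp A).Opens) (x : H M i V) : hm (LinearMap.id : M →ₗ[A] M) i V x = x := by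
  show hmap V ((tF A).map (𝟙 (ModuleCat.of A M))) i x = _
  rw [(tF A).map_id]
  exact Ext.comp_mk₀_id x

/-- Multiplication by a scalar. -/
def sc (a : A) (i : ℕ) (V : (Sp A).Opens) : H M i V →+ H M i V := hm (LinearMap.lsmul A M a) i V

theorem hm_sc (φ : M →ₗ[A] N) (a : A) (i : ℕ) (V : (Sp A).Opens) (x : H M i V) :
    hm φ i V (sc a i V x) = sc a i V (hm φ i V x) := by
  rw [sc, sc, ← hm_comp, ← hm_comp, show φ.comp (LinearMap.lsmul A M a) = (LinearMap.lsmul A N a).comp φ from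
    LinearMap.ext fun m => map_smul φ a m]

theorem sc_sc (a b : A) (i : ℕ) (V : (Sp A).Opens) (x : H M i V) :
    sc a i V (sc b i V x) = sc (a * b) i V x := by
  rw [sc, sc, sc, ← hm_comp, show (LinearMap.lsmul A M a).comp (LinearMap.lsmul A M b) =
    LinearMap.lsmul A M (a * b) from LinearMap.ext fun m => (mul_smul a b m).symm]

theorem sc_one (i : ℕ) (V : (Sp A).Opens) (x : H M i V) : sc (1 : A) i V x = x := by
  rw [sc, show LinearMap.lsmul A M 1 = LinearMap.id from LinearMap.ext fun m => one_smul A m, hm_id]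

theorem h0_sc (a : A) (V : (Sp A).Opens) (x : H M 0 V) : h0 M V (sc a 0 V x) = a • h0 M V x := by
  rw [sc, h0_hm, sm_lsmul]

variable (M) in
/-- The canonical map to `H⁰`. -/
def η (V : (Sp A).Opens) : M →+ H M 0 V := (h0 M V).symm.toAddMonoidHom.comp (ε M V).toAddMonoidHom

theorem hm_η (φ : M →ₗ[A] N) (V : (Sp A).Opens) (m : M) : hm φ 0 V (η M V m) = η N V (φ m) := by
  apply (h0 N V).injective
  rw [h0_hm]
  show sm φ V (h0 M V ((h0 M V).symm (ε M V m))) = h0 N V ((h0 N V).symm (ε N V (φ m)))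
  rw [AddEquiv.apply_symm_apply, AddEquiv.apply_symm_apply, sm_ε]

theorem sc_η (a : A) (V : (Sp A).Opens) (m : M) : sc a 0 V (η M V m) = η M V (a • m) :=
  hm_η _ V m

theorem η_eq_zero_iff_pow [IsNoetherianRing A] {𝔞 : Ideal A} (m : M) :
    η M (LocCoh.puncturedOpen A 𝔞) m = 0 ↔ ∃ n : ℕ, ∀ b ∈ 𝔞 ^ n, b • m = 0 :=
  ((h0 M (LocCoh.puncturedOpen A 𝔞)).symm.map_eq_zero_iff).trans (ε_eq_zero_iff_pow m)

theorem η_surjective_of_injective [IsNoetherianRing A] [Module.Injective A M] (V : (Sp A).Opens) :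
    Function.Surjective (η M V) :=
  (h0 M V).symm.surjective.comp (ε_surjective_of_injective V)

theorem subsingleton_of_injective' [IsNoetherianRing A] [Module.Injective A M] (i : ℕ)
    (V : (Sp A).Opens) : Subsingleton (H M (i + 1) V) := by
  haveI : TopCat.Sheaf.IsFlasque (tsh A M) :=
    LocZLib.isFlasque_of_surjective _ fun {W V} h => by
      intro s
      obtain ⟨m, hm⟩ := ε_surjective_of_injective (M := M) W s
      exact ⟨ε M V m, (rs_ε h m).trans hm⟩
  exact LocZLib.subsingleton_HU_flasque V i (tsh A M)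

section SES

variable {φ : M →ₗ[A] N} {ψ : N →ₗ[A] K}

/-- The sequence of modules. -/
def mseq (hex : LinearMap.range φ = LinearMap.ker ψ) : ShortComplex (ModuleCat.{u} A) :=
  ShortComplex.mk (ModuleCat.ofHom φ) (ModuleCat.ofHom ψ)
    (ModuleCat.hom_ext (LinearMap.range_le_ker_iff.1 hex.le))

/-- The sequence of sheaves. -/
abbrev sseq (hex : LinearMap.range φ = LinearMap.ker ψ) : ShortComplex (AbSh (Sp A).toTopCat) :=
  (mseq hex).map (tF A)

theorem sseq_shortExact (hφ : Function.Injective φ) (hψ : Function.Surjective ψ)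
    (hex : LinearMap.range φ = LinearMap.ker ψ) : (sseq hex).ShortExact := by
  have h : (mseq hex).ShortExact :=
    { exact := ShortComplex.Exact.moduleCat_of_range_eq_ker _ _ hex
      mono_f := (ModuleCat.mono_iff_injective _).2 hφ
      epi_g := (ModuleCat.epi_iff_surjective _).2 hψ }
  let F := tilde.functor (CommRingCat.of A)
  haveI : PreservesFiniteLimits F := TildeD.preservesFiniteLimits_tilde
  haveI : PreservesColimitsOfSize.{u, u} F := tilde.adjunction.leftAdjoint_preservesColimits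
  haveI : PreservesColimitsOfSize.{0, 0} F := preservesColimitsOfSize_shrink _
  haveI : PreservesFiniteColimits F := PreservesColimitsOfSize.preservesFiniteColimits _
  exact QCohLib.toAb_shortExact (h.map_of_exact F)

variable (hφ : Function.Injective φ) (hψ : Function.Surjective ψ)
  (hex : LinearMap.range φ = LinearMap.ker ψ)

/-- The connecting map. -/
def δ (i : ℕ) (V : (Sp A).Opens) : H K i V →+ H M (i + 1) V :=
  hδ (sseq_shortExact hφ hψ hex) V i

include hφ hψ hex

theorem exists_of_hm_eq_zero (i : ℕ) (V : (Sp A).Opens) (x : H N i V) (hx : hm ψ i V x = 0) :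
    ∃ w, hm φ i V w = x :=
  Ext.covariant_sequence_exact₂ _ (sseq_shortExact hφ hψ hex) x hx

omit hφ hψ in
theorem hm_hm_eq_zero (i : ℕ) (V : (Sp A).Opens) (x : H M i V) : hm ψ i V (hm φ i V x) = 0 := by
  rw [← hm_comp, LinearMap.range_le_ker_iff.1 hex.le, hm_zero]

theorem δ_hm (i : ℕ) (V : (Sp A).Opens) (x : H N i V) : δ hφ hψ hex i V (hm ψ i V x) = 0 :=
  (hδ_eq_zero_iff (sseq_shortExact hφ hψ hex) V i _).2 ⟨x, rfl⟩

theorem exists_of_δ_eq_zero (i : ℕ) (V : (Sp A).Opens) (x : H K i V)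
    (hx : δ hφ hψ hex i V x = 0) : ∃ w, hm ψ i V w = x :=
  (hδ_eq_zero_iff (sseq_shortExact hφ hψ hex) V i x).1 hx

theorem exists_δ_of_hm_eq_zero (i : ℕ) (V : (Sp A).Opens) (x : H M (i + 1) V)
    (hx : hm φ (i + 1) V x = 0) : ∃ w, δ hφ hψ hex i V w = x :=
  Ext.covariant_sequence_exact₁ _ (sseq_shortExact hφ hψ hex) x hx rfl

theorem hm_δ (i : ℕ) (V : (Sp A).Opens) (x : H K i V) : hm φ (i + 1) V (δ hφ hψ hex i V x) = 0 := by
  show (x.comp (sseq_shortExact hφ hψ hex).extClass rfl).comp (Ext.mk₀ (sseq hex).f) (add_zero _) = 0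
  exact (Ext.comp_assoc_of_third_deg_zero _ _ _ _).trans
    ((congrArg (fun e => Ext.comp x e (rfl : i + 1 = i + 1))
      (sseq_shortExact hφ hψ hex).extClass_comp).trans (Ext.comp_zero _ _ _ _ _))

omit hψ hex in
theorem hm_injective_zero (V : (Sp A).Opens) : Function.Injective (hm φ 0 V) := fun x y h => by
  apply (h0 M V).injective
  apply sm_injective hφ V
  rw [← h0_hm, ← h0_hm, h]

variable {M' N' K' : Type u} [AddCommGroup M'] [Module A M'] [AddCommGroup N'] [Module A N']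
  [AddCommGroup K'] [Module A K'] {φ' : M' →ₗ[A] N'} {ψ' : N' →ₗ[A] K'}

theorem δ_natural (hφ' : Function.Injective φ') (hψ' : Function.Surjective ψ')
    (hex' : LinearMap.range φ' = LinearMap.ker ψ') (α : M →ₗ[A] M') (β : N →ₗ[A] N') (γ : K →ₗ[A] K')
    (h₁ : φ'.comp α = β.comp φ) (h₂ : ψ'.comp β = γ.comp ψ) (i : ℕ) (V : (Sp A).Opens) (x : H K i V) :
    δ hφ' hψ' hex' i V (hm γ i V x) = hm α (i + 1) V (δ hφ hψ hex i V x) := by
  let Φ₀ : mseq hex ⟶ mseq hex' := ShortComplex.homMk (ModuleCat.ofHom α) (ModuleCat.ofHom β) (ModuleCat.ofHom γ)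
    (ModuleCat.hom_ext h₁) (ModuleCat.hom_ext h₂)
  let Φ : sseq hex ⟶ sseq hex' := (tF A).mapShortComplex.map Φ₀
  exact (hδ_naturality (sseq_shortExact hφ hψ hex) (sseq_shortExact hφ' hψ' hex') Φ V i x).symm

theorem δ_sc (a : A) (i : ℕ) (V : (Sp A).Opens) (x : H K i V) :
    δ hφ hψ hex i V (sc a i V x) = sc a (i + 1) V (δ hφ hψ hex i V x) :=
  δ_natural hφ hψ hex hφ hψ hex (LinearMap.lsmul A M a) (LinearMap.lsmul A N a) (LinearMap.lsmul A K a)
    (LinearMap.ext fun m => map_smul φ a m) (LinearMap.ext fun m => (map_smul ψ a m)) i V x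

end SES

end Groth.Agent.PuncSecLib
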