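import Groth.Agent.PuncSecLib.ModPow
import Groth.Agent.PuncSecLib.Principal
import Groth.Agent.S0329

/-!
# Local cohomology of modules that are locally free modulo an ideal on the punctured open
-/

set_option autoImplicit false
set_option linter.style.haveILetI false
set_option backward.isDefEq.respectTransparency.types false
set_option maxHeartbeats 800000

universe u

open CategoryTheory CategoryTheory.Limits AlgebraicGeometry TopologicalSpace Opposite

noncomputable section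

namespace Groth.Agent.PuncSecLib

variable {A : Type u} [CommRing A]

/-- Quotient by a power, on isomorphisms. -/
def modPowMapIso {X : Scheme.{u}} [X.Over (Sp A)] (I : Ideal A) (n : ℕ) {M N : X.Modules} (e : M ≅ N) :
    Formal.modPow I n M ≅ Formal.modPow I n N :=
  cokernel.mapIso _ _ (Sigma.mapIso fun _ => e) e (Sigma.hom_ext _ _ fun a => by
    rw [← Category.assoc, ← Category.assoc, show Sigma.ι (fun _ => M) a ≫ (Sigma.mapIso fun _ => e).hom =
      e.hom ≫ Sigma.ι (fun _ => N) a by simp [Sigma.mapIso], Category.assoc]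
    simp [Formal.smulFamily, FormalLib.smulMod_natural e.hom (a : A)])

/-- Restriction to a smaller open, through a chart. -/
def tRResIso {U : (Sp A).Opens} (V : (U : Scheme.{u}).Opens) {W : (Sp A).Opens} (k : (W : Scheme.{u}) ⟶ V)
    [IsOpenImmersion k] (hk : (k ≫ V.ι) ≫ U.ι = W.ι) :
    (tR U ⋙ Scheme.Modules.restrictFunctor V.ι) ⋙ Scheme.Modules.restrictFunctor k ≅ tR W :=
  Functor.associator _ _ _ ≪≫ Functor.isoWhiskerLeft (tR U) (Scheme.Modules.restrictFunctorComp k V.ι).symm ≪≫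
    Functor.associator _ _ _ ≪≫
      Functor.isoWhiskerLeft (tilde.functor (CommRingCat.of A)) ((Scheme.Modules.restrictFunctorComp (k ≫ V.ι) U.ι).symm ≪≫
        Scheme.Modules.restrictFunctorCongr hk)

theorem exists_inverse_up_to_pow [IsNoetherianRing A] {M N : Type u} [AddCommGroup M] [Module A M]
    [AddCommGroup N] [Module A N] [Module.Finite A M] [Module.Finite A N] (h : A)
    (e : Sec M (PrimeSpectrum.basicOpen h : (Sp A).Opens) ≃ₗ[A] Sec N (PrimeSpectrum.basicOpen h : (Sp A).Opens)) :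
    ∃ (α : M →ₗ[A] N) (β : N →ₗ[A] M) (k : ℕ), ∀ m, β (α m) = h ^ k • m := by
  classical
  let W : (Sp A).Opens := PrimeSpectrum.basicOpen h
  have hloc : ∀ (P : Type u) [AddCommGroup P] [Module A P],
      IsLocalizedModule (Submonoid.powers h) (ε P W) := fun P _ _ =>
    IsLocalizedModule.of_linearEquiv (Submonoid.powers h)
      (StructureSheaf.toOpenₗ A P (PrimeSpectrum.basicOpen h))
      ((tilde.modulesSpecToSheafIso (R := CommRingCat.of A) (ModuleCat.of A P)).app _).toLinearEquiv.symm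
  haveI := hloc M
  haveI := hloc N
  haveI : Module.FinitePresentation A M := Module.finitePresentation_of_finite A M
  haveI : Module.FinitePresentation A N := Module.finitePresentation_of_finite A N
  obtain ⟨α, ⟨_, a, rfl⟩, hα⟩ := Module.FinitePresentation.exists_lift_of_isLocalizedModule
    (Submonoid.powers h) (ε N W) (e.toLinearMap.comp (ε M W))
  obtain ⟨β, ⟨_, b, rfl⟩, hβ⟩ := Module.FinitePresentation.exists_lift_of_isLocalizedModule
    (Submonoid.powers h) (ε M W) (e.symm.toLinearMap.comp (ε N W))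
  have hz : ∀ m, ε M W (β (α m)) = ε M W (h ^ (b + a) • m) := fun m => by
    have h1 : ε N W (α m) = h ^ a • e (ε M W m) := LinearMap.congr_fun hα m
    have h2 : ε M W (β (α m)) = h ^ b • e.symm (ε N W (α m)) := LinearMap.congr_fun hβ (α m)
    rw [h2, h1, map_smul, e.symm_apply_apply, smul_smul, ← pow_add, map_smul]
  obtain ⟨G, hG⟩ := (Module.Finite.fg_top : (⊤ : Submodule A M).FG)
  choose c hc using fun m : M => (IsLocalizedModule.eq_iff_exists (Submonoid.powers h) (ε M W)).1 (hz m)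
  choose d hd using fun m : M => (c m).2
  refine ⟨α, h ^ (G.sup d) • β, G.sup d + (b + a), fun m => ?_⟩
  have hm : m ∈ Submodule.span A (G : Set M) := hG.symm ▸ Submodule.mem_top
  show h ^ G.sup d • β (α m) = _
  rw [pow_add, mul_smul]
  induction hm using Submodule.span_induction with
  | mem m hm =>
    obtain ⟨l, hl⟩ := Nat.exists_eq_add_of_le (Finset.le_sup (f := d) hm)
    have e1 : (c m : A) • β (α m) = (c m : A) • h ^ (b + a) • m := hc m
    rw [hl, pow_add, mul_comm, mul_smul, mul_smul, show h ^ d m = (c m : A) from hd m, e1]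
  | zero => simp
  | add x y _ _ hx hy => simp only [map_add, smul_add, hx, hy]
  | smul r x _ hx => rw [map_smul, map_smul, smul_comm, hx, smul_comm (h ^ (b + a)) r, smul_comm]

theorem mem_smul_top_pi {r : ℕ} (I : Ideal A) (v : Fin r → A) :
    v ∈ I • (⊤ : Submodule A (Fin r → A)) ↔ v ∈ Submodule.pi Set.univ fun _ : Fin r => I := by
  refine ⟨fun hv j _ => ?_, fun hv => ?_⟩
  · exact Submodule.smul_induction_on (p := fun w => w j ∈ I) hv
      (fun a ha w _ => I.mul_mem_right (w j) ha) (fun x y hx hy => add_mem hx hy)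
  · rw [pi_eq_sum_univ' v]
    exact Submodule.sum_mem _ fun j _ => Submodule.smul_mem_smul (hv j trivial) Submodule.mem_top

theorem exists_local_split [IsNoetherianRing A] {U : (Sp A).Opens} (I : Ideal A) (N : Type u) [AddCommGroup N]
    [Module A N] [Module.Finite A N] (hfree : Formal2.IsFinLocFreeMod I 1 ((tR U).obj (ModuleCat.of A N)))
    (p : PrimeSpectrum A) (hp : p ∈ U) :
    ∃ (h : A) (r : ℕ) (α : N →ₗ[A] (Fin r → A) ⧸ (I ^ 1 • (⊤ : Submodule A (Fin r → A))))
      (β : (Fin r → A) ⧸ (I ^ 1 • (⊤ : Submodule A (Fin r → A))) →ₗ[A] N) (k : ℕ),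
        h ∉ p.asIdeal ∧ ∀ m, β (α m) = h ^ k • m := by
  obtain ⟨V, r, hV, ⟨e⟩⟩ := hfree (⟨p, hp⟩ : U)
  obtain ⟨θ, -⟩ := exists_modPow_iso_tR U I 1 (Fin r → A)
  have hmem : p ∈ U.ι ''ᵁ V := ⟨⟨p, hp⟩, hV, rfl⟩
  obtain ⟨_, ⟨h, rfl⟩, hph, hle⟩ := Opens.isBasis_iff_nbhd.1 PrimeSpectrum.isBasis_basic_opens hmem
  let W : (Sp A).Opens := PrimeSpectrum.basicOpen h
  have hrange : Set.range W.ι ⊆ Set.range (V.ι ≫ U.ι) := by
    rintro x ⟨w, rfl⟩
    obtain ⟨y, hy, hy'⟩ := hle w.2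
    exact ⟨⟨y, hy⟩, hy'⟩
  let k : (W : Scheme.{u}) ⟶ V := IsOpenImmersion.lift (V.ι ≫ U.ι) W.ι hrange
  have hk : (k ≫ V.ι) ≫ U.ι = W.ι := by rw [Category.assoc]; exact IsOpenImmersion.lift_fac _ _ hrange
  haveI : IsOpenImmersion (k ≫ V.ι ≫ U.ι) := by
    rw [← Category.assoc, hk]; infer_instance
  haveI : IsOpenImmersion k := IsOpenImmersion.of_comp k (V.ι ≫ U.ι)
  let P := ModuleCat.of A ((Fin r → A) ⧸ (I ^ 1 • (⊤ : Submodule A (Fin r → A))))
  let e' : (tR W).obj (ModuleCat.of A N) ≅ (tR W).obj P :=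
    ((tRResIso V k hk).app (ModuleCat.of A N)).symm ≪≫
      (Scheme.Modules.restrictFunctor k).mapIso (e ≪≫ (Scheme.Modules.restrictFunctor V.ι).mapIso
        (modPowMapIso I 1 (freeIso U r) ≪≫ θ)) ≪≫ (tRResIso V k hk).app P
  let eW := ((χ W N).trans ((ΓU W).mapIso e').toLinearEquiv).trans
    (χ W ((Fin r → A) ⧸ (I ^ 1 • (⊤ : Submodule A (Fin r → A))))).symm
  obtain ⟨α, β, k', hk'⟩ := exists_inverse_up_to_pow h eW
  exact ⟨h, r, α, β, k', hph, hk'⟩

section H

variable [IsNoetherianRing A] {𝔞 : Ideal A}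

theorem map_loc_apply {M M' M'' : ModuleCat.{u} A} (f : M ⟶ M') (g : M' ⟶ M'') (i : ℕ) (z : LocCoh.H 𝔞 i M) :
    ((localCohomology 𝔞 i).map g).hom (((localCohomology 𝔞 i).map f).hom z) =
      ((localCohomology 𝔞 i).map (f ≫ g)).hom z := by
  rw [Functor.map_comp]; rfl

theorem map_smul_id (M : ModuleCat.{u} A) (a : A) (i : ℕ) (z : LocCoh.H 𝔞 i M) :
    ((localCohomology 𝔞 i).map (a • 𝟙 M)).hom z = a • z := by
  obtain ⟨n, x, rfl⟩ := LocCohLib.exists_ι z
  rw [LocCohLib.map_ι, ← map_smul]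
  congr 1
  rw [Abelian.Ext.mk₀_smul, Abelian.Ext.comp_smul, Abelian.Ext.comp_mk₀_id]

theorem smul_eq_zero_of_factor {M M' : ModuleCat.{u} A} (f : M ⟶ M') (g : M' ⟶ M) (a b : A) (i : ℕ)
    (hfg : f ≫ g = a • 𝟙 M) (hb : ∀ z : LocCoh.H 𝔞 i M', b • z = 0) (z : LocCoh.H 𝔞 i M) : (b * a) • z = 0 := by
  rw [mul_smul, ← map_smul_id M a i z, ← hfg, ← map_loc_apply, ← map_smul, hb, map_zero]

theorem smul_eq_zero_pi (M : Type u) [AddCommGroup M] [Module A M] (r : ℕ) (b : A) (i : ℕ)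
    (hb : ∀ z : LocCoh.H 𝔞 i M, b • z = 0) (z : LocCoh.H 𝔞 i (Fin r → M)) : b • z = 0 := by
  classical
  obtain ⟨n, x, rfl⟩ := LocCohLib.exists_ι z
  let T := ModuleCat.of A (Fin r → M)
  let p : Fin r → (T ⟶ ModuleCat.of A M) := fun j => ModuleCat.ofHom (LinearMap.proj j)
  let q : Fin r → (ModuleCat.of A M ⟶ T) := fun j => ModuleCat.ofHom (LinearMap.single A (fun _ => M) j)
  have hid : 𝟙 T = ∑ j, p j ≫ q j := by
    refine ModuleCat.hom_ext (LinearMap.ext fun v => ?_)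
    rw [ModuleCat.hom_sum, LinearMap.sum_apply]
    exact (Finset.univ_sum_single v).symm
  have hx : x = ∑ j, (x.comp (Abelian.Ext.mk₀ (p j)) (add_zero i)).comp (Abelian.Ext.mk₀ (q j)) (add_zero i) := by
    conv_lhs => rw [← Abelian.Ext.comp_mk₀_id x, hid, Abelian.Ext.mk₀_sum, Abelian.Ext.comp_sum]
    exact Finset.sum_congr rfl fun j _ => by rw [Abelian.Ext.comp_assoc_of_third_deg_zero, Abelian.Ext.mk₀_comp_mk₀]
  rw [hx, map_sum, Finset.smul_sum]
  exact Finset.sum_eq_zero fun j _ => by rw [← LocCohLib.map_ι (q j), ← map_smul, hb, map_zero]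

theorem exists_pow_kill (M : Type u) [AddCommGroup M] [Module A M] (i : ℕ) [Module.Finite A (LocCoh.H 𝔞 i M)] :
    ∃ t : ℕ, ∀ z : LocCoh.H 𝔞 i M, ∀ b ∈ 𝔞 ^ t, b • z = 0 := by
  classical
  obtain ⟨G, hG⟩ := (Module.Finite.fg_top : (⊤ : Submodule A (LocCoh.H 𝔞 i M)).FG)
  choose n hn using fun z : LocCoh.H 𝔞 i M => LocCohLib.isPowerTorsion (I := 𝔞) z
  refine ⟨G.sup n, fun z b hb => ?_⟩
  have hz : z ∈ Submodule.span A (G : Set (LocCoh.H 𝔞 i M)) := hG.symm ▸ Submodule.mem_top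
  induction hz using Submodule.span_induction with
  | mem z hz => exact hn z b (Ideal.pow_le_pow_right (Finset.le_sup (f := n) hz) hb)
  | zero => exact smul_zero b
  | add x y _ _ hx hy => rw [smul_add, hx, hy, add_zero]
  | smul c x _ hx => rw [smul_comm, hx, smul_zero]

theorem finite_H_zero (M : Type u) [AddCommGroup M] [Module A M] [Module.Finite A M] :
    Module.Finite A (LocCoh.H 𝔞 0 M) :=
  Module.Finite.of_injective (LocCohLib.h0 𝔞 (ModuleCat.of A M)) LocCohLib.h0_injective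

theorem finite_H_of_locFree (I : Ideal A) (h₁ : Module.Finite A (LocCoh.H 𝔞 1 (A ⧸ I)))
    (h₂ : Module.Finite A (LocCoh.H 𝔞 2 (A ⧸ I))) (N : Type u) [AddCommGroup N] [Module A N] [Module.Finite A N]
    (hfree : Formal2.IsFinLocFreeMod I 1 ((tR (LocCoh.puncturedOpen A 𝔞)).obj (ModuleCat.of A N)))
    (i : ℕ) (hi : i ≤ 2) : Module.Finite A (LocCoh.H 𝔞 i N) := by
  classical
  have hF : ∀ j ≤ 2, Module.Finite A (LocCoh.H 𝔞 j (A ⧸ I)) := fun j hj => by
    interval_cases j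
    · exact finite_H_zero _
    · exact h₁
    · exact h₂
  have ht : ∀ j : Fin 3, ∃ t : ℕ, ∀ z : LocCoh.H 𝔞 (j : ℕ) (A ⧸ I), ∀ b ∈ 𝔞 ^ t, b • z = 0 := fun j => by
    haveI := hF j (by omega)
    exact exists_pow_kill _ _
  choose t ht using ht
  let T := Finset.univ.sup t
  refine (((Groth.Agent.S0329.result A 𝔞 N 2).2 ?_) i hi)
  let J : Ideal A :=
    { carrier := {a | ∀ j ≤ 2, ∀ z : LocCoh.H 𝔞 j N, a • z = 0}
      add_mem' := fun ha hb j hj z => by rw [add_smul, ha j hj z, hb j hj z, add_zero]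
      zero_mem' := fun j hj z => zero_smul A z
      smul_mem' := fun c a ha j hj z => by rw [smul_eq_mul, mul_smul, ha j hj z, smul_zero] }
  refine ⟨J, fun x hx => ?_, fun j hj a ha z => ha j hj z⟩
  rw [Ideal.radical_eq_sInf, Submodule.mem_sInf]
  rintro P ⟨hJP, hP⟩
  by_contra hxP
  obtain ⟨h, r, α, β, k, hh, hβα⟩ := exists_local_split I N hfree ⟨P, hP⟩ (fun hc => hxP (hc hx))
  let Φ : ((Fin r → A) ⧸ (I ^ 1 • (⊤ : Submodule A (Fin r → A)))) ≃ₗ[A] (Fin r → A ⧸ I) :=
    (Submodule.quotEquivOfEq _ _ (by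
      ext v
      rw [pow_one]
      exact mem_smul_top_pi I v)).trans (Submodule.quotientPi (fun _ : Fin r => I))
  have hJ : x ^ T * h ^ k ∈ J := fun j hj z => by
    refine smul_eq_zero_of_factor (M' := ModuleCat.of A (Fin r → A ⧸ I))
      (ModuleCat.ofHom (Φ.toLinearMap.comp α)) (ModuleCat.ofHom (β.comp Φ.symm.toLinearMap)) _ _ j
      (ModuleCat.hom_ext (LinearMap.ext fun m => ?_)) (fun w => ?_) z
    · show β (Φ.symm (Φ (α m))) = h ^ k • m
      rw [LinearEquiv.symm_apply_apply, hβα]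
    · exact smul_eq_zero_pi _ r _ j (fun w => ht ⟨j, by omega⟩ w _
        (Ideal.pow_le_pow_right (Finset.le_sup (f := t) (Finset.mem_univ _)) (Ideal.pow_mem_pow hx T))) w
  rcases hP.mem_or_mem (hJP hJ) with h' | h'
  · exact hxP (hP.mem_of_pow_mem _ h')
  · exact hh (hP.mem_of_pow_mem _ h')

end H

end Groth.Agent.PuncSecLib
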