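import Groth.Agent.PuncSecLib.Torsion

/-!
# The formal system of the restriction of a tilde module
-/

set_option autoImplicit false
set_option linter.style.haveILetI false
set_option backward.isDefEq.respectTransparency.types false
set_option maxHeartbeats 800000

universe u

open CategoryTheory CategoryTheory.Limits AlgebraicGeometry TopologicalSpace Opposite

noncomputable section

namespace Groth.Agent.PuncSecLib

variable {A : Type u} [CommRing A]

theorem exists_modPow_iso_tR (U : (Sp A).Opens) (I : Ideal A) (n : ℕ) (M₀ : Type u) [AddCommGroup M₀] [Module A M₀] :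
    ∃ θ : Formal.modPow I n ((tR U).obj (ModuleCat.of A M₀)) ≅
        (tR U).obj (ModuleCat.of A (M₀ ⧸ (I ^ n • (⊤ : Submodule A M₀)))),
      Formal.modPowπ I n ((tR U).obj (ModuleCat.of A M₀)) ≫ θ.hom =
        (tR U).map (ModuleCat.ofHom (I ^ n • (⊤ : Submodule A M₀)).mkQ) := by
  let J : Ideal A := I ^ n
  let M : ModuleCat.{u} A := ModuleCat.of A M₀
  let π : M ⟶ ModuleCat.of A (M₀ ⧸ (J • (⊤ : Submodule A M₀))) := ModuleCat.ofHom (J • (⊤ : Submodule A M₀)).mkQ
  let c : (∐ fun _ : J => M) ⟶ M := Sigma.desc fun a => (a : A) • 𝟙 M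
  haveI : Epi π := (ModuleCat.epi_iff_surjective _).2 (Submodule.mkQ_surjective _)
  have hcond : ∀ a : J, ((a : A) • 𝟙 M) ≫ π = 0 := fun a => by
    refine ModuleCat.hom_ext (LinearMap.ext fun x => ?_)
    exact (Submodule.Quotient.mk_eq_zero _).2 (Submodule.smul_mem_smul a.2 Submodule.mem_top)
  have hw : c ≫ π = 0 := Sigma.hom_ext _ _ fun a => by
    rw [← Category.assoc, Sigma.ι_desc, comp_zero]; exact hcond a
  have hcol : IsColimit (CokernelCofork.ofπ π hw) := by
    refine CokernelCofork.IsColimit.ofπ' π hw fun {T} g hg => ?_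
    refine ⟨ModuleCat.ofHom ((J • (⊤ : Submodule A M₀)).liftQ g.hom ?_), ModuleCat.hom_ext (LinearMap.ext fun x => rfl)⟩
    refine Submodule.smul_le.2 fun a ha x _ => ?_
    have h := congr($((Sigma.ι (fun _ : J => M) ⟨a, ha⟩) ≫= hg).hom x)
    rw [← Category.assoc, Sigma.ι_desc, comp_zero] at h
    exact h
  let F := tR U
  haveI : F.Additive := inferInstanceAs (tilde.functor (CommRingCat.of A) ⋙ Scheme.Modules.restrictFunctor U.ι).Additive
  haveI : PreservesColimitsOfSize.{u, u} (tilde.functor (CommRingCat.of A)) :=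
    tilde.adjunction.leftAdjoint_preservesColimits
  haveI : PreservesColimitsOfSize.{u, u} (Scheme.Modules.restrictFunctor U.ι) :=
    (Scheme.Modules.restrictAdjunction U.ι).leftAdjoint_preservesColimits
  haveI : PreservesColimitsOfSize.{u, u} F :=
    inferInstanceAs (PreservesColimitsOfSize.{u, u} (tilde.functor (CommRingCat.of A) ⋙ Scheme.Modules.restrictFunctor U.ι))
  haveI : PreservesColimitsOfSize.{0, 0} F := preservesColimitsOfSize_shrink _
  haveI : IsIso (sigmaComparison F (fun _ : J => M)) := inferInstance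
  let O := (tR U).obj M
  let u : O ≅ F.obj M := Iso.refl _
  have hmap := CokernelCofork.mapIsColimit _ hcol F
  have hwα : Formal.smulFamily J O ≫ u.hom ≫ F.map π = 0 := Sigma.hom_ext _ _ fun a => by
    rw [comp_zero, ← Category.assoc, Formal.smulFamily, Sigma.ι_desc, ← Category.assoc,
      FormalLib.smulMod_natural, ← tR_map_lsmul, Category.assoc, ← F.map_comp, hcond a, F.map_zero, comp_zero]
  have hdesc : ∀ {T : (U : Scheme.{u}).Modules} (g : O ⟶ T), Formal.smulFamily J O ≫ g = 0 →
      F.map c ≫ u.inv ≫ g = 0 := by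
    intro T g hg
    refine (cancel_epi (sigmaComparison F (fun _ : J => M))).1 (Sigma.hom_ext _ _ fun a => ?_)
    rw [comp_zero, comp_zero, ι_comp_sigmaComparison_assoc, ← Category.assoc, ← F.map_comp, Sigma.ι_desc,
      tR_map_lsmul, ← Category.assoc, FormalLib.smulMod_natural, Category.assoc]
    have h := (Sigma.ι (fun _ : J => O) a) ≫= hg
    rw [← Category.assoc, Formal.smulFamily, Sigma.ι_desc, comp_zero] at h
    rw [h, comp_zero]
  let back : F.obj (ModuleCat.of A (M₀ ⧸ (J • (⊤ : Submodule A M₀)))) ⟶ Formal.modPow I n O :=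
    hmap.desc (CokernelCofork.ofπ (u.inv ≫ Formal.modPowπ I n O) (hdesc _ (cokernel.condition _)))
  have hback : F.map π ≫ back = u.inv ≫ Formal.modPowπ I n O :=
    hmap.fac (CokernelCofork.ofπ (u.inv ≫ Formal.modPowπ I n O) (hdesc _ (cokernel.condition _))) WalkingParallelPair.one
  refine ⟨⟨cokernel.desc _ (u.hom ≫ F.map π) hwα, back, ?_, ?_⟩, (cokernel.π_desc _ _ _).trans (Category.id_comp _)⟩
  · refine (cancel_epi (cokernel.π (Formal.smulFamily J O))).1 ?_
    refine (Category.assoc _ _ _).symm.trans ((congrArg (· ≫ back) (cokernel.π_desc _ _ _)).trans ?_)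
    refine (Category.assoc _ _ _).trans ((congrArg (u.hom ≫ ·) hback).trans ?_)
    refine (Category.assoc _ _ _).symm.trans ?_
    rw [u.hom_inv_id, Category.id_comp]
    exact (Category.comp_id _).symm
  · haveI : Epi (F.map π) := F.map_epi π
    refine (cancel_epi (F.map π)).1 ?_
    rw [← Category.assoc, hback, Category.assoc]
    refine (congrArg (u.inv ≫ ·) (cokernel.π_desc _ _ _)).trans ?_
    rw [← Category.assoc, u.inv_hom_id, Category.id_comp, Category.comp_id]

/-- Free modules. -/
def freeIso (U : (Sp A).Opens) (r : ℕ) :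
    FlatMod.freeMod (U : Scheme.{u}) r ≅ (tR U).obj (ModuleCat.of A (Fin r → A)) :=
  haveI : PreservesColimitsOfShape (Discrete (Fin r)) (tR U) :=
    haveI : PreservesColimitsOfSize.{u, u} (tR U) := (tRadj U).leftAdjoint_preservesColimits
    haveI : PreservesColimitsOfSize.{0, 0} (tR U) := preservesColimitsOfSize_shrink _
    inferInstance
  Sigma.mapIso (fun _ => unitIso U) ≪≫ asIso (sigmaComparison (tR U) fun _ : Fin r => ModuleCat.of A A) ≪≫
    (tR U).mapIso ((biproduct.isoCoproduct _).symm ≪≫ ModuleCat.biproductIsoPi _)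

end Groth.Agent.PuncSecLib
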