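import Groth.Agent.PuncSecLib.ColimSES

/-!
# The colimit comparison for the middle term of a short exact sequence
-/

set_option autoImplicit false
set_option linter.style.haveILetI false
set_option backward.isDefEq.respectTransparency.types false

universe u

open CategoryTheory AlgebraicGeometry TopologicalSpace Opposite

noncomputable section

namespace Groth.Agent.PuncSecLib

variable {A : Type u} [CommRing A] {M N K : Type u} [AddCommGroup M] [Module A M] [AddCommGroup N] [Module A N]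
  [AddCommGroup K] [Module A K]

theorem rs_rs {U V W : (Sp A).Opens} (h : U ≤ V) (h' : V ≤ W) (s : Sec M W) :
    rs M h (rs M h' s) = rs M (h.trans h') s := by
  show ((modulesSpecToSheaf.obj (tilde (R := CommRingCat.of A) (ModuleCat.of A M))).presheaf.map (homOfLE h).op).hom
    (((modulesSpecToSheaf.obj (tilde (R := CommRingCat.of A) (ModuleCat.of A M))).presheaf.map (homOfLE h').op).hom s) = _
  rw [← ModuleCat.comp_apply, ← Functor.map_comp]
  rfl

/-- Module killed by a power of `I`: sections are determined on any admissible open. -/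
theorem rs_injective_of_killed (I : Ideal A) (n : ℕ) (hQ : ∀ i ∈ I, ∀ q : M, i ^ n • q = 0)
    {U V : (Sp A).Opens} (hV : Formal2.Admissible A I U V) (s : Sec M U) (hs : rs M hV.1 s = 0) : s = 0 := by
  let W : Option {i // i ∈ I} → (Sp A).Opens := fun o =>
    o.elim V fun i => U ⊓ (PrimeSpectrum.basicOpen i.1 : (Sp A).Opens)
  have hW : ∀ o, W o ≤ U := fun o => by
    cases o with
    | none => exact hV.1
    | some i => exact inf_le_left
  refine sec_ext hW (fun p hp => ?_) s 0 fun o => ?_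
  · by_cases h : p ∈ PrimeSpectrum.zeroLocus (R := A) I
    · exact Opens.mem_iSup.2 ⟨none, hV.2 p hp h⟩
    · obtain ⟨i, hi, hip⟩ := Set.not_subset.1 h
      exact Opens.mem_iSup.2 ⟨some ⟨i, hi⟩, hp, hip⟩
  · rw [map_zero]
    cases o with
    | none => exact hs
    | some i =>
      refine ((smul_regular_D (M := M) i.1 (inf_le_right : U ⊓ PrimeSpectrum.basicOpen i.1 ≤ _)).pow n
        ).right_eq_zero_of_smul ?_
      refine (sm_lsmul (i.1 ^ n) _ _).symm.trans ?_
      rw [show LinearMap.lsmul A M (i.1 ^ n) = 0 from LinearMap.ext fun q => hQ i.1 i.2 q]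
      exact sm_zero _ _

theorem pow_smul_quot (I : Ideal A) (n : ℕ) (i : A) (hi : i ∈ I) (q : Formal2.quotPow A I M n) :
    i ^ (n + 1) • q = 0 := by
  obtain ⟨x, rfl⟩ := Submodule.Quotient.mk_surjective _ q
  exact (Submodule.Quotient.mk_eq_zero _).2
    (Submodule.smul_mem_smul (Ideal.pow_mem_pow hi (n + 1)) Submodule.mem_top)

theorem admissible_inf {I : Ideal A} {U V W : (Sp A).Opens} (hV : Formal2.Admissible A I U V)
    (hW : Formal2.Admissible A I U W) : Formal2.Admissible A I U (V ⊓ W) :=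
  ⟨inf_le_left.trans hV.1, fun p hp hpI => ⟨hV.2 p hp hpI, hW.2 p hp hpI⟩⟩

/-- Artin–Rees: compatible systems in the kernels come from the submodule. -/
theorem exists_compat_of_kernel [IsNoetherianRing A] [Module.Finite A N] (I : Ideal A) {f : M →ₗ[A] N}
    {g : N →ₗ[A] K} (hf : Function.Injective f) (hg : Function.Surjective g)
    (hfg : LinearMap.range f = LinearMap.ker g) {V : (Sp A).Opens}
    (d : ∀ n, Sec (Formal2.quotPow A I N n) V)
    (hd : ∀ n, sm (Formal2.quotPowTrans A I N n) V (d (n + 1)) = d n)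
    (h0d : ∀ n, sm (mapQuot I g n) V (d n) = 0) :
    ∃ d' : ∀ n, Sec (Formal2.quotPow A I M n) V,
      (∀ n, sm (Formal2.quotPowTrans A I M n) V (d' (n + 1)) = d' n) ∧
        ∀ n, sm (mapQuot I f n) V (d' n) = d n := by
  obtain ⟨c, hc⟩ := Ideal.exists_pow_inf_eq_pow_smul I (LinearMap.range f)
  let P : ℕ → Submodule A M := fun m => Submodule.comap f (I ^ (m + 1) • ⊤)
  have hP : ∀ n, P (n + c) ≤ I ^ (n + 1) • ⊤ := fun n x hx => by
    have h1 : f x ∈ I ^ (n + c + 1) • (⊤ : Submodule A N) ⊓ LinearMap.range f :=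
      ⟨hx, LinearMap.mem_range_self f x⟩
    rw [hc (n + c + 1) (by omega), show n + c + 1 - c = n + 1 by omega] at h1
    have h2 : f x ∈ I ^ (n + 1) • LinearMap.range f := Submodule.smul_mono le_rfl inf_le_right h1
    rw [LinearMap.range_eq_map, ← Submodule.map_smul''] at h2
    obtain ⟨z, hz, hzx⟩ := h2
    exact hf hzx ▸ hz
  let j : ∀ m, (M ⧸ P m) →ₗ[A] Formal2.quotPow A I N m := fun m => Submodule.mapQ (P m) _ f le_rfl
  have hj : ∀ m, Function.Injective (j m) := fun m => by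
    refine (injective_iff_map_eq_zero (j m)).2 fun q hq => ?_
    obtain ⟨x, rfl⟩ := Submodule.Quotient.mk_surjective _ q
    rw [Submodule.mapQ_apply, Submodule.Quotient.mk_eq_zero] at hq
    exact (Submodule.Quotient.mk_eq_zero _).2 hq
  have hgq : ∀ m, Function.Surjective (mapQuot I g m) := fun m q => by
    obtain ⟨x, rfl⟩ := Submodule.Quotient.mk_surjective _ q
    obtain ⟨y, rfl⟩ := hg x
    exact ⟨Submodule.Quotient.mk y, mapQuot_mk I g m y⟩
  have hex : ∀ m, LinearMap.range (j m) = LinearMap.ker (mapQuot I g m) := fun m => by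
    ext q
    obtain ⟨x, rfl⟩ := Submodule.Quotient.mk_surjective _ q
    rw [LinearMap.mem_ker, mapQuot_mk, Submodule.Quotient.mk_eq_zero]
    constructor
    · rintro ⟨w, hw⟩
      obtain ⟨v, rfl⟩ := Submodule.Quotient.mk_surjective _ w
      rw [Submodule.mapQ_apply, Submodule.Quotient.eq] at hw
      have h1 : g (f v - x) ∈ I ^ (m + 1) • (⊤ : Submodule A K) := by
        refine Submodule.smul_mono le_rfl le_top ((Submodule.map_smul'' (I ^ (m + 1)) (⊤ : Submodule A N) g).le ?_)
        exact Submodule.mem_map_of_mem hw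
      rw [map_sub, show g (f v) = 0 from LinearMap.mem_ker.1 (hfg ▸ LinearMap.mem_range_self f v),
        zero_sub, Submodule.neg_mem_iff] at h1
      exact h1
    · intro hx
      rw [← LinearMap.range_eq_top.2 hg, LinearMap.range_eq_map, ← Submodule.map_smul''] at hx
      obtain ⟨z, hz, hzx⟩ := hx
      obtain ⟨v, hv⟩ : x - z ∈ LinearMap.range f := hfg ▸ LinearMap.mem_ker.2 (by rw [map_sub, hzx, sub_self])
      refine ⟨Submodule.Quotient.mk v, ?_⟩
      rw [Submodule.mapQ_apply, Submodule.Quotient.eq, hv, sub_sub_cancel_left]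
      exact Submodule.neg_mem _ hz
  choose e he using fun m => exists_of_sm_eq_zero (hj m) (hgq m) (hex m) (d m) (h0d m)
  let ρ : ∀ n, (M ⧸ P (n + c)) →ₗ[A] Formal2.quotPow A I M n := fun n =>
    Submodule.mapQ _ _ LinearMap.id (by rw [Submodule.comap_id]; exact hP n)
  refine ⟨fun n => sm (ρ n) V (e (n + c)), fun n => ?_, fun n => ?_⟩
  · let t : (M ⧸ P (n + 1 + c)) →ₗ[A] (M ⧸ P (n + c)) := Submodule.mapQ _ _ LinearMap.id (by
      rw [Submodule.comap_id]
      exact Submodule.comap_mono (Submodule.smul_mono_left (Ideal.pow_le_pow_right (by omega))))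
    have ht : sm t V (e (n + 1 + c)) = e (n + c) := sm_injective (hj (n + c)) V (by
      rw [he, ← sm_comp, ← compat_qI hd (show n + c ≤ n + 1 + c by omega), ← he, ← sm_comp]
      exact congrArg (fun φ => sm φ V (e (n + 1 + c))) (Submodule.linearMap_qext _ (LinearMap.ext fun _ => rfl)))
    show sm (Formal2.quotPowTrans A I M n) V (sm (ρ (n + 1)) V (e (n + 1 + c))) = sm (ρ n) V (e (n + c))
    rw [← sm_comp, ← ht, ← sm_comp]
    exact congrArg (fun φ => sm φ V (e (n + 1 + c))) (Submodule.linearMap_qext _ (LinearMap.ext fun _ => rfl))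
  · rw [← sm_comp, ← compat_qI hd (Nat.le_add_right n c), ← he, ← sm_comp]
    exact congrArg (fun φ => sm φ V (e (n + c))) (Submodule.linearMap_qext _ (LinearMap.ext fun _ => rfl))

theorem sm_comp_eq_zero {f : M →ₗ[A] N} {g : N →ₗ[A] K} (hfg : LinearMap.range f = LinearMap.ker g)
    (V : (Sp A).Opens) (s : Sec M V) : sm g V (sm f V s) = 0 := by
  rw [← sm_comp, show g.comp f = 0 from LinearMap.ext fun z =>
    LinearMap.mem_ker.1 (hfg.le (LinearMap.mem_range_self f z))]
  exact sm_zero V s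

theorem secColim_mid_inj [IsNoetherianRing A] [Module.Finite A N] (I : Ideal A) (U : (Sp A).Opens)
    (f : M →ₗ[A] N) (g : N →ₗ[A] K) (hf : Function.Injective f) (hg : Function.Surjective g)
    (hfg : LinearMap.range f = LinearMap.ker g) (h' : SecColim I M U) (h'' : SecColim I K U)
    (V : (Sp A).Opens) (hV : Formal2.Admissible A I U V) (x : Sec N V)
    (hx : ∀ n, sm (Formal2.quotPowπ A I N n) V x = 0) :
    ∃ (V' : (Sp A).Opens) (h : Formal2.Admissible A I U V' ∧ V' ≤ V), rs N h.2 x = 0 := by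
  obtain ⟨V', h1, e⟩ := h''.1 V hV (sm g V x) fun n => by
    rw [← sm_comp, ← mapQuot_π, sm_comp, hx n, map_zero]
  obtain ⟨x', hx'⟩ := exists_of_sm_eq_zero hf hg hfg (rs N h1.2 x) (by rw [sm_rs, e])
  obtain ⟨V'', h2, e'⟩ := h'.1 V' h1.1 x' fun n => by
    refine eq_zero_of_compat I hf (fun m => sm (Formal2.quotPowπ A I M m) V' x') (fun m => ?_) (fun m => ?_) n
    · rw [← sm_comp]
      rfl
    · rw [← sm_comp, mapQuot_π, sm_comp, hx', sm_rs, hx m, map_zero]
  exact ⟨V'', ⟨h2.1, h2.2.trans h1.2⟩, by rw [← rs_rs h2.2 h1.2, ← hx', ← sm_rs, e', map_zero]⟩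

theorem secColim_mid [IsNoetherianRing A] [Module.Finite A N] (I : Ideal A) (U : (Sp A).Opens)
    (f : M →ₗ[A] N) (g : N →ₗ[A] K) (hf : Function.Injective f) (hg : Function.Surjective g)
    (hfg : LinearMap.range f = LinearMap.ker g) (h' : SecColim I M U) (h'' : SecColim I K U) :
    SecColim I N U := by
  classical
  refine ⟨secColim_mid_inj I U f g hf hg hfg h' h'', fun y hy => ?_⟩
  obtain ⟨V, hV, x'', hx''⟩ := h''.2 (fun n => sm (mapQuot I g n) U (y n)) fun n => by
    rw [← sm_comp, mapQuot_trans, sm_comp, hy n]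
  obtain ⟨J, hJ⟩ := (PrimeSpectrum.isClosed_iff_zeroLocus_ideal ((V : Set (Sp A))ᶜ)).1 V.isOpen.isClosed_compl
  obtain rfl : V = LocCoh.puncturedOpen A J := Opens.ext (by
    show (V : Set (Sp A)) = (PrimeSpectrum.zeroLocus (R := A) (J : Set A))ᶜ
    rw [← hJ]; exact (compl_compl _).symm)
  obtain ⟨N₀, hN₀⟩ := exists_pow_smul_mem_range x''
  obtain ⟨G, hG⟩ := IsNoetherian.noetherian (J ^ N₀)
  -- per generator: a model of `a • y` on an admissible open
  have loc : ∀ a : {a // a ∈ G}, ∃ (Va : (Sp A).Opens) (hVa : Formal2.Admissible A I U Va) (s : Sec N Va),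
      ∀ n, sm (Formal2.quotPowπ A I N n) Va s = rs _ hVa.1 (a.1 • y n) := fun a => by
    obtain ⟨m'', hm''⟩ := hN₀ a.1 (hG ▸ Submodule.subset_span a.2)
    obtain ⟨m, rfl⟩ := hg m''
    let d : ∀ n, Sec (Formal2.quotPow A I N n) U := fun n =>
      ε _ U (Formal2.quotPowπ A I N n m) - a.1 • y n
    obtain ⟨d', hd', hfd'⟩ := exists_compat_of_kernel I hf hg hfg d (fun n => by
      show sm _ U (ε _ U _ - a.1 • y (n + 1)) = _
      rw [map_sub, map_smul, hy n, sm_ε]
      rfl) fun n => by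
        refine rs_injective_of_killed I (n + 1) (pow_smul_quot I n) hV _ ?_
        show rs _ hV.1 (sm (mapQuot I g n) U (ε _ U (Formal2.quotPowπ A I N n m) - a.1 • y n)) = 0
        rw [map_sub, map_sub, sm_ε, rs_ε, map_smul, map_smul, hx'' n, ← map_smul, ← hm'', sm_ε, sub_eq_zero]
        rfl
    obtain ⟨Va, hVa, x', hx'⟩ := h'.2 d' hd'
    refine ⟨Va, hVa, ε N Va m - sm f Va x', fun n => ?_⟩
    rw [map_sub, sm_ε, ← sm_comp, ← mapQuot_π, sm_comp, ← hx' n, sm_rs, hfd' n]
    show ε _ Va _ - rs _ hVa.1 (ε _ U _ - a.1 • y n) = _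
    rw [map_sub, rs_ε, sub_sub_cancel]
  choose Va hVa s hs using loc
  have pair : ∀ ab : {a // a ∈ G} × {a // a ∈ G}, ∃ W : (Sp A).Opens, Formal2.Admissible A I U W ∧
      ∃ (h1 : W ≤ Va ab.1) (h2 : W ≤ Va ab.2),
        ab.2.1 • rs N h1 (s ab.1) = ab.1.1 • rs N h2 (s ab.2) := fun ab => by
    obtain ⟨W, hW, e⟩ := secColim_mid_inj I U f g hf hg hfg h' h'' (Va ab.1 ⊓ Va ab.2)
      (admissible_inf (hVa ab.1) (hVa ab.2))
      (ab.2.1 • rs N (inf_le_left : Va ab.1 ⊓ Va ab.2 ≤ Va ab.1) (s ab.1) -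
        ab.1.1 • rs N (inf_le_right : Va ab.1 ⊓ Va ab.2 ≤ Va ab.2) (s ab.2)) fun n => by
        rw [map_sub, map_smul, map_smul, sm_rs, sm_rs, hs, hs, rs_rs, rs_rs, map_smul, map_smul,
          smul_comm, sub_self]
    refine ⟨W, hW.1, hW.2.trans inf_le_left, hW.2.trans inf_le_right, ?_⟩
    rw [map_sub, map_smul, map_smul, rs_rs, rs_rs, sub_eq_zero] at e
    exact e
  choose W hW h1 h2 heq using pair
  let V' : (Sp A).Opens := LocCoh.puncturedOpen A J ⊓ (Finset.univ.inf Va ⊓ Finset.univ.inf W)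
  have hfin : ∀ {ι : Type u} (t : Finset ι) (F : ι → (Sp A).Opens), (∀ i, Formal2.Admissible A I U (F i)) →
      ∀ p ∈ U, p ∈ PrimeSpectrum.zeroLocus (R := A) I → p ∈ t.inf F := fun {ι} t F hF p hp hpI =>
    Finset.inf_induction (p := fun O : (Sp A).Opens => p ∈ O) trivial
      (fun _ ha _ hb => ⟨ha, hb⟩) fun i _ => (hF i).2 p hp hpI
  have hV' : Formal2.Admissible A I U V' :=
    ⟨inf_le_left.trans hV.1, fun p hp hpI => ⟨hV.2 p hp hpI, hfin _ _ hVa p hp hpI, hfin _ _ hW p hp hpI⟩⟩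
  let D : {a // a ∈ G} → (Sp A).Opens := fun a => V' ⊓ (PrimeSpectrum.basicOpen a.1 : (Sp A).Opens)
  have hDV : ∀ a, D a ≤ V' := fun a => inf_le_left
  have hDa : ∀ a b, D a ≤ Va b := fun a b =>
    (hDV a).trans (inf_le_right.trans (inf_le_left.trans (Finset.inf_le (Finset.mem_univ b))))
  have hDW : ∀ a ab, D a ≤ W ab := fun a ab =>
    (hDV a).trans (inf_le_right.trans (inf_le_right.trans (Finset.inf_le (Finset.mem_univ ab))))
  have hu : ∀ a, IsUnit (algebraMap A (Module.End A (Sec N (D a))) a.1) := fun a =>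
    Scheme.Modules.isUnit_algebraMap_end_of_le_basicOpen (R := CommRingCat.of A)
      (M := tilde (R := CommRingCat.of A) (ModuleCat.of A N)) (U := D a) a.1 inf_le_right
  choose x hx using fun a => ((Module.End.isUnit_iff _).1 (hu a)).2 (rs N (hDa a a) (s a))
  have hx' : ∀ a, a.1 • x a = rs N (hDa a a) (s a) := hx
  have hcov : V' ≤ iSup D := fun p hp => by
    by_contra hc
    refine hp.1 fun b hb => ?_
    refine p.2.mem_of_pow_mem N₀ ((?_ : J ^ N₀ ≤ p.asIdeal) (Ideal.pow_mem_pow hb N₀))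
    rw [← hG, Submodule.span_le]
    intro a ha
    by_contra hap
    exact hc (Opens.mem_iSup.2 ⟨⟨a, ha⟩, hp, hap⟩)
  obtain ⟨z, hz, -⟩ := TopCat.Sheaf.existsUnique_gluing'
    (modulesSpecToSheaf.obj (tilde (R := CommRingCat.of A) (ModuleCat.of A N))) D V'
    (fun a => homOfLE (hDV a)) hcov x (fun a b => by
      show rs N (inf_le_left : D a ⊓ D b ≤ D a) (x a) = rs N (inf_le_right : D a ⊓ D b ≤ D b) (x b)
      have hr := smul_regular_D (M := N) a.1 ((inf_le_left : D a ⊓ D b ≤ D a).trans inf_le_right)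
      have hr' := smul_regular_D (M := N) b.1 ((inf_le_right : D a ⊓ D b ≤ D b).trans inf_le_right)
      refine hr' (hr ?_)
      show a.1 • b.1 • rs N (inf_le_left : D a ⊓ D b ≤ D a) (x a) =
        a.1 • b.1 • rs N (inf_le_right : D a ⊓ D b ≤ D b) (x b)
      have e := congrArg (rs N ((inf_le_left : D a ⊓ D b ≤ D a).trans (hDW a (a, b)))) (heq (a, b))
      rw [map_smul, map_smul, rs_rs, rs_rs] at e
      rw [smul_comm, ← map_smul, hx', ← map_smul (rs N (inf_le_right : D a ⊓ D b ≤ D b)), hx', rs_rs, rs_rs]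
      exact e)
  refine ⟨V', hV', z, fun n => sec_ext hDV hcov _ _ fun a => ?_⟩
  have hza : rs N (hDV a) z = x a := hz a
  refine smul_regular_D a.1 inf_le_right ?_
  show a.1 • rs _ (hDV a) (rs _ hV'.1 (y n)) = a.1 • rs _ (hDV a) (sm (Formal2.quotPowπ A I N n) V' z)
  rw [← sm_rs, hza, ← map_smul (sm (Formal2.quotPowπ A I N n) (D a)), hx', sm_rs, hs, rs_rs, rs_rs,
    map_smul]

end Groth.Agent.PuncSecLib
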