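import Groth.Agent.HilbObsLib.Ideal
import Groth.Agent.DCohLib.ClosedPush
import Groth.Agent.BCLib.TensorFun
import Groth.Agent.DevLib.Closed

/-!
# Regularity of a system of modules, read on stalks
-/

set_option autoImplicit false
set_option backward.isDefEq.respectTransparency false
set_option linter.style.haveILetI false
set_option maxHeartbeats 600000

universe u

open CategoryTheory CategoryTheory.Limits AlgebraicGeometry TopologicalSpace
open Groth.Agent.PullbackMod

noncomputable section

namespace Groth.Agent.PuncSecLib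

/-- An equality of a kernel with an image, on stalks. -/
theorem exists_stalk_preimage_of_kernel_eq_image {Z : Scheme.{u}} {M : Z.Modules} {φ ψ : M ⟶ M}
    (h : kernelSubobject φ = imageSubobject ψ) (x : Z) (z : M.presheaf.stalk x) (hz : stalkLin φ x z = 0) :
    ∃ w, stalkLin ψ x w = z := by
  obtain ⟨n, hn⟩ := HilbObsLib.stalk_kernel_ι_exists φ x hz
  have hf : (imageSubobject ψ).Factors (kernel.ι φ) := h ▸ kernelSubobject_factors φ _ (kernel.condition φ)
  let a := (imageSubobject ψ).factorThru (kernel.ι φ) hf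
  haveI : Epi (factorThruImageSubobject ψ) := by
    dsimp [factorThruImageSubobject]; infer_instance
  obtain ⟨w, hw⟩ := (epi_iff_stalk (factorThruImageSubobject ψ)).1 inferInstance x (stalkLin a x n)
  refine ⟨w, Eq.trans ?_ hn⟩
  calc stalkLin ψ x w
      = stalkLin (imageSubobject ψ).arrow x (stalkLin (factorThruImageSubobject ψ) x w) := by
        rw [← LinearMap.comp_apply, ← stalkLin_comp, imageSubobject_arrow_comp]
    _ = stalkLin (imageSubobject ψ).arrow x (stalkLin a x n) := by rw [hw]
    _ = stalkLin (kernel.ι φ) x n := by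
        rw [← LinearMap.comp_apply, ← stalkLin_comp, Subobject.factorThru_arrow]

/-- Regularity in the form "killed by `g` implies divisible by `g ^ N`". -/
theorem exists_pow_smul {Z : Scheme.{u}} {M : Z.Modules} (s : Γ(Z, ⊤)) (N : ℕ)
    (h : kernelSubobject (Formal.smulModΓ M (s ^ N)) = imageSubobject (Formal.smulModΓ M s)) (x : Z)
    (z : M.presheaf.stalk x) (hz : Z.presheaf.germ ⊤ x trivial s • z = 0) :
    ∃ w, z = Z.presheaf.germ ⊤ x trivial s ^ N • w := by
  let g := Z.presheaf.germ ⊤ x trivial s
  suffices key : ∀ j, j ≤ N → ∃ w, z = g ^ j • w from key N le_rfl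
  intro j hj
  induction j with
  | zero => exact ⟨z, by rw [pow_zero, one_smul]⟩
  | succ j ih =>
    obtain ⟨w, hw⟩ := ih (Nat.le_of_succ_le hj)
    have h0 : stalkLin (Formal.smulModΓ M (s ^ N)) x w = 0 := by
      obtain ⟨d, rfl⟩ := Nat.exists_eq_add_of_lt hj
      rw [BCLib.stalkLin_smulModΓ, map_pow, show j + d + 1 = (d + 1) + j by omega, pow_add, mul_smul, ← hw,
        pow_succ, mul_smul, hz, smul_zero]
    obtain ⟨w', hw'⟩ := exists_stalk_preimage_of_kernel_eq_image h x w h0
    refine ⟨w', ?_⟩
    rw [BCLib.stalkLin_smulModΓ] at hw'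
    rw [hw, pow_succ, mul_smul, hw']

/-- The same for the direct image to the ambient scheme. -/
theorem exists_pow_smul_push {Z P : Scheme.{u}} (i : Z ⟶ P) [IsClosedImmersion i] {M : Z.Modules} (s : Γ(P, ⊤))
    (N : ℕ)
    (h : kernelSubobject (Formal.smulModΓ M (i.appTop s ^ N)) = imageSubobject (Formal.smulModΓ M (i.appTop s)))
    (x : P) (z : ((Scheme.Modules.pushforward i).obj M).presheaf.stalk x)
    (hz : P.presheaf.germ ⊤ x trivial s • z = 0) : ∃ w, z = P.presheaf.germ ⊤ x trivial s ^ N • w := by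
  by_cases hx : x ∈ Set.range i
  · obtain ⟨y, rfl⟩ := hx
    have hg : i.stalkMap y (P.presheaf.germ ⊤ (i y) trivial s) = Z.presheaf.germ ⊤ y trivial (i.appTop s) :=
      Scheme.Hom.germ_stalkMap_apply i ⊤ y trivial s
    have h0 : Z.presheaf.germ ⊤ y trivial (i.appTop s) • DCohLib.pushStalk i M y z = 0 := by
      rw [← hg, ← DCohLib.pushStalk_smul, hz, map_zero]
    obtain ⟨w, hw⟩ := exists_pow_smul (i.appTop s) N h y _ h0
    obtain ⟨w', rfl⟩ := (DCohLib.bijective_pushStalk i M y).2 w
    refine ⟨w', (DCohLib.bijective_pushStalk i M y).1 ?_⟩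
    rw [DCohLib.pushStalk_smul, map_pow, hg]
    exact hw
  · haveI := DCohLib.subsingleton_stalk_pushforward i M x hx
    exact ⟨0, Subsingleton.elim _ _⟩

end Groth.Agent.PuncSecLib
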