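import Mathlib
import Groth.Prelude.Def_Formal2
import Groth.Prelude.Def_Wider
import Groth.Agent.QcInjLib.Tilde
import Groth.Agent.TildeD.Exact

/-!
# Sections of `M~` over open subsets of `Spec A` and power torsion
-/

set_option autoImplicit false
set_option linter.style.haveILetI false
set_option backward.isDefEq.respectTransparency.types false

universe u

open CategoryTheory AlgebraicGeometry TopologicalSpace Opposite

noncomputable section

namespace Groth.Agent.PuncSecLib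

variable {A : Type u} [CommRing A] (M : Type u) [AddCommGroup M] [Module A M]
  {N : Type u} [AddCommGroup N] [Module A N]

/-- The affine scheme. -/
abbrev Sp (A : Type u) [CommRing A] : Scheme.{u} := Spec (CommRingCat.of A)

/-- Sections of `M~`. -/
abbrev Sec (U : (Sp A).Opens) : Type u :=
  ↑((modulesSpecToSheaf.obj (tilde (R := CommRingCat.of A) (ModuleCat.of A M))).presheaf.obj (op U))

/-- The canonical map. -/
def ε (U : (Sp A).Opens) : M →ₗ[A] Sec M U :=
  (tilde.toOpen (R := CommRingCat.of A) (ModuleCat.of A M) U).hom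

/-- Restriction. -/
def rs {V W : (Sp A).Opens} (h : V ≤ W) : Sec M W →ₗ[A] Sec M V :=
  ((modulesSpecToSheaf.obj (tilde (R := CommRingCat.of A) (ModuleCat.of A M))).presheaf.map (homOfLE h).op).hom

variable {M}

/-- Functoriality in the module. -/
def sm (φ : M →ₗ[A] N) (U : (Sp A).Opens) : Sec M U →ₗ[A] Sec N U :=
  ((modulesSpecToSheaf.map (tilde.map (R := CommRingCat.of A) (ModuleCat.ofHom φ))).1.app (op U)).hom

theorem sm_ε (φ : M →ₗ[A] N) (U : (Sp A).Opens) (m : M) : sm φ U (ε M U m) = ε N U (φ m) :=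
  congr($(tilde.toOpen_map_app (R := CommRingCat.of A) (ModuleCat.ofHom φ) U).hom m)

theorem rs_ε {V W : (Sp A).Opens} (h : V ≤ W) (m : M) : rs M h (ε M W m) = ε M V m := rfl

theorem rs_refl (U : (Sp A).Opens) (s : Sec M U) : rs M (le_refl U) s = s := by
  show ((modulesSpecToSheaf.obj (tilde (R := CommRingCat.of A) (ModuleCat.of A M))).presheaf.map (homOfLE (le_refl U)).op).hom s = s
  rw [show (homOfLE (le_refl U)).op = 𝟙 (op U) from rfl]
  simp

theorem sm_comp {K : Type u} [AddCommGroup K] [Module A K] (ψ : N →ₗ[A] K) (φ : M →ₗ[A] N)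
    (U : (Sp A).Opens) (s : Sec M U) : sm (ψ.comp φ) U s = sm ψ U (sm φ U s) := by
  show ((modulesSpecToSheaf.map (tilde.map (R := CommRingCat.of A)
    (ModuleCat.ofHom φ ≫ ModuleCat.ofHom ψ))).1.app (op U)).hom s = _
  rw [tilde.map_comp, Functor.map_comp]
  rfl

theorem sm_zero (U : (Sp A).Opens) (s : Sec M U) : sm (0 : M →ₗ[A] N) U s = 0 :=
  Subtype.ext (funext fun p => DFunLike.congr_fun
    (LinearMap.map_zero (IsLocalizedModule.map p.1.asIdeal.primeCompl
      (LocalizedModule.mkLinearMap p.1.asIdeal.primeCompl M)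
      (LocalizedModule.mkLinearMap p.1.asIdeal.primeCompl N))) _)

theorem sm_rs (φ : M →ₗ[A] N) {V W : (Sp A).Opens} (h : V ≤ W) (s : Sec M W) :
    sm φ V (rs M h s) = rs N h (sm φ W s) :=
  congr($((modulesSpecToSheaf.map (tilde.map (R := CommRingCat.of A) (ModuleCat.ofHom φ))).1.naturality (homOfLE h).op).hom s)

theorem sm_injective {φ : M →ₗ[A] N} (hφ : Function.Injective φ) (U : (Sp A).Opens) :
    Function.Injective (sm φ U) :=
  TildeD.injective_tilde_map_app (R := CommRingCat.of A) (ModuleCat.ofHom φ) hφ U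

theorem ε_surjective_of_injective [IsNoetherianRing A] [Module.Injective A M] (U : (Sp A).Opens) :
    Function.Surjective (ε M U) := by
  haveI : IsNoetherianRing (CommRingCat.of A) := inferInstanceAs (IsNoetherianRing A)
  haveI : Module.Injective (CommRingCat.of A) (ModuleCat.of A M) := inferInstanceAs (Module.Injective A M)
  exact QcInjLib.surjective_toOpen (R := CommRingCat.of A) (ModuleCat.of A M) U

theorem ε_eq_zero_iff (U : (Sp A).Opens) (m : M) :
    ε M U m = 0 ↔ ∀ p : PrimeSpectrum A, p ∈ U → ∃ s : A, s ∉ p.asIdeal ∧ s • m = 0 := by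
  have hval : ∀ (p : U), (ε M U m).1 p =
      LocalizedModule.mkLinearMap p.1.asIdeal.primeCompl M m := fun _ => rfl
  constructor
  · intro h p hp
    have h1 : LocalizedModule.mkLinearMap p.asIdeal.primeCompl M m = 0 :=
      (hval ⟨p, hp⟩).symm.trans (congrFun (congrArg Subtype.val h) ⟨p, hp⟩)
    obtain ⟨⟨s, hs⟩, h2⟩ := (IsLocalizedModule.eq_zero_iff p.asIdeal.primeCompl _).1 h1
    exact ⟨s, hs, h2⟩
  · intro h
    refine Subtype.ext (funext fun p => ?_)
    obtain ⟨s, hs, h2⟩ := h p.1 p.2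
    exact (hval p).trans ((IsLocalizedModule.eq_zero_iff p.1.asIdeal.primeCompl _).2 ⟨⟨s, hs⟩, h2⟩)

theorem sm_lsmul (a : A) (V : (Sp A).Opens) (s : Sec M V) : sm (LinearMap.lsmul A M a) V s = a • s := by
  refine TopCat.Sheaf.eq_of_locally_eq' (modulesSpecToSheaf.obj (tilde (R := CommRingCat.of A) (ModuleCat.of A M)))
    (fun g : {g : A // PrimeSpectrum.basicOpen g ≤ V} => PrimeSpectrum.basicOpen g.1) V
    (fun g => homOfLE g.2) (fun p hp => ?_) _ _ fun g => ?_
  · obtain ⟨_, ⟨g, rfl⟩, hpg, hgV⟩ :=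
      Opens.isBasis_iff_nbhd.1 PrimeSpectrum.isBasis_basic_opens hp
    exact Opens.mem_iSup.2 ⟨⟨g, hgV⟩, hpg⟩
  · show rs M g.2 (sm (LinearMap.lsmul A M a) V s) = rs M g.2 (a • s)
    rw [map_smul, ← sm_rs]
    haveI : IsLocalizedModule (Submonoid.powers g.1) (ε M (PrimeSpectrum.basicOpen g.1 : (Sp A).Opens)) :=
      IsLocalizedModule.of_linearEquiv (Submonoid.powers g.1)
        (StructureSheaf.toOpenₗ A M (PrimeSpectrum.basicOpen g.1))
        ((tilde.modulesSpecToSheafIso (R := CommRingCat.of A) (ModuleCat.of A M)).app _).toLinearEquiv.symm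
    obtain ⟨⟨m, ⟨_, n, rfl⟩⟩, hx⟩ := IsLocalizedModule.surj (Submonoid.powers g.1)
      (ε M (PrimeSpectrum.basicOpen g.1 : (Sp A).Opens)) (rs M g.2 s)
    have hx' : g.1 ^ n • rs M g.2 s = ε M (PrimeSpectrum.basicOpen g.1) m := hx
    have hreg : IsSMulRegular (Sec M (PrimeSpectrum.basicOpen g.1)) (g.1 ^ n) := fun x y h =>
      Scheme.Modules.isSMulRegular_of_le_basicOpen (R := CommRingCat.of A)
        (M := tilde (R := CommRingCat.of A) (ModuleCat.of A M))
        (U := PrimeSpectrum.basicOpen g.1) (f := g.1 ^ n)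
        (fun p hp hc => hp (p.2.mem_of_pow_mem n hc)) h
    refine hreg ?_
    show g.1 ^ n • sm (LinearMap.lsmul A M a) _ (rs M g.2 s) = g.1 ^ n • a • rs M g.2 s
    rw [← map_smul, smul_comm, hx', sm_ε, ← map_smul]
    rfl

variable [IsNoetherianRing A] {𝔞 : Ideal A}

theorem exists_pow_kill_of_forall_prime {m : M}
    (h : ∀ p : PrimeSpectrum A, p ∈ LocCoh.puncturedOpen A 𝔞 → ∃ s : A, s ∉ p.asIdeal ∧ s • m = 0) :
    ∃ n : ℕ, ∀ b ∈ 𝔞 ^ n, b • m = 0 := by
  let J : Ideal A := LinearMap.ker (LinearMap.toSpanSingleton A M m)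
  have hle : 𝔞 ≤ J.radical := by
    intro x hx
    rw [Ideal.radical_eq_sInf, Submodule.mem_sInf]
    rintro q ⟨hJq, hq⟩
    by_contra hxq
    obtain ⟨s, hs, hsm⟩ := h ⟨q, hq⟩ (fun hp => hxq (hp hx))
    exact hs (hJq (show s ∈ J from hsm))
  obtain ⟨n, hn⟩ := Ideal.exists_pow_le_of_le_radical_of_fg hle (IsNoetherian.noetherian 𝔞)
  exact ⟨n, fun b hb => hn hb⟩

theorem ε_eq_zero_iff_pow (m : M) :
    ε M (LocCoh.puncturedOpen A 𝔞) m = 0 ↔ ∃ n : ℕ, ∀ b ∈ 𝔞 ^ n, b • m = 0 := by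
  rw [ε_eq_zero_iff]
  refine ⟨exists_pow_kill_of_forall_prime, ?_⟩
  rintro ⟨n, hn⟩ p hp
  obtain ⟨a, ha, hap⟩ := Set.not_subset.1 (fun hc => hp hc)
  exact ⟨a ^ n, fun hc => hap (p.2.mem_of_pow_mem n hc), hn _ (Ideal.pow_mem_pow ha n)⟩

omit [IsNoetherianRing A] in
theorem rs_eq_zero_of_pow {W : (Sp A).Opens} (hW : LocCoh.puncturedOpen A 𝔞 ≤ W) (s : Sec M W)
    (h : ∃ n : ℕ, ∀ b ∈ 𝔞 ^ n, b • s = 0) : rs M hW s = 0 := by
  obtain ⟨n, hn⟩ := h
  let U := LocCoh.puncturedOpen A 𝔞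
  let F := modulesSpecToSheaf.obj (tilde (R := CommRingCat.of A) (ModuleCat.of A M))
  refine TopCat.Sheaf.eq_of_locally_eq' F
    (fun a : (𝔞 : Set A) => U ⊓ PrimeSpectrum.basicOpen (a : A)) U (fun a => homOfLE inf_le_left) ?_ _ _ ?_
  · intro p hp
    obtain ⟨a, ha, hap⟩ := Set.not_subset.1 (fun hc => hp hc)
    exact Opens.mem_iSup.2 ⟨⟨a, ha⟩, hp, hap⟩
  · intro a
    show rs M (inf_le_left : U ⊓ PrimeSpectrum.basicOpen (a : A) ≤ U) (rs M hW s) =
      rs M (inf_le_left : U ⊓ PrimeSpectrum.basicOpen (a : A) ≤ U) 0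
    rw [map_zero]
    have hreg := Scheme.Modules.isSMulRegular_of_le_basicOpen (R := CommRingCat.of A)
      (M := tilde (R := CommRingCat.of A) (ModuleCat.of A M))
      (U := U ⊓ PrimeSpectrum.basicOpen (a : A)) (f := (a : A) ^ n) (fun p hp => by
        show (a : A) ^ n ∉ p.asIdeal
        exact fun hc => hp.2 (p.2.mem_of_pow_mem n hc))
    apply hreg
    show ((a : A) ^ n) • rs M (inf_le_left : U ⊓ PrimeSpectrum.basicOpen (a : A) ≤ U) (rs M hW s) =
      ((a : A) ^ n) • (0 : Sec M _)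
    refine Eq.trans ?_ (smul_zero (A := Sec M _) _).symm
    refine ((rs M _).map_smul _ _).symm.trans ?_
    rw [← map_smul, hn _ (Ideal.pow_mem_pow a.2 n), map_zero, map_zero]

omit [IsNoetherianRing A] in
theorem exists_embedding (M : Type u) [AddCommGroup M] [Module A M] :
    ∃ (E : ModuleCat.{u} A) (ι : M →ₗ[A] E), Module.Injective A E ∧ Function.Injective ι := by
  obtain ⟨p⟩ := EnoughInjectives.presentation (ModuleCat.of A M)
  haveI := p.injective
  exact ⟨p.J, p.f.hom, Module.injective_module_of_injective_object _ _,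
    (ModuleCat.mono_iff_injective p.f).1 inferInstance⟩

theorem eq_zero_of_rs_eq_zero {W : (Sp A).Opens} (hW : LocCoh.puncturedOpen A 𝔞 ≤ W) (s : Sec M W)
    (h : rs M hW s = 0) : ∃ n : ℕ, ∀ b ∈ 𝔞 ^ n, b • s = 0 := by
  obtain ⟨E, ι, hE, hι⟩ := exists_embedding (A := A) M
  obtain ⟨e, he⟩ := ε_surjective_of_injective W (sm ι W s)
  have h0 : ε E (LocCoh.puncturedOpen A 𝔞) e = 0 := by
    rw [← rs_ε hW, he, ← sm_rs, h, map_zero]
  obtain ⟨n, hn⟩ := (ε_eq_zero_iff_pow e).1 h0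
  refine ⟨n, fun b hb => sm_injective hι W ?_⟩
  rw [map_smul, ← he, ← map_smul, hn b hb, map_zero, map_zero]

theorem exists_pow_smul_mem_range (s : Sec M (LocCoh.puncturedOpen A 𝔞)) :
    ∃ n : ℕ, ∀ b ∈ 𝔞 ^ n, ∃ m : M, ε M (LocCoh.puncturedOpen A 𝔞) m = b • s := by
  obtain ⟨E, ι, hE, hι⟩ := exists_embedding (A := A) M
  let U := LocCoh.puncturedOpen A 𝔞
  obtain ⟨e, he⟩ := ε_surjective_of_injective U (sm ι U s)
  let π := (LinearMap.range ι).mkQ
  have h0 : ε (↥E ⧸ LinearMap.range ι) U (π e) = 0 := by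
    rw [← sm_ε, he]
    have hz : π.comp ι = 0 := LinearMap.ext fun x =>
      (Submodule.Quotient.mk_eq_zero _).2 (LinearMap.mem_range_self ι x)
    rw [← sm_comp, hz, sm_zero]
  obtain ⟨n, hn⟩ := (ε_eq_zero_iff_pow (π e)).1 h0
  refine ⟨n, fun b hb => ?_⟩
  obtain ⟨m, hm⟩ : b • e ∈ LinearMap.range ι :=
    (Submodule.Quotient.mk_eq_zero _).1 (show π (b • e) = 0 by rw [map_smul]; exact hn b hb)
  refine ⟨m, sm_injective hι U ?_⟩
  rw [sm_ε, hm, map_smul, map_smul, he]

end Groth.Agent.PuncSecLib
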