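import Groth.Agent.PuncSecLib.Cohom
import Groth.Agent.FormalSysLib.QuasiAffFormal
import Groth.Agent.BCLib.TensorFun
import Groth.Agent.AmpleEmb.FibreAmple

/-!
# The formal system of `O` on an open of `Spec A` is that of `A/Iⁿ`
-/

set_option autoImplicit false
set_option linter.style.haveILetI false
set_option backward.isDefEq.respectTransparency.types false
set_option maxHeartbeats 800000

universe u

open CategoryTheory CategoryTheory.Limits AlgebraicGeometry TopologicalSpace Opposite

noncomputable section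

namespace Groth.Agent.PuncSecLib

variable {A : Type u} [CommRing A] (U : (Sp A).Opens)

/-- Tilde followed by restriction. -/
def tR : ModuleCat.{u} A ⥤ (U : Scheme.{u}).Modules :=
  tilde.functor (CommRingCat.of A) ⋙ Scheme.Modules.restrictFunctor U.ι

theorem tR_map_lsmul (M : ModuleCat.{u} A) (a : A) :
    (tR U).map (a • 𝟙 M) = Formal.smulMod A ((tR U).obj M) a := by
  let R : CommRingCat.{u} := CommRingCat.of A
  let N : (Sp A).Modules := tilde (R := R) M
  let e := (Scheme.Modules.restrictFunctorIsoPullback U.ι).app N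
  haveI : Coh.IsQCoh N := TildeD.isQCoh_tilde (R := R) M
  have h1 : (Scheme.Modules.restrictFunctor U.ι).map (Formal.smulModΓ N ((Scheme.ΓSpecIso R).inv a)) ≫ e.hom =
      e.hom ≫ (Scheme.Modules.pullback U.ι).map (Formal.smulModΓ N ((Scheme.ΓSpecIso R).inv a)) :=
    (Scheme.Modules.restrictFunctorIsoPullback U.ι).hom.naturality _
  rw [BCLib.pullback_map_smulModΓ U.ι N, ← AmpleEmb.smulModΓ_natural e.hom] at h1
  show (Scheme.Modules.restrictFunctor U.ι).map (tilde.map (R := R) (a • 𝟙 M)) = _
  rw [BCLib.tilde_map_smul (R := R) M a]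
  refine ((cancel_mono e.hom).1 h1).trans ?_
  rfl

/-- The structure sheaf of the open as a restricted tilde. -/
def unitIso : Coh.structureModule (U : Scheme.{u}) ≅ (tR U).obj (ModuleCat.of A A) :=
  (Scheme.Modules.restrictUnitIso U.ι).symm ≪≫
    (Scheme.Modules.restrictFunctor U.ι).mapIso (tildeSelf (R := CommRingCat.of A)).symm

variable (I : Ideal A)

theorem exists_modPow_iso (n : ℕ) :
    ∃ θ : Formal.modPow I n (Coh.structureModule (U : Scheme.{u})) ≅
        (tR U).obj (ModuleCat.of A (A ⧸ (I ^ n • (⊤ : Submodule A A)))),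
      Formal.modPowπ I n (Coh.structureModule (U : Scheme.{u})) ≫ θ.hom =
        (unitIso U).hom ≫ (tR U).map (ModuleCat.ofHom (I ^ n • (⊤ : Submodule A A)).mkQ) := by
  let J : Ideal A := I ^ n
  let M : ModuleCat.{u} A := ModuleCat.of A A
  let π : M ⟶ ModuleCat.of A (A ⧸ (J • (⊤ : Submodule A A))) := ModuleCat.ofHom (J • (⊤ : Submodule A A)).mkQ
  let c : (∐ fun _ : J => M) ⟶ M := Sigma.desc fun a => (a : A) • 𝟙 M
  haveI : Epi π := (ModuleCat.epi_iff_surjective _).2 (Submodule.mkQ_surjective _)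
  have hcond : ∀ a : J, ((a : A) • 𝟙 M) ≫ π = 0 := fun a => by
    refine ModuleCat.hom_ext (LinearMap.ext fun x => ?_)
    exact (Submodule.Quotient.mk_eq_zero _).2 (Submodule.smul_mem_smul a.2 Submodule.mem_top)
  have hw : c ≫ π = 0 := Sigma.hom_ext _ _ fun a => by
    rw [← Category.assoc, Sigma.ι_desc, comp_zero]; exact hcond a
  have hcol : IsColimit (CokernelCofork.ofπ π hw) := by
    refine CokernelCofork.IsColimit.ofπ' π hw fun {T} g hg => ?_
    refine ⟨ModuleCat.ofHom ((J • (⊤ : Submodule A A)).liftQ g.hom ?_), ModuleCat.hom_ext (LinearMap.ext fun x => rfl)⟩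
    refine Submodule.smul_le.2 fun a ha x _ => ?_
    have h := congr($((Sigma.ι (fun _ : J => M) ⟨a, ha⟩) ≫= hg).hom x)
    rw [← Category.assoc, Sigma.ι_desc, comp_zero] at h
    exact h
  let F := tR U
  haveI : F.Additive := inferInstanceAs (tilde.functor (CommRingCat.of A) ⋙ Scheme.Modules.restrictFunctor U.ι).Additive
  haveI : PreservesColimitsOfSize.{u, u} (tilde.functor (CommRingCat.of A)) :=
    tilde.adjunction.leftAdjoint_preservesColimits
  haveI : PreservesColimitsOfSize.{u, u} (Scheme.Modules.restrictFunctor U.ι) :=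
    (Scheme.Modules.restrictAdjunction U.ι).leftAdjoint_preservesColimits
  haveI : PreservesColimitsOfSize.{u, u} F :=
    inferInstanceAs (PreservesColimitsOfSize.{u, u} (tilde.functor (CommRingCat.of A) ⋙ Scheme.Modules.restrictFunctor U.ι))
  haveI : PreservesColimitsOfSize.{0, 0} F := preservesColimitsOfSize_shrink _
  haveI : IsIso (sigmaComparison F (fun _ : J => M)) := inferInstance
  let O := Coh.structureModule (U : Scheme.{u})
  let u := unitIso U
  have hmap := CokernelCofork.mapIsColimit _ hcol F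
  have hwα : Formal.smulFamily J O ≫ u.hom ≫ F.map π = 0 := Sigma.hom_ext _ _ fun a => by
    rw [comp_zero, ← Category.assoc, Formal.smulFamily, Sigma.ι_desc, ← Category.assoc,
      FormalLib.smulMod_natural, ← tR_map_lsmul, Category.assoc, ← F.map_comp, hcond a, F.map_zero, comp_zero]
  have hdesc : ∀ {T : (U : Scheme.{u}).Modules} (g : O ⟶ T), Formal.smulFamily J O ≫ g = 0 →
      F.map c ≫ u.inv ≫ g = 0 := by
    intro T g hg
    refine (cancel_epi (sigmaComparison F (fun _ : J => M))).1 (Sigma.hom_ext _ _ fun a => ?_)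
    rw [comp_zero, comp_zero, ι_comp_sigmaComparison_assoc, ← Category.assoc, ← F.map_comp, Sigma.ι_desc,
      tR_map_lsmul, ← Category.assoc, FormalLib.smulMod_natural, Category.assoc]
    have h := (Sigma.ι (fun _ : J => O) a) ≫= hg
    rw [← Category.assoc, Formal.smulFamily, Sigma.ι_desc, comp_zero] at h
    rw [h, comp_zero]
  let back : F.obj (ModuleCat.of A (A ⧸ (J • (⊤ : Submodule A A)))) ⟶ Formal.modPow I n O :=
    hmap.desc (CokernelCofork.ofπ (u.inv ≫ Formal.modPowπ I n O) (hdesc _ (cokernel.condition _)))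
  have hback : F.map π ≫ back = u.inv ≫ Formal.modPowπ I n O :=
    hmap.fac (CokernelCofork.ofπ (u.inv ≫ Formal.modPowπ I n O) (hdesc _ (cokernel.condition _))) WalkingParallelPair.one
  refine ⟨⟨cokernel.desc _ (u.hom ≫ F.map π) hwα, back, ?_, ?_⟩, cokernel.π_desc _ _ _⟩
  · refine (cancel_epi (cokernel.π (Formal.smulFamily J O))).1 ?_
    refine (Category.assoc _ _ _).symm.trans ((congrArg (· ≫ back) (cokernel.π_desc _ _ _)).trans ?_)
    refine (Category.assoc _ _ _).trans ((congrArg (u.hom ≫ ·) hback).trans ?_)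
    refine (Category.assoc _ _ _).symm.trans ?_
    rw [u.hom_inv_id, Category.id_comp]
    exact (Category.comp_id _).symm
  · haveI : Epi (F.map π) := F.map_epi π
    refine (cancel_epi (F.map π)).1 ?_
    rw [← Category.assoc, hback, Category.assoc]
    refine (congrArg (u.inv ≫ ·) (cokernel.π_desc _ _ _)).trans ?_
    rw [← Category.assoc, u.inv_hom_id, Category.id_comp, Category.comp_id]

/-- Sections over the whole open subscheme as degree zero cohomology. -/
def σ (M : Type u) [AddCommGroup M] [Module A M] :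
    Γ((tR U).obj (ModuleCat.of A M), ⊤) ≃+ H M 0 U :=
  ((((tilde (R := CommRingCat.of A) (ModuleCat.of A M)).presheaf.mapIso
    (eqToIso (congrArg op U.ι_image_top))).addCommGroupIsoToAddEquiv)).trans (h0 M U).symm

theorem σ_natural {M N : Type u} [AddCommGroup M] [Module A M] [AddCommGroup N] [Module A N] (φ : M →ₗ[A] N)
    (s : Γ((tR U).obj (ModuleCat.of A M), ⊤)) :
    σ U N (((tR U).map (ModuleCat.ofHom φ)).app ⊤ s) = hm φ 0 U (σ U M s) := by
  apply (h0 N U).injective
  rw [h0_hm]
  show h0 N U ((h0 N U).symm _) = sm φ U (h0 M U ((h0 M U).symm _))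
  rw [AddEquiv.apply_symm_apply, AddEquiv.apply_symm_apply]
  exact congr($((tilde.map (R := CommRingCat.of A) (ModuleCat.ofHom φ)).mapPresheaf.naturality
    (eqToHom (congrArg op U.ι_image_top))) s).symm

theorem secBij_of_formalCohBijective (h : Formal2.FormalCohBijective A I A 0 U) :
    QAFormal.SecBij I (Coh.structureModule (U : Scheme.{u})) := by
  choose θ hθ using fun n => exists_modPow_iso U I (n + 1)
  let O := Coh.structureModule (U : Scheme.{u})
  let a : Γ(O, ⊤) → H A 0 U := fun s => σ U A ((unitIso U).hom.app ⊤ s)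
  let b : ∀ n, Γ(Formal.modPow I (n + 1) O, ⊤) → H (Formal2.quotPow A I A n) 0 U :=
    fun n s => σ U _ ((θ n).hom.app ⊤ s)
  have hab : ∀ n s, b n ((Formal.modPowπ I (n + 1) O).app ⊤ s) = hm (Formal2.quotPowπ A I A n) 0 U (a s) := by
    intro n s
    show σ U _ ((θ n).hom.app ⊤ _) = _
    rw [← σ_natural]
    exact congrArg (σ U _) congr($(hθ n).app ⊤ s)
  have htr : ∀ n, Formal.modPowTrans I (n + 1) O ≫ (θ n).hom =
      (θ (n + 1)).hom ≫ (tR U).map (ModuleCat.ofHom (Formal2.quotPowTrans A I A n)) := by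
    intro n
    refine (cancel_epi (cokernel.π (Formal.smulFamily (I ^ (n + 1 + 1)) O))).1 ?_
    show Formal.modPowπ I (n + 1 + 1) O ≫ _ = Formal.modPowπ I (n + 1 + 1) O ≫ _
    rw [← Category.assoc, Formal.modPowπ_trans, hθ, ← Category.assoc, hθ, Category.assoc, ← Functor.map_comp]
    rfl
  have ainj : ∀ s, a s = 0 → s = 0 := fun s hs => by
    have h1 : (unitIso U).hom.app ⊤ s = 0 := (σ U A).injective (hs.trans (map_zero (σ U A)).symm)
    exact (ConcreteCategory.bijective_of_isIso ((unitIso U).hom.app ⊤)).1 (h1.trans (map_zero _).symm)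
  refine ⟨fun s hs => ainj s (h.1 (a s) 0 fun n => ?_), fun y hy => ?_⟩
  · show hm (Formal2.quotPowπ A I A n) 0 U (a s) = hm (Formal2.quotPowπ A I A n) 0 U 0
    rw [map_zero, ← hab, hs n]
    show σ U _ ((θ n).hom.app ⊤ 0) = 0
    rw [map_zero, map_zero]
  · obtain ⟨x, hx⟩ := h.2 (fun n => b n (y n)) fun n => by
      show hm _ 0 U (σ U _ ((θ (n + 1)).hom.app ⊤ (y (n + 1)))) = σ U _ ((θ n).hom.app ⊤ (y n))
      rw [← σ_natural, ← hy n]
      exact congrArg (σ U _) congr($(htr n).app ⊤ (y (n + 1))).symm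
    obtain ⟨s, hs⟩ := (ConcreteCategory.bijective_of_isIso ((unitIso U).hom.app ⊤)).2 ((σ U A).symm x)
    refine ⟨s, fun n => ?_⟩
    have has : a s = x := (congrArg (σ U A) hs).trans ((σ U A).apply_symm_apply x)
    have e : b n ((Formal.modPowπ I (n + 1) O).app ⊤ s) = b n (y n) := (hab n s).trans (by rw [has]; exact hx n)
    exact (ConcreteCategory.bijective_of_isIso ((θ n).hom.app ⊤)).1 ((σ U _).injective e)

end Groth.Agent.PuncSecLib
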