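import Groth.Agent.PuncSecLib.Principal

/-!
# The colimit comparison in a short exact sequence
-/

set_option autoImplicit false
set_option linter.style.haveILetI false
set_option backward.isDefEq.respectTransparency.types false

universe u

open CategoryTheory AlgebraicGeometry TopologicalSpace Opposite

noncomputable section

namespace Groth.Agent.PuncSecLib

variable {A : Type u} [CommRing A] {M N : Type u} [AddCommGroup M] [Module A M] [AddCommGroup N] [Module A N]

/-- The comparison on sections. -/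
def SecColim (I : Ideal A) (M : Type u) [AddCommGroup M] [Module A M] (U : (Sp A).Opens) : Prop :=
  (∀ (V : (Sp A).Opens) (_ : Formal2.Admissible A I U V) (x : Sec M V),
      (∀ n, sm (Formal2.quotPowπ A I M n) V x = 0) →
        ∃ (V' : (Sp A).Opens) (h : Formal2.Admissible A I U V' ∧ V' ≤ V), rs M h.2 x = 0) ∧
  ∀ y : ∀ n, Sec (Formal2.quotPow A I M n) U,
    (∀ n, sm (Formal2.quotPowTrans A I M n) U (y (n + 1)) = y n) →
      ∃ (V : (Sp A).Opens) (hV : Formal2.Admissible A I U V) (x : Sec M V),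
        ∀ n, rs (Formal2.quotPow A I M n) hV.1 (y n) = sm (Formal2.quotPowπ A I M n) V x

theorem secColim_iff (I : Ideal A) (U : (Sp A).Opens) :
    Formal2.FormalCohColimBijective A I M 0 U ↔ SecColim I M U := by
  constructor
  · refine fun h => ⟨fun V hV x hx => ?_, fun y hy => ?_⟩
    · obtain ⟨V', h', e⟩ := h.1 V hV ((h0 M V).symm x) fun n => (h0 _ V).injective (Eq.trans (by
        rw [HVmap_eq, h0_hm, AddEquiv.apply_symm_apply, hx n]) (map_zero (h0 _ V)).symm)
      refine ⟨V', h', ?_⟩
      have e' := (h0_res h'.2 ((h0 M V).symm x)).symm.trans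
        ((congrArg (h0 M V') e).trans (map_zero (h0 M V')))
      rwa [AddEquiv.apply_symm_apply] at e'
    · obtain ⟨V, hV, x, hx⟩ := h.2 (fun n => (h0 _ U).symm (y n)) fun n => (h0 _ U).injective (by
        rw [HVmap_eq, h0_hm, AddEquiv.apply_symm_apply, AddEquiv.apply_symm_apply, hy n])
      refine ⟨V, hV, h0 M V x, fun n => ?_⟩
      refine Eq.trans ?_ ((congrArg (h0 _ V) (hx n)).trans (h0_hm _ _ _))
      exact ((h0_res hV.1 ((h0 _ U).symm (y n))).trans
        (congrArg (rs _ hV.1) ((h0 _ U).apply_symm_apply (y n)))).symm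
  · refine fun h => ⟨fun V hV x hx => ?_, fun y hy => ?_⟩
    · obtain ⟨V', h', e⟩ := h.1 V hV (h0 M V x) fun n =>
        (h0_hm _ _ _).symm.trans ((congrArg (h0 _ V) (hx n)).trans (map_zero _))
      exact ⟨V', h', (h0 M V').injective ((h0_res h'.2 x).trans (e.trans (map_zero (h0 M V')).symm))⟩
    · obtain ⟨V, hV, x, hx⟩ := h.2 (fun n => h0 _ U (y n)) fun n =>
        (h0_hm _ _ _).symm.trans (congrArg (h0 _ U) (hy n))
      refine ⟨V, hV, (h0 M V).symm x, fun n => (h0 _ V).injective ?_⟩
      refine (h0_res hV.1 (y n)).trans ((hx n).trans ?_)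
      rw [HVmap_eq, h0_hm, AddEquiv.apply_symm_apply]

/-- The map on quotients by powers. -/
def mapQuot (I : Ideal A) (f : M →ₗ[A] N) (n : ℕ) : Formal2.quotPow A I M n →ₗ[A] Formal2.quotPow A I N n :=
  Submodule.mapQ _ _ f (by
    rw [← Submodule.map_le_iff_le_comap, Submodule.map_smul'']
    exact smul_mono_right _ le_top)

theorem mapQuot_mk (I : Ideal A) (f : M →ₗ[A] N) (n : ℕ) (x : M) :
    mapQuot I f n (Submodule.Quotient.mk x) = Submodule.Quotient.mk (f x) :=
  Submodule.mapQ_apply _ _ _ x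

theorem mapQuot_trans (I : Ideal A) (f : M →ₗ[A] N) (n : ℕ) :
    (Formal2.quotPowTrans A I N n).comp (mapQuot I f (n + 1)) =
      (mapQuot I f n).comp (Formal2.quotPowTrans A I M n) :=
  Submodule.linearMap_qext _ (LinearMap.ext fun _ => rfl)

theorem mapQuot_π (I : Ideal A) (f : M →ₗ[A] N) (n : ℕ) :
    (mapQuot I f n).comp (Formal2.quotPowπ A I M n) = (Formal2.quotPowπ A I N n).comp f :=
  LinearMap.ext fun _ => rfl

/-- Projection between levels. -/
def qI (I : Ideal A) (M : Type u) [AddCommGroup M] [Module A M] {n m : ℕ} (h : n ≤ m) :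
    Formal2.quotPow A I M m →ₗ[A] Formal2.quotPow A I M n :=
  Submodule.mapQ _ _ LinearMap.id (by
    rw [Submodule.comap_id]
    exact Submodule.smul_mono_left (Ideal.pow_le_pow_right (Nat.succ_le_succ h)))

theorem mapQ_id_apply (P : Submodule A M) (h : P ≤ Submodule.comap LinearMap.id P) (q : M ⧸ P) :
    Submodule.mapQ P P LinearMap.id h q = q := by
  obtain ⟨x, rfl⟩ := Submodule.Quotient.mk_surjective _ q
  rfl

theorem qI_self_apply (I : Ideal A) (n : ℕ) (q : Formal2.quotPow A I M n) : qI I M (le_refl n) q = q :=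
  mapQ_id_apply _ _ q

theorem qI_mk (I : Ideal A) {n m : ℕ} (h : n ≤ m) (x : M) :
    qI I M h (Submodule.Quotient.mk x) = Submodule.Quotient.mk x :=
  Submodule.mapQ_apply _ _ _ x

theorem trans_mk (I : Ideal A) (n : ℕ) (x : M) :
    Formal2.quotPowTrans A I M n (Submodule.Quotient.mk x) = Submodule.Quotient.mk x :=
  Submodule.mapQ_apply _ _ _ x

theorem qI_succ (I : Ideal A) {n m : ℕ} (h : n ≤ m) :
    (qI I M h).comp (Formal2.quotPowTrans A I M m) = qI I M (h.trans (Nat.le_succ m)) := by
  refine Submodule.linearMap_qext _ (LinearMap.ext fun x => ?_)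
  show qI I M h (Formal2.quotPowTrans A I M m (Submodule.Quotient.mk x)) =
    qI I M (h.trans (Nat.le_succ m)) (Submodule.Quotient.mk x)
  rw [trans_mk, qI_mk, qI_mk]

theorem compat_qI {I : Ideal A} {V : (Sp A).Opens} {d : ∀ n, Sec (Formal2.quotPow A I M n) V}
    (hd : ∀ n, sm (Formal2.quotPowTrans A I M n) V (d (n + 1)) = d n) {n m : ℕ} (h : n ≤ m) :
    sm (qI I M h) V (d m) = d n := by
  induction m, h using Nat.le_induction with
  | base =>
    rw [show qI I M (le_refl n) = LinearMap.id from LinearMap.ext (qI_self_apply I n)]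
    exact (congrArg (fun φ => sm φ V (d n)) (LinearMap.ext fun q => (one_smul A q).symm :
      (LinearMap.id : Formal2.quotPow A I M n →ₗ[A] _) = LinearMap.lsmul A _ 1)).trans
      ((sm_lsmul _ _ _).trans (one_smul A _))
  | succ m h ih => rw [← qI_succ I h, sm_comp, hd m, ih]

/-- Artin–Rees: a compatible system dying in the quotients of an overmodule is zero. -/
theorem eq_zero_of_compat [IsNoetherianRing A] [Module.Finite A N] (I : Ideal A) {f : M →ₗ[A] N}
    (hf : Function.Injective f) {V : (Sp A).Opens} (d : ∀ n, Sec (Formal2.quotPow A I M n) V)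
    (hd : ∀ n, sm (Formal2.quotPowTrans A I M n) V (d (n + 1)) = d n)
    (h0d : ∀ n, sm (mapQuot I f n) V (d n) = 0) (n : ℕ) : d n = 0 := by
  obtain ⟨c, hc⟩ := Ideal.exists_pow_inf_eq_pow_smul I (LinearMap.range f)
  let P : Submodule A M := Submodule.comap f (I ^ (n + c + 1) • ⊤)
  have hP : P ≤ I ^ (n + 1) • ⊤ := fun x hx => by
    have h1 : f x ∈ I ^ (n + c + 1) • (⊤ : Submodule A N) ⊓ LinearMap.range f := ⟨hx, LinearMap.mem_range_self f x⟩
    rw [hc (n + c + 1) (by omega), show n + c + 1 - c = n + 1 by omega] at h1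
    have h2 : f x ∈ I ^ (n + 1) • LinearMap.range f := Submodule.smul_mono le_rfl inf_le_right h1
    rw [LinearMap.range_eq_map, ← Submodule.map_smul''] at h2
    obtain ⟨z, hz, hzx⟩ := h2
    exact hf hzx ▸ hz
  let ρ : (M ⧸ P) →ₗ[A] Formal2.quotPow A I M n := Submodule.mapQ P _ LinearMap.id (by rwa [Submodule.comap_id])
  let π : Formal2.quotPow A I M (n + c) →ₗ[A] M ⧸ P := Submodule.mapQ _ P LinearMap.id (by
    rw [Submodule.comap_id, ← Submodule.map_le_iff_le_comap, Submodule.map_smul'']
    exact smul_mono_right _ le_top)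
  let j : (M ⧸ P) →ₗ[A] Formal2.quotPow A I N (n + c) := Submodule.mapQ P _ f le_rfl
  have hj : Function.Injective j := by
    refine (injective_iff_map_eq_zero j).2 fun q hq => ?_
    obtain ⟨x, rfl⟩ := Submodule.Quotient.mk_surjective _ q
    rw [Submodule.mapQ_apply, Submodule.Quotient.mk_eq_zero] at hq
    exact (Submodule.Quotient.mk_eq_zero _).2 hq
  have h1 : sm π V (d (n + c)) = 0 := sm_injective hj V (by
    rw [← sm_comp, map_zero, ← h0d (n + c)]
    exact congrArg (fun φ => sm φ V (d (n + c))) (Submodule.linearMap_qext _ (LinearMap.ext fun _ => rfl)))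
  rw [← compat_qI hd (Nat.le_add_right n c), show qI I M (Nat.le_add_right n c) = ρ.comp π from
    Submodule.linearMap_qext _ (LinearMap.ext fun _ => rfl), sm_comp, h1, map_zero]

/-- Sections in the kernel come from the submodule. -/
theorem exists_of_sm_eq_zero {K : Type u} [AddCommGroup K] [Module A K] {f : M →ₗ[A] N} {g : N →ₗ[A] K}
    (hf : Function.Injective f) (hg : Function.Surjective g) (hfg : LinearMap.range f = LinearMap.ker g)
    {V : (Sp A).Opens} (x : Sec N V) (hx : sm g V x = 0) : ∃ x' : Sec M V, sm f V x' = x := by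
  obtain ⟨w, hw⟩ := exists_of_hm_eq_zero hf hg hfg 0 V ((h0 N V).symm x)
    ((h0 K V).injective (by rw [h0_hm, AddEquiv.apply_symm_apply, hx, map_zero]))
  exact ⟨h0 M V w, by rw [← h0_hm, hw, AddEquiv.apply_symm_apply]⟩

theorem secColim_left [IsNoetherianRing A] {K : Type u} [AddCommGroup K] [Module A K] [Module.Finite A N]
    (I : Ideal A) (U : (Sp A).Opens) (f : M →ₗ[A] N) (g : N →ₗ[A] K) (hf : Function.Injective f)
    (hg : Function.Surjective g) (hfg : LinearMap.range f = LinearMap.ker g)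
    (h : SecColim I N U) (h'' : SecColim I K U) : SecColim I M U := by
  refine ⟨fun V hV x hx => ?_, fun y hy => ?_⟩
  · obtain ⟨V', h', e⟩ := h.1 V hV (sm f V x) fun n => by
      rw [← sm_comp, ← mapQuot_π, sm_comp, hx n, map_zero]
    refine ⟨V', h', sm_injective hf V' ?_⟩
    rw [sm_rs, e, map_zero]
  · obtain ⟨V, hV, x, hx⟩ := h.2 (fun n => sm (mapQuot I f n) U (y n)) fun n => by
      rw [← sm_comp, mapQuot_trans, sm_comp, hy n]
    obtain ⟨V', h', e⟩ := h''.1 V hV (sm g V x) fun n => by
      rw [← sm_comp, ← mapQuot_π, sm_comp, ← hx n, sm_rs, ← sm_comp,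
        show (mapQuot I g n).comp (mapQuot I f n) = 0 from Submodule.linearMap_qext _ (LinearMap.ext fun z =>
          (congrArg Submodule.Quotient.mk (show g (f z) = 0 from
            LinearMap.mem_ker.1 (hfg ▸ LinearMap.mem_range_self f z))).trans (Submodule.Quotient.mk_zero _)),
        sm_zero, map_zero]
    obtain ⟨x', hx'⟩ := exists_of_sm_eq_zero hf hg hfg (rs N h'.2 x) (by rw [sm_rs, e])
    refine ⟨V', h'.1, x', fun n => ?_⟩
    refine sub_eq_zero.1 (eq_zero_of_compat I hf
      (fun m => rs _ h'.1.1 (y m) - sm (Formal2.quotPowπ A I M m) V' x') (fun m => ?_) (fun m => ?_) n)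
    · rw [map_sub, sm_rs, hy m, ← sm_comp]
      rfl
    · rw [map_sub, sm_rs, ← sm_comp, mapQuot_π, sm_comp, hx', sm_rs, ← hx m, sub_eq_zero]
      rfl

end Groth.Agent.PuncSecLib
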