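import Mathlib

/-! Fractions regular on the punctured spectrum are integral when the normalization has dimension `≥ 2`. -/

set_option autoImplicit false
set_option maxHeartbeats 1000000
universe u

namespace Groth.Agent.PuncSecLib

open Polynomial

theorem isIntegral_of_mem_adjoin_inv {D K : Type u} [CommRing D] [CommRing K] [Algebra D K] {s t : K}
    (hts : t * s = 1) (hs : s ∈ Algebra.adjoin D {t}) : IsIntegral D s := by
  rw [Algebra.adjoin_singleton_eq_range_aeval] at hs
  obtain ⟨p, hp⟩ := hs
  change aeval t p = s at hp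
  let n := p.natDegree
  let q : D[X] := ∑ i ∈ Finset.range (n + 1), C (p.coeff i) * X ^ (n - i)
  have hq : q.degree < ((n + 1 : ℕ) : WithBot ℕ) := by
    refine lt_of_le_of_lt (degree_sum_le _ _) ((Finset.sup_lt_iff (WithBot.bot_lt_coe _)).mpr fun i _ => ?_)
    exact lt_of_le_of_lt (degree_C_mul_X_pow_le _ _) (by exact_mod_cast (show n - i < n + 1 by omega))
  refine ⟨X ^ (n + 1) - q, monic_X_pow_sub hq, ?_⟩
  rw [← aeval_def]
  have hq' : aeval s q = s ^ n * aeval t p := by
    rw [aeval_eq_sum_range (p := p), Finset.mul_sum, map_sum]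
    refine Finset.sum_congr rfl fun i hi => ?_
    have hi' : i ≤ n := Nat.lt_succ_iff.mp (Finset.mem_range.mp hi)
    rw [map_mul, aeval_C, map_pow, aeval_X, Algebra.smul_def, show s ^ n = s ^ (n - i) * s ^ i by rw [← pow_add]; congr 1; omega]
    calc algebraMap D K (p.coeff i) * s ^ (n - i)
        = algebraMap D K (p.coeff i) * s ^ (n - i) * (t * s) ^ i := by rw [hts, one_pow, mul_one]
      _ = _ := by ring
  rw [map_sub, map_pow, aeval_X, hq', hp, ← pow_succ, sub_self]

theorem seidenberg {R K : Type u} [CommRing R] [IsDomain R] [Field K] [Algebra R K] [IsFractionRing R K]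
    [IsIntegrallyClosed R] (M : Ideal R) [hM : M.IsPrime] {t s : K} (hts : t * s = 1) :
    ∀ (n : ℕ) (p : R[X]), p.natDegree = n → (∃ i, p.coeff i ∉ M) → aeval t p = 0 →
      ∃ u : R, u ∉ M ∧ ((∃ v : R, algebraMap R K v = algebraMap R K u * t) ∨
        ∃ v : R, algebraMap R K v = algebraMap R K u * s) := by
  intro n
  induction n using Nat.strong_induction_on with
  | _ n ih =>
    intro p hp hex h0
    rcases Nat.eq_zero_or_pos n with rfl | hpos
    · obtain ⟨i, hi⟩ := hex
      rw [eq_C_of_natDegree_eq_zero hp, aeval_C] at h0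
      have h1 : p.coeff 0 = 0 := (IsFractionRing.injective R K) (h0.trans (map_zero _).symm)
      rcases Nat.eq_zero_or_pos i with rfl | hi0
      · rw [h1] at hi; exact absurd (zero_mem M) hi
      · rw [coeff_eq_zero_of_natDegree_lt (by omega)] at hi; exact absurd (zero_mem M) hi
    obtain ⟨v, hv⟩ : ∃ v : R, algebraMap R K v = algebraMap R K p.leadingCoeff * t := by
      have h1 := isIntegral_leadingCoeff_smul p t h0
      rw [Algebra.smul_def] at h1
      exact IsIntegrallyClosed.algebraMap_eq_of_integral h1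
    by_cases hc : p.leadingCoeff ∈ M
    swap
    · exact ⟨_, hc, Or.inl ⟨v, hv⟩⟩
    by_cases hvM : v ∈ M
    swap
    · refine ⟨v, hvM, Or.inr ⟨p.leadingCoeff, ?_⟩⟩
      rw [hv, mul_assoc, hts, mul_one]
    obtain ⟨k, rfl⟩ : ∃ k, n = k + 1 := ⟨n - 1, by omega⟩
    let q := p.eraseLead + C v * X ^ k
    have hq : q.natDegree ≤ k := by
      refine (natDegree_add_le _ _).trans (max_le ?_ (natDegree_C_mul_X_pow_le _ _))
      exact (eraseLead_natDegree_le p).trans (by omega)
    refine ih q.natDegree (by omega) q rfl ?_ ?_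
    · obtain ⟨i, hi⟩ := hex
      have hik : i ≤ k := by
        by_contra hlt
        rcases Nat.lt_or_ge i (k + 2) with h | h
        · rw [show i = p.natDegree by omega] at hi
          exact hi hc
        · rw [coeff_eq_zero_of_natDegree_lt (by omega)] at hi
          exact hi (zero_mem M)
      refine ⟨i, ?_⟩
      rw [coeff_add, eraseLead_coeff_of_ne i (by omega), coeff_C_mul_X_pow]
      split
      · exact fun h => hi (by simpa using M.sub_mem h hvM)
      · rwa [add_zero]
    · have h2 := congrArg (aeval t) (p.eraseLead_add_C_mul_X_pow)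
      rw [h0, map_add, map_mul, aeval_C, map_pow, aeval_X, hp, pow_succ] at h2
      rw [map_add, map_mul, aeval_C, map_pow, aeval_X, hv]
      rw [← h2]
      ring

variable {D : Type u} [CommRing D] [IsDomain D] [IsNoetherianRing D] [IsLocalRing D]
  (K : Type u) [Field K] [Algebra D K] [IsFractionRing D K]

theorem isIntegral_of_pow_mul_mem
    (hD : ∀ M : Ideal (integralClosure D K), M.IsMaximal → (2 : ℕ∞) ≤ M.height) (s : K)
    (hs : ∀ a ∈ IsLocalRing.maximalIdeal D, ∃ (N : ℕ) (b : D), algebraMap D K b = algebraMap D K a ^ N * s) :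
    IsIntegral D s := by
  by_contra hni
  have hs0 : s ≠ 0 := fun h => hni (h ▸ isIntegral_zero)
  set t := s⁻¹ with ht
  have hts : t * s = 1 := inv_mul_cancel₀ hs0
  let B := Algebra.adjoin D ({t} : Set K)
  let tB : B := ⟨t, Algebra.self_mem_adjoin_singleton D t⟩
  haveI : Algebra.FiniteType D B := (Subalgebra.fg_iff_finiteType B).mp ⟨{t}, by simp [B]⟩
  haveI : IsNoetherianRing B := Algebra.FiniteType.isNoetherianRing D B
  have htB : Ideal.span {tB} ≠ ⊤ := fun h => by
    obtain ⟨c, hc⟩ := Ideal.mem_span_singleton'.mp ((Ideal.eq_top_iff_one _).mp h)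
    have h1 : (c : K) * t = 1 := congrArg Subtype.val hc
    refine hni (isIntegral_of_mem_adjoin_inv hts ?_)
    have h2 : s = (c : K) := by
      calc s = (c : K) * t * s := by rw [h1, one_mul]
        _ = c := by rw [mul_assoc, hts, mul_one]
    rw [h2]; exact c.2
  obtain ⟨P, hP⟩ := Ideal.nonempty_minimalPrimes htB
  haveI := hP.1.1
  haveI : (Ideal.span {tB}).IsPrincipal := ⟨⟨tB, rfl⟩⟩
  have hPh : P.height ≤ 1 := Ideal.height_le_one_of_isPrincipal_of_mem_minimalPrimes (Ideal.span {tB}) P hP
  have htP : tB ∈ P := hP.1.2 (Ideal.mem_span_singleton_self _)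
  have hPm : P.comap (algebraMap D B) = IsLocalRing.maximalIdeal D := by
    refine ((IsLocalRing.maximalIdeal.isMaximal D).eq_of_le (Ideal.IsPrime.comap _).ne_top fun a ha => ?_).symm
    obtain ⟨N, b, hb⟩ := hs a ha
    have h1 : algebraMap D B a ^ N = algebraMap D B b * tB := Subtype.ext (by
      change algebraMap D K a ^ N = algebraMap D K b * t
      rw [hb, mul_assoc, mul_comm s t, hts, mul_one])
    exact Ideal.IsPrime.mem_of_pow_mem ‹P.IsPrime› N (h1 ▸ P.mul_mem_left _ htP)
  let A' := integralClosure D K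
  haveI : IsIntegrallyClosed A' := integralClosure.isIntegrallyClosedOfFiniteExtension (L := K) K
  haveI : IsFractionRing A' K := integralClosure.isFractionRing_of_finite_extension K K
  let C' := Algebra.adjoin B (A' : Set K)
  haveI : Algebra.IsIntegral B C' := ⟨fun x => by
    rw [← isIntegral_algHom_iff C'.val Subtype.val_injective]
    exact (Algebra.adjoin_le (S := integralClosure B K) fun y hy => IsIntegral.tower_top (A := B) hy) x.2⟩
  obtain ⟨P', -, hP', hPP'⟩ := Ideal.exists_ideal_over_prime_of_isIntegral (S := C') P ⊥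
    (fun x hx => by
      rw [Ideal.mem_comap, Ideal.mem_bot] at hx
      rw [show x = 0 from Subtype.ext (congrArg Subtype.val hx :)]
      exact zero_mem _)
  haveI := hP'
  have hP'h : P'.height ≤ 1 := by
    refine le_trans ?_ hPh
    rw [PrimeSpectrum.height_eq_orderHeight (⟨P', hP'⟩ : PrimeSpectrum C'),
      PrimeSpectrum.height_eq_orderHeight (⟨P, hP.1.1⟩ : PrimeSpectrum B)]
    have hmono : StrictMono (fun Q : PrimeSpectrum C' => (⟨Q.asIdeal.comap (algebraMap B C'), Q.isPrime.comap _⟩ : PrimeSpectrum B)) :=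
      fun Q Q' h => Ideal.IsIntegral.comap_lt_comap h
    have h1 := Order.height_le_height_apply_of_strictMono _ hmono ⟨P', hP'⟩
    simp only [hPP'] at h1
    exact h1
  let ι : A' →+* C' :=
    { toFun := fun a => ⟨(a : K), Algebra.subset_adjoin a.2⟩
      map_one' := rfl, map_mul' := fun _ _ => rfl, map_zero' := rfl, map_add' := fun _ _ => rfl }
  let tC : C' := algebraMap B C' tB
  have htP' : tC ∈ P' := (Ideal.ext_iff.mp hPP' tB).mpr htP
  let M := P'.comap ι
  haveI hMp : M.IsPrime := Ideal.IsPrime.comap _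
  haveI : Algebra.IsIntegral D A' := inferInstance
  have hMm : M.comap (algebraMap D A') = IsLocalRing.maximalIdeal D := by
    rw [← hPm, ← hPP']
    rfl
  haveI : (M.comap (algebraMap D A')).IsMaximal := hMm ▸ IsLocalRing.maximalIdeal.isMaximal D
  have hM2 : (2 : ℕ∞) ≤ M.height := hD M (Ideal.isMaximal_of_isIntegral_of_isMaximal_comap (R := D) M inferInstance)
  let g : A'[X] →+* C' := eval₂RingHom ι tC
  have hgval : ∀ p : A'[X], ((g p : C') : K) = aeval t p := by
    intro p
    induction p using Polynomial.induction_on' with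
    | add p q hp hq => rw [map_add, map_add, ← hp, ← hq]; rfl
    | monomial n a =>
      rw [aeval_monomial, show (g (monomial n a)) = ι a * tC ^ n from eval₂_monomial _ _]
      rfl
  have hgs : Function.Surjective g := by
    rintro ⟨c, hc⟩
    suffices ∃ p : A'[X], aeval t p = c by
      obtain ⟨p, hp⟩ := this
      exact ⟨p, Subtype.ext ((hgval p).trans hp)⟩
    induction hc using Algebra.adjoin_induction with
    | mem x hx => exact ⟨C ⟨x, hx⟩, by rw [aeval_C]; rfl⟩
    | algebraMap b =>
      obtain ⟨b, hb⟩ := b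
      change ∃ p : A'[X], aeval t p = b
      rw [show B = (aeval t).range from Algebra.adjoin_singleton_eq_range_aeval D t] at hb
      obtain ⟨p, rfl⟩ := hb
      exact ⟨p.map (algebraMap D A'), by rw [aeval_map_algebraMap]; rfl⟩
    | add x y _ _ hx hy =>
      obtain ⟨p, rfl⟩ := hx
      obtain ⟨q, rfl⟩ := hy
      exact ⟨p + q, map_add _ _ _⟩
    | mul x y _ _ hx hy =>
      obtain ⟨p, rfl⟩ := hx
      obtain ⟨q, rfl⟩ := hy
      exact ⟨p * q, map_mul _ _ _⟩
  by_cases hex : ∃ p : A'[X], (∃ i, p.coeff i ∉ M) ∧ aeval t p = 0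
  · obtain ⟨p, hp, hp0⟩ := hex
    obtain ⟨w, hwM, ⟨v, hv⟩ | ⟨v, hv⟩⟩ := seidenberg (K := K) M hts _ p rfl hp hp0
    swap
    · refine hwM ?_
      have h1 : ι w = ι v * tC := Subtype.ext (by
        change (w : K) = (v : K) * t
        rw [show (v : K) = (w : K) * s from hv, mul_assoc, mul_comm s t, hts, mul_one])
      change ι w ∈ P'
      rw [h1]
      exact P'.mul_mem_left _ htP'
    have hfrac : ∀ c : C', ∃ (k : A') (a : A'), k ∉ M ∧ ι k * c = ι a := by
      intro c
      obtain ⟨q, rfl⟩ := hgs c
      induction q using Polynomial.induction_on' with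
      | add p q hp hq =>
        obtain ⟨k, a, hk, hka⟩ := hp
        obtain ⟨k', a', hk', hka'⟩ := hq
        refine ⟨k * k', k' * a + k * a', fun h => (hMp.mem_or_mem h).elim hk hk', ?_⟩
        rw [map_add g, map_add ι, map_mul, map_mul, map_mul, ← hka, ← hka']
        ring
      | monomial n a =>
        refine ⟨w ^ n, a * v ^ n, fun h => hwM (hMp.mem_of_pow_mem n h), ?_⟩
        rw [show g (monomial n a) = ι a * tC ^ n from eval₂_monomial _ _, map_mul, map_pow, map_pow]
        have h1 : ι v = ι w * tC := Subtype.ext hv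
        rw [h1]
        ring
    let lift : {Q : PrimeSpectrum A' // Q.asIdeal ≤ M} → PrimeSpectrum C' := fun Q =>
      ⟨{ carrier := {c | ∃ k a : A', k ∉ M ∧ a ∈ Q.1.asIdeal ∧ ι k * c = ι a}
         zero_mem' := ⟨1, 0, fun h => hMp.ne_top (M.eq_top_iff_one.mpr h), zero_mem _, by rw [map_zero, mul_zero]⟩
         add_mem' := by
           rintro x y ⟨k, a, hk, ha, hx⟩ ⟨k', a', hk', ha', hy⟩
           refine ⟨k * k', k' * a + k * a', fun h => (hMp.mem_or_mem h).elim hk hk',
             add_mem (Ideal.mul_mem_left _ _ ha) (Ideal.mul_mem_left _ _ ha'), ?_⟩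
           rw [map_add ι, map_mul, map_mul, map_mul, ← hx, ← hy]
           ring
         smul_mem' := by
           rintro c x ⟨k, a, hk, ha, hx⟩
           obtain ⟨k', a', hk', hc⟩ := hfrac c
           refine ⟨k' * k, a' * a, fun h => (hMp.mem_or_mem h).elim hk' hk, Ideal.mul_mem_left _ _ ha, ?_⟩
           rw [smul_eq_mul, map_mul, map_mul, ← hc, ← hx]
           ring },
        { ne_top' := fun h => by
            obtain ⟨k, a, hk, ha, hka⟩ := (Ideal.eq_top_iff_one _).mp h
            rw [mul_one] at hka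
            have : k = a := Subtype.ext (congrArg Subtype.val hka :)
            exact hk (Q.2 (this ▸ ha))
          mem_or_mem' := by
            rintro x y ⟨k, a, hk, ha, hxy⟩
            obtain ⟨kx, ax, hkx, hx⟩ := hfrac x
            obtain ⟨ky, ay, hky, hy⟩ := hfrac y
            have h1 : k * (ax * ay) = a * (kx * ky) := by
              have h2 : ι (k * (ax * ay)) = ι (a * (kx * ky)) := by
                simp only [map_mul, ← hxy, ← hx, ← hy]
                ring
              exact Subtype.ext (congrArg Subtype.val h2 :)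
            have h3 : k * (ax * ay) ∈ Q.1.asIdeal := h1 ▸ Ideal.mul_mem_right _ _ ha
            rcases Q.1.isPrime.mem_or_mem h3 with h | h
            · exact absurd (Q.2 h) hk
            · rcases Q.1.isPrime.mem_or_mem h with h | h
              · exact Or.inl ⟨kx, ax, hkx, h, hx⟩
              · exact Or.inr ⟨ky, ay, hky, h, hy⟩ }⟩
    have hcomap : ∀ (Q : {Q : PrimeSpectrum A' // Q.asIdeal ≤ M}) (x : A'), ι x ∈ (lift Q).asIdeal ↔ x ∈ Q.1.asIdeal := by
      intro Q x
      refine ⟨fun ⟨k, a, hk, ha, hkx⟩ => ?_, fun hx => ⟨1, x, fun h => hMp.ne_top (M.eq_top_iff_one.mpr h), hx, by rw [map_one, one_mul]⟩⟩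
      have h1 : k * x ∈ Q.1.asIdeal := by
        rw [show k * x = a from Subtype.ext (congrArg Subtype.val ((map_mul ι k x).trans hkx) :)]
        exact ha
      exact (Q.1.isPrime.mem_or_mem h1).resolve_left fun h => hk (Q.2 h)
    have hmono : StrictMono lift := fun Q Q' h => by
      refine lt_of_le_of_ne (fun c ⟨k, a, hk, ha, hc⟩ => ⟨k, a, hk, le_of_lt h ha, hc⟩) fun he => h.ne ?_
      exact Subtype.ext (PrimeSpectrum.ext (Ideal.ext fun x => by rw [← hcomap, he, hcomap]))
    have hlast : lift ⟨⟨M, hMp⟩, le_rfl⟩ ≤ ⟨P', hP'⟩ := fun c ⟨k, a, hk, ha, hc⟩ => by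
      have h1 : ι k * c ∈ P' := hc ▸ ha
      exact (hP'.mem_or_mem h1).resolve_left hk
    have h2 : Order.height (⟨M, hMp⟩ : PrimeSpectrum A') ≤ Order.height (⟨P', hP'⟩ : PrimeSpectrum C') := by
      refine Order.height_le fun l hl => ?_
      have hle : ∀ i, (l i).asIdeal ≤ M := fun i => by
        have := LTSeries.monotone l (Fin.le_last i)
        rw [show l (Fin.last l.length) = l.last from rfl, hl] at this
        exact this
      let l' : LTSeries (PrimeSpectrum C') :=
        LTSeries.mk l.length (fun i => lift ⟨l i, hle i⟩) fun i j hij => hmono (l.strictMono hij)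
      refine le_trans ?_ (Order.height_mono hlast)
      refine Order.length_le_height (p := l') ?_
      exact le_of_eq (congrArg lift (Subtype.ext hl))
    rw [PrimeSpectrum.height_eq_orderHeight (⟨P', hP'⟩ : PrimeSpectrum C') |>.symm, ← PrimeSpectrum.height_eq_orderHeight] at h2
    exact absurd ((hM2.trans h2).trans hP'h) (by decide)
  · push Not at hex
    have hker : RingHom.ker g ≤ M.map C := fun p hp => by
      rw [Ideal.mem_map_C_iff]
      intro i
      by_contra hi
      refine hex p ⟨i, hi⟩ ?_
      rw [← hgval, RingHom.mem_ker.mp hp]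
      rfl
    haveI : (M.map (C : A' →+* A'[X])).IsPrime := Ideal.isPrime_map_C_of_isPrime
    let Pm := (M.map (C : A' →+* A'[X])).map g
    haveI hPm' : Pm.IsPrime := Ideal.map_isPrime_of_surjective hgs hker
    have hle : Pm ≤ P' := by
      simp only [Pm]
      rw [Ideal.map_map, Ideal.map_le_iff_le_comap]
      intro x hx
      rw [Ideal.mem_comap, RingHom.comp_apply, show g (C x) = ι x from eval₂_C _ _]
      exact hx
    have htPm : tC ∉ Pm := fun h => by
      have h1 : g X ∈ Pm := by rwa [show g X = tC from eval₂_X _ _]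
      have h2 : X ∈ Pm.comap g := h1
      rw [Ideal.comap_map_of_surjective g hgs, ← RingHom.ker_eq_comap_bot, sup_eq_left.mpr hker, Ideal.mem_map_C_iff] at h2
      have h3 := h2 1
      rw [coeff_X_one] at h3
      exact hMp.ne_top (M.eq_top_iff_one.mpr h3)
    have hne : (⊥ : Ideal C') < Pm := bot_lt_iff_ne_bot.mpr fun h => by
      have hM0 : M = ⊥ := by
        rw [eq_bot_iff]
        intro x hx
        have h1 : g (C x) ∈ Pm := Ideal.mem_map_of_mem _ (Ideal.mem_map_of_mem _ hx)
        rw [h, Ideal.mem_bot, show g (C x) = ι x from eval₂_C _ _] at h1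
        exact Subtype.ext (congrArg Subtype.val h1 :)
      rw [hM0, Ideal.height_bot] at hM2
      exact absurd hM2 (by decide)
    have hlt : Pm < P' := lt_of_le_of_ne hle fun he => htPm (he ▸ htP')
    let l : LTSeries (PrimeSpectrum C') := ((RelSeries.singleton _ (⟨⊥, Ideal.isPrime_bot⟩ : PrimeSpectrum C')).snoc ⟨Pm, hPm'⟩ hne).snoc ⟨P', hP'⟩ (by rw [RelSeries.last_snoc]; exact hlt)
    have h2 : (2 : ℕ∞) ≤ P'.height := by
      rw [PrimeSpectrum.height_eq_orderHeight (⟨P', hP'⟩ : PrimeSpectrum C')]
      exact Order.length_le_height (p := l) (by simp [l])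
    exact absurd (h2.trans hP'h) (by decide)

end Groth.Agent.PuncSecLib
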