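import Groth.Agent.PuncSecLib.Algebraize

/-!
# Coherent formal modules on the punctured open come from systems of finite modules
-/

set_option autoImplicit false
set_option linter.style.haveILetI false
set_option backward.isDefEq.respectTransparency.types false
set_option linter.unusedSectionVars false
set_option maxHeartbeats 1000000

universe u

open CategoryTheory CategoryTheory.Limits AlgebraicGeometry TopologicalSpace Opposite

noncomputable section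

namespace Groth.Agent.PuncSecLib

variable {A : Type u} [CommRing A] [IsNoetherianRing A] {𝔞 : Ideal A} {I : Ideal A}
  {G : ℕᵒᵖ ⥤ (LocCoh.puncturedOpen A 𝔞 : Scheme.{u}).Modules}

local notation "𝐔" => LocCoh.puncturedOpen A 𝔞

theorem exists_level_iso' (hG : Formal.IsCohFormal I G) (n : ℕ) :
    ∃ Θ : (tR 𝐔).obj (ModuleCat.of A (Γp 𝔞 (G.obj (op (n + 1))) ⧸
        (I ^ (n + 1) • (⊤ : Submodule A (Γp 𝔞 (G.obj (op (n + 1))))))) ) ≅ G.obj (op n),
      ∀ y, ((ΓU 𝐔).map Θ.hom).hom (υ 𝐔 _ (Submodule.Quotient.mk y)) = ((ΓU 𝐔).map (trS G n)).hom y := by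
  haveI := isIso_counit 𝐔 (G.obj (op (n + 1))) (hG.1 (n + 1)).1
  obtain ⟨w, hw⟩ := hG.2.2 n
  haveI := hw
  let c := (tRadj 𝐔).counit.app (G.obj (op (n + 1)))
  let M₀ := Γp 𝔞 (G.obj (op (n + 1)))
  obtain ⟨θ, hθ⟩ := exists_modPow_iso_tR 𝐔 I (n + 1) M₀
  let Θ := θ.symm ≪≫ modPowMapIso I (n + 1) (asIso c) ≪≫
    @asIso _ _ _ _ (cokernel.desc (Formal.smulFamily (I ^ (n + 1)) (G.obj (op (n + 1)))) (trS G n) w) hw
  refine ⟨Θ, fun y => ?_⟩
  have h1 : (tR 𝐔).map (ModuleCat.ofHom (I ^ (n + 1) • (⊤ : Submodule A M₀)).mkQ) ≫ Θ.hom = c ≫ trS G n := by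
    rw [← hθ]
    show (Formal.modPowπ I (n + 1) _ ≫ θ.hom) ≫ θ.inv ≫ (modPowMapIso I (n + 1) (asIso c)).hom ≫ _ = _
    rw [Category.assoc, θ.hom_inv_id_assoc, ← Category.assoc]
    refine (congrArg (· ≫ _) (cokernel.π_desc _ _ _)).trans ?_
    refine (Category.assoc _ _ _).trans ?_
    exact congrArg (c ≫ ·) (cokernel.π_desc _ _ _)
  have hy : ((ΓU 𝐔).map c).hom (υ 𝐔 M₀ y) = y :=
    congr(($((tRadj 𝐔).right_triangle_components (G.obj (op (n + 1))))).hom y)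
  refine (congrArg ((ΓU 𝐔).map Θ.hom).hom (υ_natural 𝐔 (I ^ (n + 1) • (⊤ : Submodule A M₀)).mkQ y).symm).trans ?_
  refine (congr(($((ΓU 𝐔).map_comp _ Θ.hom)).hom (υ 𝐔 M₀ y))).symm.trans ?_
  rw [h1, (ΓU 𝐔).map_comp]
  exact congrArg ((ΓU 𝐔).map (trS G n)).hom hy

theorem smul_eq_zero_of_mem (hG : Formal.IsCohFormal I G) (n : ℕ) {a : A} (ha : a ∈ I ^ (n + 1))
    (z : Γp 𝔞 (G.obj (op n))) : a • z = 0 := by
  rw [← ΓU_map_smulMod (G.obj (op n)) a z, hG.2.1 n a ha, Functor.map_zero]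
  rfl

/-- A finite submodule with torsion quotient. -/
def IsModel (n : ℕ) (P : Submodule A (Γp 𝔞 (G.obj (op n)))) : Prop :=
  P.FG ∧ CokTors 𝔞 P.subtype

theorem exists_model (hG : Formal.IsCohFormal I G) (n : ℕ) : ∃ P, IsModel (G := G) (𝔞 := 𝔞) n P := by
  obtain ⟨N, _, _, hN, ⟨e⟩⟩ := (Groth.Agent.S2269.result A 𝐔 (G.obj (op n))).1 (hG.1 n)
  haveI := hN
  let e' : G.obj (op n) ≅ (tR 𝐔).obj (ModuleCat.of A N) := e
  let E := ((ΓU 𝐔).mapIso e'.symm).toLinearEquiv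
  let g : N →ₗ[A] Γp 𝔞 (G.obj (op n)) := E.toLinearMap.comp (υ 𝐔 N)
  refine ⟨LinearMap.range g, (Module.Finite.iff_fg).1 inferInstance, fun y => ?_⟩
  obtain ⟨k, hk⟩ := cokTors_υ (𝔞 := 𝔞) (E.symm y)
  refine ⟨k, fun b hb => ?_⟩
  rw [Submodule.range_subtype]
  obtain ⟨m, hm⟩ := hk b hb
  exact ⟨m, (congrArg E hm).trans ((E.map_smul b _).trans (congrArg (b • ·) (E.apply_symm_apply y)))⟩

theorem exists_model_succ (hG : Formal.IsCohFormal I G) (n : ℕ) (P : Submodule A (Γp 𝔞 (G.obj (op n))))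
    (hP : IsModel n P) :
    ∃ Q, IsModel (n + 1) Q ∧ ∀ x ∈ Q, ((ΓU 𝐔).map (trS G n)).hom x ∈ P := by
  obtain ⟨Q₀, hQ₀, hQ₀'⟩ := exists_model hG (n + 1)
  let t := ((ΓU 𝐔).map (trS G n)).hom
  refine ⟨Q₀ ⊓ P.comap t, ⟨?_, ?_⟩, fun x hx => hx.2⟩
  · haveI : Module.Finite A Q₀ := Module.Finite.iff_fg.2 hQ₀
    haveI : IsNoetherian A Q₀ := isNoetherian_of_isNoetherianRing_of_finite A _
    exact Submodule.FG.of_le_of_isNoetherian (inf_le_left : Q₀ ⊓ P.comap t ≤ Q₀)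
  · refine cokTors_of_loc fun y p hp => ?_
    obtain ⟨s, hs, hsy⟩ := Loc.of_pow (P := fun s => s • y ∈ LinearMap.range Q₀.subtype) (hQ₀' y) p hp
    obtain ⟨s', hs', hsy'⟩ := Loc.of_pow (P := fun r => r • t (s • y) ∈ LinearMap.range P.subtype)
      (hP.2 (t (s • y))) p hp
    rw [Submodule.range_subtype] at hsy hsy'
    refine ⟨s' * s, fun hc => (p.2.mem_or_mem hc).elim hs' hs, ?_⟩
    show (s' * s) • y ∈ LinearMap.range (Q₀ ⊓ P.comap t).subtype
    rw [Submodule.range_subtype, mul_smul]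
    refine ⟨Q₀.smul_mem s' hsy, ?_⟩
    show t (s' • s • y) ∈ P
    rw [map_smul]
    exact hsy'

theorem exists_module_system (hG : Formal.IsCohFormal I G) :
    ∃ (M : ℕ → Type u) (_ : ∀ n, AddCommGroup (M n)) (_ : ∀ n, Module A (M n)) (g : ∀ n, M (n + 1) →ₗ[A] M n),
      (∀ n, Module.Finite A (M n)) ∧ (∀ n, I ^ (n + 1) • (⊤ : Submodule A (M n)) = ⊥) ∧
      (∀ n (x : M (n + 1)), g n x = 0 → ∃ m : ℕ, ∀ a ∈ 𝔞 ^ m, a • x ∈ I ^ (n + 1) • (⊤ : Submodule A (M (n + 1)))) ∧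
      (∀ n (y : M n), ∃ m : ℕ, ∀ a ∈ 𝔞 ^ m, a • y ∈ LinearMap.range (g n)) ∧
      Nonempty (G ≅ Functor.ofOpSequence
        (X := fun n => (tR 𝐔).obj (ModuleCat.of A (M n))) (fun n => (tR 𝐔).map (ModuleCat.ofHom (g n)))) := by
  let P : ∀ n, {P // IsModel (G := G) (𝔞 := 𝔞) n P} := fun n => Nat.rec
    (motive := fun n => {P // IsModel (G := G) (𝔞 := 𝔞) n P})
    ⟨(exists_model hG 0).choose, (exists_model hG 0).choose_spec⟩
    (fun n P => ⟨(exists_model_succ hG n P.1 P.2).choose, (exists_model_succ hG n P.1 P.2).choose_spec.1⟩) n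
  have hPt : ∀ n, ∀ x ∈ (P (n + 1)).1, ((ΓU 𝐔).map (trS G n)).hom x ∈ (P n).1 := fun n =>
    (exists_model_succ hG n (P n).1 (P n).2).choose_spec.2
  let t : ∀ n, Γp 𝔞 (G.obj (op (n + 1))) →ₗ[A] Γp 𝔞 (G.obj (op n)) := fun n => ((ΓU 𝐔).map (trS G n)).hom
  let g : ∀ n, (P (n + 1)).1 →ₗ[A] (P n).1 := fun n => (t n).restrict (hPt n)
  refine ⟨fun n => (P n).1, fun n => inferInstance, fun n => inferInstance, g,
    fun n => Module.Finite.iff_fg.2 (P n).2.1, fun n => ?_, fun n x hx => ?_, fun n y => ?_, ?_⟩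
  · exact eq_bot_iff.2 (Submodule.smul_le.2 fun a ha z _ =>
      (Submodule.mem_bot A).2 (Subtype.ext (smul_eq_zero_of_mem hG n ha z.1)))
  · obtain ⟨Θ, hΘ⟩ := exists_level_iso' hG n
    have hx' : t n x.1 = 0 := congrArg Subtype.val hx
    have h0 : υ 𝐔 _ (Submodule.Quotient.mk x.1) = 0 :=
      ((ΓU 𝐔).mapIso Θ).toLinearEquiv.injective (((hΘ x.1).trans hx').trans (map_zero _).symm)
    have hq : ∀ p : PrimeSpectrum A, p ∈ 𝐔 → ∃ s : A, s ∉ p.asIdeal ∧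
        s • (I ^ (n + 1) • (⊤ : Submodule A (P (n + 1)).1)).mkQ x = 0 := by
      intro p hp
      obtain ⟨s, hs, hsx⟩ := Loc.of_pow (P := fun s => s • (Submodule.Quotient.mk x.1 :
        Γp 𝔞 (G.obj (op (n + 1))) ⧸ (I ^ (n + 1) • (⊤ : Submodule A _))) = 0) ((υ_eq_zero_iff _).1 h0) p hp
      rw [← Submodule.Quotient.mk_smul, Submodule.Quotient.mk_eq_zero] at hsx
      suffices h : ∀ w ∈ I ^ (n + 1) • (⊤ : Submodule A (Γp 𝔞 (G.obj (op (n + 1))))),
          ∃ r : A, r ∉ p.asIdeal ∧ ∃ u ∈ I ^ (n + 1) • (⊤ : Submodule A (P (n + 1)).1), (u : Γp 𝔞 _) = r • w by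
        obtain ⟨r, hr, u, hu, hu'⟩ := h _ hsx
        refine ⟨r * s, fun hc => (p.2.mem_or_mem hc).elim hr hs, ?_⟩
        rw [← map_smul, Submodule.mkQ_apply, Submodule.Quotient.mk_eq_zero]
        rwa [show (r * s) • x = u from Subtype.ext ((mul_smul r s x.1).trans hu'.symm)]
      intro w hw
      refine Submodule.smul_induction_on hw (fun a ha z _ => ?_) (fun u v hu hv => ?_)
      · obtain ⟨r, hr, hrz⟩ := Loc.of_pow (P := fun r => r • z ∈ LinearMap.range (P (n + 1)).1.subtype)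
          ((P (n + 1)).2.2 z) p hp
        obtain ⟨z', hz'⟩ := hrz
        exact ⟨r, hr, a • z', Submodule.smul_mem_smul ha Submodule.mem_top,
          (congrArg (a • ·) hz').trans (smul_comm _ _ _)⟩
      · obtain ⟨r, hr, u', hu', eu⟩ := hu
        obtain ⟨r', hr', v', hv', ev⟩ := hv
        refine ⟨r * r', fun hc => (p.2.mem_or_mem hc).elim hr hr', r' • u' + r • v',
          add_mem (Submodule.smul_mem _ _ hu') (Submodule.smul_mem _ _ hv'), ?_⟩
        show r' • (u' : Γp 𝔞 (G.obj (op (n + 1)))) + r • (v' : Γp 𝔞 (G.obj (op (n + 1)))) = _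
        rw [eu, ev, smul_smul, smul_smul, mul_comm r', smul_add]
    obtain ⟨m, hm⟩ := exists_pow_kill_of_forall_prime hq
    exact ⟨m, fun a ha => (Submodule.Quotient.mk_eq_zero _).1 ((map_smul _ a x).trans (hm a ha))⟩
  · refine cokTors_of_loc (φ := g n) (fun y p hp => ?_) y
    obtain ⟨Θ, hΘ⟩ := exists_level_iso' hG n
    let e := ((ΓU 𝐔).mapIso Θ).toLinearEquiv
    obtain ⟨s, hs, hq⟩ := Loc.of_pow (P := fun s => s • e.symm y.1 ∈ LinearMap.range (υ 𝐔 _))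
      (cokTors_υ (𝔞 := 𝔞) (e.symm y.1)) p hp
    obtain ⟨q, hq⟩ := hq
    obtain ⟨z, rfl⟩ := Submodule.Quotient.mk_surjective _ q
    have hz : t n z = s • y.1 :=
      (hΘ z).symm.trans ((congrArg e hq).trans ((e.map_smul s _).trans (congrArg (s • ·) (e.apply_symm_apply _))))
    obtain ⟨r, hr, hrz⟩ := Loc.of_pow (P := fun r => r • z ∈ LinearMap.range (P (n + 1)).1.subtype)
      ((P (n + 1)).2.2 z) p hp
    obtain ⟨z', hz'⟩ := hrz
    refine ⟨r * s, fun hc => (p.2.mem_or_mem hc).elim hr hs, z', Subtype.ext ?_⟩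
    show t n z'.1 = (r * s) • y.1
    rw [show z'.1 = r • z from hz', map_smul, hz, mul_smul]
  · haveI := fun n => isIso_tR (𝔞 := 𝔞) (φ := (P n).1.subtype) Subtype.val_injective (P n).2.2
    haveI := fun n => isIso_counit 𝐔 (G.obj (op n)) (hG.1 n).1
    let C : ∀ n, (tR 𝐔).obj (ModuleCat.of A (P n).1) ≅ G.obj (op n) := fun n =>
      asIso ((tR 𝐔).map (ModuleCat.ofHom (P n).1.subtype)) ≪≫ asIso ((tRadj 𝐔).counit.app (G.obj (op n)))
    let S := Functor.ofOpSequence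
      (X := fun n => (tR 𝐔).obj (ModuleCat.of A (P n).1)) (fun n => (tR 𝐔).map (ModuleCat.ofHom (g n)))
    have hnat : ∀ n, S.map (homOfLE (n.le_add_right 1)).op ≫ (C n).hom =
        (C (n + 1)).hom ≫ G.map (homOfLE (n.le_add_right 1)).op := by
      intro n
      show (Functor.ofOpSequence (X := fun n => (tR 𝐔).obj (ModuleCat.of A (P n).1))
        (fun n => (tR 𝐔).map (ModuleCat.ofHom (g n)))).map _ ≫ _ = _
      rw [Functor.ofOpSequence_map_homOfLE_succ]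
      show (tR 𝐔).map _ ≫ (tR 𝐔).map _ ≫ _ = ((tR 𝐔).map _ ≫ (tRadj 𝐔).counit.app _) ≫ trS G n
      rw [Category.assoc]
      refine Eq.trans ?_ (congrArg ((tR 𝐔).map (ModuleCat.ofHom (P (n + 1)).1.subtype) ≫ ·)
        ((tRadj 𝐔).counit.naturality (trS G n)))
      rw [← Category.assoc, ← Category.assoc]
      refine congrArg (· ≫ _) ?_
      show _ = (tR 𝐔).map _ ≫ (tR 𝐔).map ((ΓU 𝐔).map (trS G n))
      rw [← Functor.map_comp, ← Functor.map_comp]
      rfl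
    let α : S ⟶ G := NatTrans.ofOpSequence (fun n => (C n).hom) hnat
    haveI : ∀ n, IsIso (α.app n) := fun n => inferInstanceAs (IsIso (C n.unop).hom)
    haveI : IsIso α := NatIso.isIso_of_isIso_app α
    exact ⟨(asIso α).symm⟩

end Groth.Agent.PuncSecLib
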