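import Groth.Agent.PuncSecLib.Torsion
import Groth.Agent.PuncSecLib.LocFree

/-!
# The obstruction module: cokernel of `C → Γ(U, C~)`
-/

set_option autoImplicit false
set_option linter.style.haveILetI false
set_option backward.isDefEq.respectTransparency.types false

universe u

open CategoryTheory CategoryTheory.Limits AlgebraicGeometry TopologicalSpace Opposite

noncomputable section

namespace Groth.Agent.PuncSecLib

variable {A : Type u} [CommRing A] [IsNoetherianRing A] (𝔞 : Ideal A)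

/-- The obstruction module. -/
abbrev Obs (C : Type u) [AddCommGroup C] [Module A C] : Type u :=
  ↑((ΓU (LocCoh.puncturedOpen A 𝔞)).obj ((tR (LocCoh.puncturedOpen A 𝔞)).obj (ModuleCat.of A C))) ⧸
    LinearMap.range (υ (LocCoh.puncturedOpen A 𝔞) C)

variable {K E C : Type u} [AddCommGroup K] [Module A K] [AddCommGroup E] [Module A E] [AddCommGroup C] [Module A C]

variable {𝔞} in
omit [IsNoetherianRing A] in
theorem ΓU_map_injective {M N : (LocCoh.puncturedOpen A 𝔞 : Scheme.{u}).Modules} (f : M ⟶ N) [Mono f] :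
    Function.Injective ((ΓU (LocCoh.puncturedOpen A 𝔞)).map f).hom :=
  (ModuleCat.mono_iff_injective _).1 inferInstance

theorem υ_surjective_of_injective [Module.Injective A E] :
    Function.Surjective (υ (LocCoh.puncturedOpen A 𝔞) E) := fun z => by
  obtain ⟨e, he⟩ := ε_surjective_of_injective (LocCoh.puncturedOpen A 𝔞) ((χ (LocCoh.puncturedOpen A 𝔞) E).symm z)
  exact ⟨e, by rw [← χ_ε, he, LinearEquiv.apply_symm_apply]⟩

theorem exists_surjection_obs :
    ∃ (R : Submodule A (LocCoh.H 𝔞 1 C)) (q : R →ₗ[A] Obs 𝔞 C), Function.Surjective q := by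
  obtain ⟨E', j, hE', hj⟩ := exists_embedding (A := A) C
  let ρ : ↥E' →ₗ[A] ↥E' ⧸ LinearMap.range j := (LinearMap.range j).mkQ
  have hexC : LinearMap.range j = LinearMap.ker ρ := (Submodule.ker_mkQ _).symm
  let S := mseq hexC
  have hS : S.ShortExact :=
    { exact := ShortComplex.Exact.moduleCat_of_range_eq_ker _ _ hexC
      mono_f := (ModuleCat.mono_iff_injective _).2 hj
      epi_g := (ModuleCat.epi_iff_surjective _).2 (Submodule.mkQ_surjective _) }
  let U := LocCoh.puncturedOpen A 𝔞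
  haveI := mono_tR U hj
  let Ψ := ((ΓU U).map ((tR U).map (ModuleCat.ofHom j))).hom
  have hΨ : Function.Injective Ψ := ΓU_map_injective _
  -- elements of `E'` that are sections of `C`
  let T : Submodule A (↥E') := Submodule.comap (υ U ↥E') (LinearMap.range Ψ)
  let toSec : T →ₗ[A] ↑((ΓU U).obj ((tR U).obj (ModuleCat.of A C))) :=
    (LinearEquiv.ofInjective Ψ hΨ).symm.toLinearMap.comp
      (((υ U ↥E').comp T.subtype).codRestrict (LinearMap.range Ψ) fun e => e.2)
  have htoSec : ∀ e : T, Ψ (toSec e) = υ U ↥E' e.1 := fun e =>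
    congrArg Subtype.val ((LinearEquiv.ofInjective Ψ hΨ).apply_symm_apply
      ⟨υ U ↥E' e.1, e.2⟩)
  have hsurj : Function.Surjective toSec := fun s => by
    obtain ⟨e, he⟩ := υ_surjective_of_injective (E := ↥E') 𝔞 (Ψ s)
    exact ⟨⟨e, s, he.symm⟩, hΨ ((htoSec _).trans he)⟩
  have htor : ∀ e : T, ρ e.1 ∈ DRing.torsionSub 𝔞 (↥E' ⧸ LinearMap.range j) := fun ⟨e, s, hs⟩ => by
    obtain ⟨n, hn⟩ := cokTors_υ s
    refine (υ_eq_zero_iff (ρ e)).1 (eq_zero_of_powTors ⟨n, fun b hb => ?_⟩)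
    obtain ⟨c, hc⟩ := hn b hb
    have h1 : υ U ↥E' (j c) = υ U ↥E' (b • e) := by
      rw [map_smul, ← hs, ← map_smul, ← hc]
      exact (υ_natural U j c).symm
    rw [← map_smul, ← map_smul, ← υ_natural U ρ, ← h1, υ_natural,
      show ρ (j c) = 0 from (Submodule.Quotient.mk_eq_zero _).2 (LinearMap.mem_range_self j c), map_zero]
  let w : T →ₗ[A] (localCohomology 𝔞 0).obj S.X₃ :=
    (LocCohLib.h0Equiv 𝔞 S.X₃).symm.toLinearMap.comp
      ((ρ.comp T.subtype).codRestrict (DRing.torsionSub 𝔞 (↥E' ⧸ LinearMap.range j)) htor)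
  let d : T →ₗ[A] LocCoh.H 𝔞 1 C := (LocCohLib.δ 𝔞 hS 0).comp w
  let g : T →ₗ[A] Obs 𝔞 C := (LinearMap.range (υ U C)).mkQ.comp toSec
  have hker : LinearMap.ker d ≤ LinearMap.ker g := fun e he => by
    obtain ⟨v, hv⟩ := LocCohLib.exists_of_δ_eq_zero 𝔞 hS 0 (w e) he
    obtain ⟨g₀, hg₀⟩ : ∃ g₀ : ↥E', g₀ = LocCohLib.h0 𝔞 S.X₂ v := ⟨_, rfl⟩
    have hw : ρ g₀ = ρ e.1 := by
      rw [hg₀]
      refine (LocCohLib.h0_map S.g v).symm.trans ((congrArg (LocCohLib.h0 𝔞 S.X₃) hv).trans ?_)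
      exact (LocCohLib.h0Equiv_coe _).symm.trans (congrArg Subtype.val ((LocCohLib.h0Equiv 𝔞 S.X₃).apply_symm_apply _))
    have hv0 : υ U ↥E' g₀ = 0 := by
      rw [hg₀]
      exact (υ_eq_zero_iff _).2 ((SetLike.ext_iff.1 (LocCohLib.range_h0 (I := 𝔞) (M := S.X₂)) _).1
        (LinearMap.mem_range_self _ v))
    obtain ⟨c, hc⟩ : e.1 - g₀ ∈ LinearMap.range j := by
      rw [hexC, LinearMap.mem_ker, map_sub, hw, sub_self]
    refine (Submodule.Quotient.mk_eq_zero _).2 ⟨c, hΨ ?_⟩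
    rw [htoSec, υ_natural, hc, map_sub, hv0, sub_zero]
  have hg : Function.Surjective g := (Submodule.mkQ_surjective _).comp hsurj
  exact ⟨LinearMap.range d, ((LinearMap.ker d).liftQ g hker).comp d.quotKerEquivRange.symm.toLinearMap,
    fun z => by
      obtain ⟨e, he⟩ := hg z
      exact ⟨d.quotKerEquivRange (Submodule.Quotient.mk e), by
        rw [LinearMap.comp_apply, LinearEquiv.coe_coe, LinearEquiv.symm_apply_apply]
        exact he⟩⟩

theorem finite_obs [Module.Injective A E] {ι : K →ₗ[A] E} {π : E →ₗ[A] C} (hι : Function.Injective ι)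
    (hπ : Function.Surjective π) (hex : LinearMap.range ι = LinearMap.ker π)
    (hfin : Module.Finite A (LocCoh.H 𝔞 2 K)) :
    Module.Finite A (Obs 𝔞 C) ∧ ∃ t : ℕ, ∀ z : Obs 𝔞 C, ∀ b ∈ 𝔞 ^ t, b • z = 0 := by
  let S₀ := mseq hex
  have hS₀ : S₀.ShortExact :=
    { exact := ShortComplex.Exact.moduleCat_of_range_eq_ker _ _ hex
      mono_f := (ModuleCat.mono_iff_injective _).2 hι
      epi_g := (ModuleCat.epi_iff_surjective _).2 hπ }
  haveI : Injective S₀.X₂ := Module.injective_object_of_injective_module A E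
  haveI : Subsingleton ((localCohomology 𝔞 1).obj S₀.X₂ : Type u) := LocCohLib.subsingleton_of_injective 0
  have hinj : Function.Injective (LocCohLib.δ 𝔞 hS₀ 1) := (injective_iff_map_eq_zero _).2 fun z hz => by
    obtain ⟨w, rfl⟩ := LocCohLib.exists_of_δ_eq_zero 𝔞 hS₀ 1 z hz
    rw [Subsingleton.elim w 0, map_zero]
  haveI : Module.Finite A ((localCohomology 𝔞 (1 + 1)).obj S₀.X₁ : Type u) := hfin
  haveI hC : Module.Finite A (LocCoh.H 𝔞 1 C) := Module.Finite.of_injective (LocCohLib.δ 𝔞 hS₀ 1) hinj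
  obtain ⟨R, q, hq⟩ := exists_surjection_obs (𝔞 := 𝔞) (C := C)
  haveI : IsNoetherian A (LocCoh.H 𝔞 1 C) := isNoetherian_of_isNoetherianRing_of_finite A _
  obtain ⟨t, ht⟩ := exists_pow_kill (𝔞 := 𝔞) C 1
  refine ⟨Module.Finite.of_surjective q hq, t, fun z b hb => ?_⟩
  obtain ⟨e, rfl⟩ := hq z
  rw [← map_smul, show b • e = 0 from Subtype.ext (ht e.1 b hb), map_zero]

theorem isArtinian_obs [IsArtinian A (LocCoh.H 𝔞 1 C)] : IsArtinian A (Obs 𝔞 C) := by
  obtain ⟨R, q, hq⟩ := exists_surjection_obs (𝔞 := 𝔞) (C := C)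
  exact isArtinian_of_surjective R q hq

end Groth.Agent.PuncSecLib
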