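import Mathlib
import Groth.Agent.PuncSecLib.Domain

/-! Reduced rings: reduction to the quotients by the minimal primes. -/

set_option autoImplicit false
set_option maxHeartbeats 1000000
universe u

namespace Groth.Agent.PuncSecLib

open Polynomial

variable {A : Type u} [CommRing A] [IsNoetherianRing A] [IsReduced A]

/-- The projection of the total fraction ring to the fraction field at a minimal prime. -/
noncomputable def proj (q : Ideal A) [q.IsPrime] (hq : q ∈ minimalPrimes A) :
    FractionRing A →ₐ[A] FractionRing (A ⧸ q) :=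
  IsLocalization.liftAlgHom (M := nonZeroDivisors A) (f := Algebra.ofId A (FractionRing (A ⧸ q))) fun a => by
    refine isUnit_iff_ne_zero.mpr fun h => ?_
    change algebraMap A (FractionRing (A ⧸ q)) (a : A) = 0 at h
    rw [IsScalarTower.algebraMap_apply A (A ⧸ q) (FractionRing (A ⧸ q))] at h
    have h1 : (a : A) ∈ q :=
      Ideal.Quotient.eq_zero_iff_mem.mp (IsFractionRing.injective (A ⧸ q) _ (h.trans (map_zero _).symm))
    exact Set.disjoint_left.mp (Ideal.disjoint_nonZeroDivisors_of_mem_minimalPrimes hq) h1 a.2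

omit [IsNoetherianRing A] in
theorem proj_injective (x : FractionRing A)
    (h : ∀ (q : Ideal A) [q.IsPrime] (hq : q ∈ minimalPrimes A), proj q hq x = 0) : x = 0 := by
  obtain ⟨⟨a, b⟩, hab⟩ := IsLocalization.surj (nonZeroDivisors A) x
  suffices a = 0 by
    rw [this, map_zero] at hab
    exact (IsLocalization.map_units (FractionRing A) b).mul_left_eq_zero.mp hab
  have hmem : a ∈ sInf (minimalPrimes A) := Ideal.mem_sInf.mpr fun {q} hq => by
    haveI : q.IsPrime := hq.1.1
    have h1 := congrArg (proj q hq) hab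
    rw [map_mul, h q hq, zero_mul, AlgHom.commutes, IsScalarTower.algebraMap_apply A (A ⧸ q)] at h1
    exact Ideal.Quotient.eq_zero_iff_mem.mp (IsFractionRing.injective (A ⧸ q) _ (h1.symm.trans (map_zero _).symm))
  have h2 : sInf (minimalPrimes A) = ⊥ :=
    (Ideal.sInf_minimalPrimes (I := (⊥ : Ideal A))).trans (nilradical_eq_zero A)
  rw [h2] at hmem
  exact hmem

theorem exists_adapted (q : Ideal A) [hq0 : q.IsPrime] (hq : q ∈ minimalPrimes A) (a b : A) (hb : b ∉ q) :
    ∃ z : FractionRing A, algebraMap A _ b * proj q hq z = algebraMap A _ a ∧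
      ∀ (q' : Ideal A) [q'.IsPrime] (hq' : q' ∈ minimalPrimes A), q' ≠ q → proj q' hq' z = 0 := by
  classical
  let T := (minimalPrimes.finite_of_isNoetherianRing A).toFinset.erase q
  have hT : ∀ q' : Ideal A, q' ∈ T ↔ q' ≠ q ∧ q' ∈ minimalPrimes A := fun q' => by simp [T]
  obtain ⟨x, hx, hxq⟩ : ∃ x ∈ T.inf id, x ∉ q := SetLike.not_le_iff_exists.mp fun hle => by
    obtain ⟨q', hq'T, hle'⟩ := (Ideal.IsPrime.inf_le' hq0).mp hle
    exact ((hT q').mp hq'T).1 (le_antisymm hle' (hq.2 ⟨((hT q').mp hq'T).2.1.1, bot_le⟩ hle'))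
  obtain ⟨y, hyq, hy⟩ : ∃ y ∈ q, ∀ q' ∈ T, y ∉ q' := by
    by_contra hno
    push Not at hno
    obtain ⟨q', hq'T, hle⟩ := (Ideal.subset_union_prime (f := fun i : Ideal A => i) ⊥ ⊥
      fun q' hq' _ _ => ((hT q').mp hq').2.1.1).1 (fun y hy => by
        obtain ⟨q', hq', hy'⟩ := hno y hy
        exact Set.mem_biUnion (Finset.mem_coe.mpr hq') hy')
    exact ((hT q').mp hq'T).1 (le_antisymm (((hT q').mp hq'T).2.2 ⟨hq0, bot_le⟩ hle) hle)
  have hxT : ∀ q' ∈ T, x ∈ q' := fun q' hq' => (Finset.inf_le hq' : T.inf id ≤ q') hx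
  have hnz : x * b + y ∈ nonZeroDivisors A := by
    rw [mem_nonZeroDivisors_iff_right]
    intro c hc
    have hc' : ∀ q' ∈ minimalPrimes A, c ∈ q' := fun q' hq' => by
      haveI : q'.IsPrime := hq'.1.1
      refine (Ideal.IsPrime.mem_or_mem ‹_› (show c * (x * b + y) ∈ q' by rw [hc]; exact zero_mem _)).resolve_right fun h => ?_
      by_cases he : q' = q
      · subst he
        exact ((hq0.mem_or_mem (by simpa using q'.sub_mem h hyq : x * b ∈ q')).elim hxq hb)
      · have h1 : y ∈ q' := by simpa using q'.sub_mem h (q'.mul_mem_right b (hxT q' ((hT q').mpr ⟨he, hq'⟩)))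
        exact hy q' ((hT q').mpr ⟨he, hq'⟩) h1
    refine IsFractionRing.injective A (FractionRing A) (((proj_injective _) fun q' _ hq' => ?_).trans (map_zero _).symm)
    rw [AlgHom.commutes, IsScalarTower.algebraMap_apply A (A ⧸ q'), Ideal.Quotient.algebraMap_eq,
      Ideal.Quotient.eq_zero_iff_mem.mpr (hc' q' hq'), map_zero]
  let z := IsLocalization.mk' (FractionRing A) (x * a) ⟨x * b + y, hnz⟩
  refine ⟨z, ?_, fun q' _ hq' hne => ?_⟩
  · have h1 := congrArg (proj q hq) (IsLocalization.mk'_spec (FractionRing A) (x * a) ⟨x * b + y, hnz⟩)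
    rw [map_mul, AlgHom.commutes, AlgHom.commutes] at h1
    have hy0 : algebraMap A (FractionRing (A ⧸ q)) y = 0 := by
      rw [IsScalarTower.algebraMap_apply A (A ⧸ q), Ideal.Quotient.algebraMap_eq, Ideal.Quotient.eq_zero_iff_mem.mpr hyq, map_zero]
    change proj q hq z * algebraMap A (FractionRing (A ⧸ q)) (x * b + y) = _ at h1
    rw [map_add, map_mul, map_mul, hy0, add_zero] at h1
    have hx0 : algebraMap A (FractionRing (A ⧸ q)) x ≠ 0 := by
      rw [IsScalarTower.algebraMap_apply A (A ⧸ q)]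
      exact fun h => hxq (Ideal.Quotient.eq_zero_iff_mem.mp (IsFractionRing.injective (A ⧸ q) _ (h.trans (map_zero _).symm)))
    refine mul_left_cancel₀ hx0 ?_
    rw [← h1]
    ring
  · have h1 := congrArg (proj q' hq') (IsLocalization.mk'_spec (FractionRing A) (x * a) ⟨x * b + y, hnz⟩)
    rw [map_mul, AlgHom.commutes, AlgHom.commutes] at h1
    have hx0 : algebraMap A (FractionRing (A ⧸ q')) (x * a) = 0 := by
      rw [IsScalarTower.algebraMap_apply A (A ⧸ q'), Ideal.Quotient.algebraMap_eq,
        Ideal.Quotient.eq_zero_iff_mem.mpr (q'.mul_mem_right a (hxT q' ((hT q').mpr ⟨hne, hq'⟩))), map_zero]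
    rw [hx0] at h1
    refine (mul_eq_zero.mp h1).resolve_right ?_
    rw [IsScalarTower.algebraMap_apply A (A ⧸ q')]
    intro h
    exact Set.disjoint_left.mp (Ideal.disjoint_nonZeroDivisors_of_mem_minimalPrimes hq')
      (Ideal.Quotient.eq_zero_iff_mem.mp (IsFractionRing.injective (A ⧸ q') _ (h.trans (map_zero _).symm))) hnz

omit [IsNoetherianRing A] in
theorem exists_monic_lift (q : Ideal A) [q.IsPrime] {K : Type u} [CommRing K] [Algebra (A ⧸ q) K] [Algebra A K]
    [IsScalarTower A (A ⧸ q) K] {y : K} (hy : IsIntegral (A ⧸ q) y) : ∃ P : A[X], P.Monic ∧ aeval y P = 0 := by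
  obtain ⟨P, hPm, hP⟩ := hy
  obtain ⟨P', hP', -, hP'm⟩ := Polynomial.lifts_and_degree_eq_and_monic
    (show P ∈ Polynomial.lifts (algebraMap A (A ⧸ q)) from by
      rw [Polynomial.lifts_iff_coeff_lifts]; exact fun n => Ideal.Quotient.mk_surjective _) hPm
  refine ⟨P', hP'm, ?_⟩
  rw [← aeval_map_algebraMap (A ⧸ q), hP']
  exact hP

variable [IsLocalRing A]

theorem two_le_height_quot
    (hdim : ∀ (m' : Ideal (integralClosure A (FractionRing A))) [m'.IsMaximal],
      m'.comap (algebraMap A (integralClosure A (FractionRing A))) = IsLocalRing.maximalIdeal A →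
        2 ≤ ringKrullDim (Localization.AtPrime m'))
    (q : Ideal A) [q.IsPrime] (hq : q ∈ minimalPrimes A)
    (M : Ideal (integralClosure (A ⧸ q) (FractionRing (A ⧸ q)))) (hM : M.IsMaximal) : (2 : ℕ∞) ≤ M.height := by
  let A' := integralClosure A (FractionRing A)
  let D' := integralClosure (A ⧸ q) (FractionRing (A ⧸ q))
  let Φ : A' →+* D' :=
    ((proj q hq).toRingHom.comp A'.val.toRingHom).codRestrict D'.toSubring fun x =>
      IsIntegral.tower_top (R := A) (x.2.map (proj q hq))
  have hΦ : ∀ x : A', ((Φ x : D') : FractionRing (A ⧸ q)) = proj q hq x := fun _ => rfl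
  have hint : ∀ z : FractionRing A, IsIntegral (A ⧸ q) (proj q hq z) →
      (∀ (q' : Ideal A) [q'.IsPrime] (hq' : q' ∈ minimalPrimes A), q' ≠ q → proj q' hq' z = 0) → IsIntegral A z := by
    intro z hz hz'
    obtain ⟨P, hPm, hP⟩ := exists_monic_lift q hz
    refine ⟨X * P, monic_X.mul hPm, ?_⟩
    rw [← aeval_def]
    refine proj_injective _ fun q' _ hq' => ?_
    rw [← aeval_algHom_apply, map_mul, aeval_X]
    by_cases he : q' = q
    · subst he; rw [hP, mul_zero]
    · rw [hz' q' hq' he, zero_mul]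
  have hsurj : Function.Surjective Φ := by
    rintro ⟨y, hy⟩
    obtain ⟨⟨a', b'⟩, hab⟩ := IsLocalization.surj (nonZeroDivisors (A ⧸ q)) y
    obtain ⟨a, rfl⟩ := Ideal.Quotient.mk_surjective a'
    obtain ⟨b, hb⟩ := Ideal.Quotient.mk_surjective b'.1
    have hbq : b ∉ q := fun h => by
      have := nonZeroDivisors.coe_ne_zero b'
      rw [← hb, Ideal.Quotient.eq_zero_iff_mem.mpr h] at this
      exact this rfl
    obtain ⟨z, hz, hz'⟩ := exists_adapted q hq a b hbq
    have hzy : proj q hq z = y := by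
      refine (IsLocalization.map_units (FractionRing (A ⧸ q)) b').mul_left_injective ?_
      change proj q hq z * algebraMap (A ⧸ q) (FractionRing (A ⧸ q)) b'.1 = y * algebraMap (A ⧸ q) _ b'.1
      rw [hab, ← hb, mul_comm]
      rw [IsScalarTower.algebraMap_apply A (A ⧸ q) (FractionRing (A ⧸ q)) b,
        IsScalarTower.algebraMap_apply A (A ⧸ q) (FractionRing (A ⧸ q)) a] at hz
      exact hz
    exact ⟨⟨z, hint z (hzy ▸ hy) hz'⟩, Subtype.ext hzy⟩
  obtain ⟨e, he, he'⟩ := exists_adapted q hq 1 1 (fun h => ‹q.IsPrime›.ne_top (q.eq_top_iff_one.mpr h))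
  rw [map_one, one_mul] at he
  let eA : A' := ⟨e, hint e (he ▸ isIntegral_one) he'⟩
  have heA : Φ eA = 1 := Subtype.ext he
  haveI := hM.isPrime
  let m' := M.comap Φ
  haveI : m'.IsMaximal := Ideal.comap_isMaximal_of_surjective Φ hsurj
  have hker : ∀ Q : Ideal A', Q.IsPrime → Q ≤ m' → RingHom.ker Φ ≤ Q := by
    intro Q hQ hle k hk
    have hke : k * eA = 0 := Subtype.ext (proj_injective _ fun q' _ hq' => by
      rw [Subalgebra.coe_mul, map_mul]
      by_cases h : q' = q
      · subst h; rw [show proj q' hq' (k : FractionRing A) = 0 from congrArg Subtype.val (RingHom.mem_ker.mp hk), zero_mul]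
      · rw [show proj q' hq' (eA : FractionRing A) = 0 from he' q' hq' h, mul_zero])
    refine (hQ.mem_or_mem (show k * eA ∈ Q by rw [hke]; exact zero_mem _)).resolve_right fun h => ?_
    have h1 : Φ eA ∈ M := hle h
    rw [heA] at h1
    exact hM.ne_top (M.eq_top_iff_one.mpr h1)
  have hm : m'.comap (algebraMap A A') = IsLocalRing.maximalIdeal A :=
    IsLocalRing.eq_maximalIdeal (Ideal.isMaximal_comap_of_isIntegral_of_isMaximal m')
  have h2 := hdim m' hm
  rw [IsLocalization.AtPrime.ringKrullDim_eq_height m' (Localization.AtPrime m'),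
    PrimeSpectrum.height_eq_orderHeight (⟨m', inferInstance⟩ : PrimeSpectrum A')] at h2
  have h3 : (2 : ℕ∞) ≤ Order.height (⟨m', inferInstance⟩ : PrimeSpectrum A') := WithBot.coe_le_coe.mp h2
  refine h3.trans ?_
  rw [PrimeSpectrum.height_eq_orderHeight (⟨M, hM.isPrime⟩ : PrimeSpectrum D')]
  refine Order.height_le fun l hl => ?_
  have hle : ∀ i, (l i).asIdeal ≤ m' := fun i => by
    have := LTSeries.monotone l (Fin.le_last i)
    rw [show l (Fin.last l.length) = l.last from rfl, hl] at this
    exact this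
  have hback : ∀ i, ((l i).asIdeal.map Φ).comap Φ = (l i).asIdeal := fun i => by
    rw [Ideal.comap_map_of_surjective Φ hsurj, ← RingHom.ker_eq_comap_bot,
      sup_eq_left.mpr (hker _ (l i).isPrime (hle i))]
  let l' : LTSeries (PrimeSpectrum D') :=
    LTSeries.mk l.length (fun i => ⟨(l i).asIdeal.map Φ, Ideal.map_isPrime_of_surjective hsurj (hker _ (l i).isPrime (hle i))⟩)
      fun i j hij => by
        refine lt_of_le_of_ne (Ideal.map_mono (le_of_lt (l.strictMono hij))) fun h => (l.strictMono hij).ne ?_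
        exact PrimeSpectrum.ext (by rw [← hback i, ← hback j]; exact congrArg (fun P : PrimeSpectrum D' => P.asIdeal.comap Φ) h)
  refine Order.length_le_height (p := l') (le_of_eq (PrimeSpectrum.ext ?_))
  change (l (Fin.last l.length)).asIdeal.map Φ = M
  rw [show l (Fin.last l.length) = l.last from rfl, hl]
  exact Ideal.map_comap_of_surjective Φ hsurj M

theorem isIntegral_of_pow_mul_mem_reduced
    (hdim : ∀ (m' : Ideal (integralClosure A (FractionRing A))) [m'.IsMaximal],
      m'.comap (algebraMap A (integralClosure A (FractionRing A))) = IsLocalRing.maximalIdeal A →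
        2 ≤ ringKrullDim (Localization.AtPrime m'))
    (s : FractionRing A)
    (hs : ∀ a ∈ IsLocalRing.maximalIdeal A, ∃ (N : ℕ) (b : A),
      algebraMap A (FractionRing A) b = algebraMap A (FractionRing A) a ^ N * s) :
    IsIntegral A s := by
  classical
  let S := (minimalPrimes.finite_of_isNoetherianRing A).toFinset
  have hS : ∀ q : S, (q : Ideal A) ∈ minimalPrimes A := fun q => (Set.Finite.mem_toFinset _).mp q.2
  have key : ∀ q : S, ∃ P : A[X], P.Monic ∧ ∀ (_ : (q : Ideal A).IsPrime), aeval (proj (q : Ideal A) (hS q) s) P = 0 := by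
    intro q
    haveI : (q : Ideal A).IsPrime := (hS q).1.1
    haveI : IsLocalRing (A ⧸ (q : Ideal A)) := .of_surjective' _ Ideal.Quotient.mk_surjective
    have h1 : IsIntegral (A ⧸ (q : Ideal A)) (proj (q : Ideal A) (hS q) s) := by
      refine isIntegral_of_pow_mul_mem _ (fun M hM => two_le_height_quot hdim _ (hS q) M hM) _ fun a ha => ?_
      obtain ⟨a, rfl⟩ := Ideal.Quotient.mk_surjective a
      have ha' : a ∈ IsLocalRing.maximalIdeal A := by
        rw [IsLocalRing.mem_maximalIdeal, mem_nonunits_iff] at ha ⊢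
        exact fun h => ha (h.map _)
      obtain ⟨N, b, hb⟩ := hs a ha'
      refine ⟨N, Ideal.Quotient.mk _ b, ?_⟩
      have h2 := congrArg (proj (q : Ideal A) (hS q)) hb
      rw [map_mul, map_pow, AlgHom.commutes, AlgHom.commutes, IsScalarTower.algebraMap_apply A (A ⧸ (q : Ideal A)),
        IsScalarTower.algebraMap_apply A (A ⧸ (q : Ideal A))] at h2
      exact h2
    obtain ⟨P, hPm, hP⟩ := exists_monic_lift (q : Ideal A) h1
    exact ⟨P, hPm, fun _ => hP⟩
  choose P hPm hP using key
  refine ⟨∏ q : S, P q, monic_prod_of_monic _ _ fun q _ => hPm q, ?_⟩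
  rw [← aeval_def]
  refine proj_injective _ fun q _ hq => ?_
  have hqS : q ∈ S := (Set.Finite.mem_toFinset _).mpr hq
  rw [← aeval_algHom_apply, map_prod]
  exact Finset.prod_eq_zero (Finset.mem_univ (⟨q, hqS⟩ : S)) (hP ⟨q, hqS⟩ inferInstance)

end Groth.Agent.PuncSecLib
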