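import Groth.Agent.PuncSecLib.Bridge
import Groth.Agent.PuncSecLib.Kill
import Groth.Agent.QCohLib.Push
import Groth.Agent.DCohLib.PerfCoh

/-!
# Sections over an open of `Spec A` as a functor to `A`-modules
-/

set_option autoImplicit false
set_option linter.style.haveILetI false
set_option backward.isDefEq.respectTransparency.types false
set_option maxHeartbeats 800000

universe u

open CategoryTheory CategoryTheory.Limits AlgebraicGeometry TopologicalSpace Opposite

noncomputable section

namespace Groth.Agent.PuncSecLib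

variable {A : Type u} [CommRing A] (U : (Sp A).Opens)

/-- Sections over the open. -/
def ΓU : (U : Scheme.{u}).Modules ⥤ ModuleCat.{u} A :=
  Scheme.Modules.pushforward U.ι ⋙ moduleSpecΓFunctor (R := CommRingCat.of A)

/-- Tilde and restriction is left adjoint to sections. -/
def tRadj : tR U ⊣ ΓU U :=
  (tilde.adjunction (R := CommRingCat.of A)).comp (Scheme.Modules.restrictAdjunction U.ι)

instance : (ΓU (A := A) U).IsRightAdjoint := (tRadj U).isRightAdjoint
instance : (tR (A := A) U).IsLeftAdjoint := (tRadj U).isLeftAdjoint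
instance : (tR (A := A) U).Additive :=
  inferInstanceAs (tilde.functor (CommRingCat.of A) ⋙ Scheme.Modules.restrictFunctor U.ι).Additive
instance : (ΓU (A := A) U).Additive := (tRadj U).right_adjoint_additive

theorem isIso_counit [IsNoetherianRing A] (G : (U : Scheme.{u}).Modules) (hG : Coh.IsQCoh G) :
    IsIso ((tRadj U).counit.app G) := by
  haveI := hG
  haveI : IsNoetherianRing (CommRingCat.of A : Type u) := inferInstanceAs (IsNoetherianRing A)
  haveI : AlgebraicGeometry.IsLocallyNoetherian (Sp A) := inferInstance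
  haveI : QuasiCompact U.ι := inferInstance
  haveI : Coh.IsQCoh ((Scheme.Modules.pushforward U.ι).obj G) := QCohLib.isQCoh_pushforward (M := G) U.ι
  haveI : IsIso ((tilde.adjunction (R := CommRingCat.of A)).counit.app ((Scheme.Modules.pushforward U.ι).obj G)) :=
    @Scheme.Modules.isIso_fromTildeΓ_of_isQuasicoherent (CommRingCat.of A) ((Scheme.Modules.pushforward U.ι).obj G) ‹_›
  rw [tRadj, Adjunction.comp_counit_app]
  exact @IsIso.comp_isIso _ _ _ _ _ _ _ (Functor.map_isIso _ _) inferInstance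

variable (M : Type u) [AddCommGroup M] [Module A M]

/-- The direct image of the restriction. -/
def dirIm : (Sp A).Modules :=
  (Scheme.Modules.pushforward U.ι).obj ((tR U).obj (ModuleCat.of A M))

/-- Restriction from all sections to the open. -/
def res₀ : ↑((ΓU U).obj ((tR U).obj (ModuleCat.of A M))) →ₗ[A]
    ↑((modulesSpecToSheaf.obj (dirIm U M)).presheaf.obj (op U)) :=
  ((modulesSpecToSheaf.obj (dirIm U M)).presheaf.map (homOfLE (le_top : U ≤ ⊤)).op).hom

/-- The unit on the open. -/
def unit₀ : Sec M U →ₗ[A] ↑((modulesSpecToSheaf.obj (dirIm U M)).presheaf.obj (op U)) :=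
  ((modulesSpecToSheaf.map ((Scheme.Modules.restrictAdjunction U.ι).unit.app
    (tilde (R := CommRingCat.of A) (ModuleCat.of A M)))).1.app (op U)).hom

theorem bijective_res₀ : Function.Bijective (res₀ U M) := by
  have e : U.ι ⁻¹ᵁ ⊤ = U.ι ⁻¹ᵁ U := by
    ext x; exact ⟨fun _ => x.2, fun _ => trivial⟩
  haveI : IsIso ((Opens.map U.ι.base).map (homOfLE (le_top : U ≤ ⊤))) :=
    ⟨homOfLE e.le, Subsingleton.elim _ _, Subsingleton.elim _ _⟩
  exact ConcreteCategory.bijective_of_isIso
    (((tR U).obj (ModuleCat.of A M)).presheaf.map ((Opens.map U.ι.base).map (homOfLE (le_top : U ≤ ⊤))).op)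

theorem bijective_unit₀ : Function.Bijective (unit₀ U M) := by
  have e : U.ι ''ᵁ (U.ι ⁻¹ᵁ U) = U := by
    ext x
    exact ⟨fun ⟨y, _, hy⟩ => hy ▸ y.2, fun hx => ⟨⟨x, hx⟩, hx, rfl⟩⟩
  haveI : IsIso (homOfLE (U.ι.image_preimage_le U)) :=
    ⟨homOfLE e.ge, Subsingleton.elim _ _, Subsingleton.elim _ _⟩
  exact ConcreteCategory.bijective_of_isIso
    ((tilde (R := CommRingCat.of A) (ModuleCat.of A M)).presheaf.map (homOfLE (U.ι.image_preimage_le U)).op)

/-- Sections over the open are sections of the restriction. -/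
def χ : Sec M U ≃ₗ[A] ↑((ΓU U).obj ((tR U).obj (ModuleCat.of A M))) :=
  (LinearEquiv.ofBijective (unit₀ U M) (bijective_unit₀ U M)).trans
    (LinearEquiv.ofBijective (res₀ U M) (bijective_res₀ U M)).symm

/-- The unit. -/
def υ : M →ₗ[A] ↑((ΓU U).obj ((tR U).obj (ModuleCat.of A M))) :=
  ((tRadj U).unit.app (ModuleCat.of A M)).hom

theorem χ_ε (m : M) : χ U M (ε M U m) = υ U M m := by
  refine (LinearEquiv.ofBijective (res₀ U M) (bijective_res₀ U M)).injective ?_
  refine ((LinearEquiv.ofBijective (res₀ U M) (bijective_res₀ U M)).apply_symm_apply _).trans ?_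
  have hυ : υ U M m = ((modulesSpecToSheaf.map ((Scheme.Modules.restrictAdjunction U.ι).unit.app
      (tilde (R := CommRingCat.of A) (ModuleCat.of A M)))).1.app (op ⊤)).hom (ε M (⊤ : (Sp A).Opens) m) := by
    show ((tRadj U).unit.app (ModuleCat.of A M)).hom m = _
    rw [tRadj, Adjunction.comp_unit_app]
    rfl
  show unit₀ U M (ε M U m) = res₀ U M (υ U M m)
  rw [hυ, ← rs_ε (M := M) (le_top : U ≤ ⊤) m]
  exact congr($((modulesSpecToSheaf.map ((Scheme.Modules.restrictAdjunction U.ι).unit.app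
      (tilde (R := CommRingCat.of A) (ModuleCat.of A M)))).1.naturality (homOfLE (le_top : U ≤ ⊤)).op).hom (ε M (⊤ : (Sp A).Opens) m))

variable {M} {N : Type u} [AddCommGroup N] [Module A N]

theorem υ_natural (φ : M →ₗ[A] N) (m : M) :
    ((ΓU U).map ((tR U).map (ModuleCat.ofHom φ))).hom (υ U M m) = υ U N (φ m) :=
  congr($((tRadj U).unit.naturality (ModuleCat.ofHom φ)).hom m).symm

/-- A linear map into a bundled module. -/
abbrev homTo {Y : ModuleCat.{u} A} (φ : M →ₗ[A] Y) : ModuleCat.of A M ⟶ Y := ModuleCat.ofHom φ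

/-- Maps to sections from maps of sheaves. -/
def adjL {G : (U : Scheme.{u}).Modules} (g : (tR U).obj (ModuleCat.of A M) ⟶ G) :
    M →ₗ[A] ↑((ΓU U).obj G) :=
  ((tRadj U).homEquiv _ _ g).hom

theorem adjL_eq {G : (U : Scheme.{u}).Modules} (g : (tR U).obj (ModuleCat.of A M) ⟶ G) (m : M) :
    adjL U g m = ((ΓU U).map g).hom (υ U M m) :=
  congr(($((tRadj U).homEquiv_unit (f := g))).hom m)

/-- Sheaf maps from maps to sections. -/
def adjR {G : (U : Scheme.{u}).Modules} (φ : M →ₗ[A] ↑((ΓU U).obj G)) : (tR U).obj (ModuleCat.of A M) ⟶ G :=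
  ((tRadj U).homEquiv (ModuleCat.of A M) G).symm (homTo φ)

theorem adjR_eq {G : (U : Scheme.{u}).Modules} (φ : M →ₗ[A] ↑((ΓU U).obj G)) :
    adjR U φ = (tR U).map (homTo φ) ≫ (tRadj U).counit.app G :=
  (tRadj U).homEquiv_counit _ _ _

theorem adjL_adjR {G : (U : Scheme.{u}).Modules} (φ : M →ₗ[A] ↑((ΓU U).obj G)) :
    adjL U (adjR U φ) = φ :=
  congrArg ModuleCat.Hom.hom (((tRadj U).homEquiv (ModuleCat.of A M) G).apply_symm_apply (homTo φ))

end Groth.Agent.PuncSecLib
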