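import Groth.Agent.PuncSecLib.SectLim

/-!
# Canonical extensions and Mittag-Leffler systems of sections
-/

set_option autoImplicit false
set_option linter.style.haveILetI false
set_option backward.isDefEq.respectTransparency.types false
set_option linter.unusedSectionVars false
set_option maxHeartbeats 1000000

universe u v w v' w'

open CategoryTheory CategoryTheory.Limits AlgebraicGeometry TopologicalSpace Opposite

noncomputable section

namespace Groth.Agent.PuncSecLib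

set_option backward.isDefEq.respectTransparency false in
theorem isProIsomorphic_map {C : Type w} [Category.{v} C] {D : Type w'} [Category.{v'} D] {X Y : ℕᵒᵖ ⥤ C}
    {X' Y' : ℕᵒᵖ ⥤ D} (F : C ⥤ D) (e : X ⋙ F ≅ X') (e' : Y ⋙ F ≅ Y') (h : Algz.IsProIsomorphic X Y) :
    Algz.IsProIsomorphic X' Y' := by
  obtain ⟨m, hm, hle, a, ha⟩ := h
  let η : DerCA.reindex X' hm ⟶ DerCA.reindex X hm ⋙ F :=
    { app := fun x => e.inv.app (op (m x.unop))
      naturality := fun x y f => e.inv.naturality ((Monotone.functor hm).op.map f) }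
  refine ⟨m, hm, hle, η ≫ Functor.whiskerRight a F ≫ e'.hom, fun n => ?_⟩
  obtain ⟨k, hk, b, hb₁, hb₂⟩ := ha n
  refine ⟨k, hk, e'.inv.app (op k) ≫ F.map b ≫ e.hom.app (op (m n)), ?_, ?_⟩
  · show (e.inv.app (op (m k)) ≫ F.map (a.app (op k)) ≫ e'.hom.app (op k)) ≫ _ = _
    simp only [Category.assoc]
    rw [e'.hom_inv_id_app_assoc, ← F.map_comp_assoc, hb₁]
    refine ((e.inv.app _ ≫= e.hom.naturality ((Monotone.functor hm).op.map (homOfLE hk).op)).trans ?_)
    rw [← Category.assoc, e.inv_hom_id_app, Category.id_comp]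
    rfl
  · show (e'.inv.app (op k) ≫ F.map b ≫ e.hom.app (op (m n))) ≫
      e.inv.app (op (m n)) ≫ F.map (a.app (op n)) ≫ e'.hom.app (op n) = _
    simp only [Category.assoc]
    rw [e.hom_inv_id_app_assoc, ← F.map_comp_assoc, hb₂]
    refine ((e'.inv.app _ ≫= e'.hom.naturality (homOfLE hk).op).trans ?_)
    rw [← Category.assoc, e'.inv_hom_id_app, Category.id_comp]

variable {A : Type u} [CommRing A] [IsNoetherianRing A] {𝔞 I : Ideal A}
  {G : ℕᵒᵖ ⥤ (LocCoh.puncturedOpen A 𝔞 : Scheme.{u}).Modules}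

local notation "𝐔" => LocCoh.puncturedOpen A 𝔞
local notation "𝐓" => LocCoh.puncturedOpen A (⊤ : Ideal A)

theorem cokTors_limit_π (hG : Formal.IsCohFormal I G) (hML : ARSys.IsML (Algz.sectMod A 𝐔 G)) (n : ℕ) :
    CokTors 𝔞 (limit.π (Algz.sectMod A 𝐔 G) (op n)).hom := by
  refine cokTors_of_loc fun y p hp => ?_
  obtain ⟨r, hr⟩ := stable_shift hML n
  obtain ⟨s, hs, x, hx⟩ := exists_loc_lift hG (le_max_right r n) y p hp
  have hst : Stable (Algz.sectMod A 𝐔 G) n (s • y) :=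
    Eq.subst (motive := fun z => Stable (Algz.sectMod A 𝐔 G) n z) hx (hr _ _ (le_max_left r n) x)
  obtain ⟨ξ, hξ⟩ := exists_limit_lift (stable_shift hML) n _ hst
  exact ⟨s, hs, ξ, hξ⟩

theorem epi_fromLimitSections (hG : Formal.IsCohFormal I G) (hML : ARSys.IsML (Algz.sectMod A 𝐔 G)) (n : ℕ) :
    Epi (((tRadj 𝐔).homEquiv (limit (Algz.sectMod A 𝐔 G)) (G.obj (op n))).symm
      (limit.π (Algz.sectMod A 𝐔 G) (op n))) := by
  rw [Adjunction.homEquiv_counit]
  haveI := isIso_counit 𝐔 (G.obj (op n)) (hG.1 n).1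
  let π' : ↑(limit (Algz.sectMod A 𝐔 G)) →ₗ[A] Γp 𝔞 (G.obj (op n)) := (limit.π (Algz.sectMod A 𝐔 G) (op n)).hom
  exact @epi_comp _ _ _ _ _ _ (epi_tR (φ := π') (cokTors_limit_π hG hML n)) _ inferInstance

/-- The comparison of sections on the whole spectrum and on the open of the unit ideal. -/
theorem bijective_unitTop (M : (Sp A).Modules) :
    Function.Bijective ((moduleSpecΓFunctor (R := CommRingCat.of A)).map
      ((Scheme.Modules.restrictAdjunction (LocCoh.puncturedOpen A (⊤ : Ideal A)).ι).unit.app M)).hom := by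
  have e : (LocCoh.puncturedOpen A (⊤ : Ideal A)).ι ''ᵁ
      ((LocCoh.puncturedOpen A (⊤ : Ideal A)).ι ⁻¹ᵁ ⊤) = ⊤ := by
    ext x
    exact ⟨fun _ => trivial, fun _ => ⟨⟨x, fun hc => x.2.ne_top (top_le_iff.1 hc)⟩, trivial, rfl⟩⟩
  haveI : IsIso (homOfLE ((LocCoh.puncturedOpen A (⊤ : Ideal A)).ι.image_preimage_le ⊤)) :=
    ⟨homOfLE e.ge, Subsingleton.elim _ _, Subsingleton.elim _ _⟩
  exact ConcreteCategory.bijective_of_isIso
    (M.presheaf.map (homOfLE ((LocCoh.puncturedOpen A (⊤ : Ideal A)).ι.image_preimage_le ⊤)).op)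

variable {G' : ℕᵒᵖ ⥤ (Spec (CommRingCat.of A)).Modules}

/-- The sections of an extension. -/
abbrev extSys (G' : ℕᵒᵖ ⥤ (Spec (CommRingCat.of A)).Modules) : ℕᵒᵖ ⥤ ModuleCat.{u} A :=
  (G' ⋙ Scheme.Modules.pullback (LocCoh.puncturedOpen A (⊤ : Ideal A)).ι) ⋙ ΓU (LocCoh.puncturedOpen A (⊤ : Ideal A))

theorem isProIsomorphic_sectMod (h : Algz.IsProIsomorphic (Algz.sectSys A 𝐔 G) G') :
    Algz.IsProIsomorphic (Algz.sectMod A 𝐔 G) (extSys G') := by
  let u := Functor.whiskerRight (Scheme.Modules.restrictAdjunction (𝐓).ι).unit (moduleSpecΓFunctor (R := CommRingCat.of A))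
  haveI : ∀ M, IsIso (u.app M) := fun M => (ConcreteCategory.isIso_iff_bijective _).2 (bijective_unitTop M)
  haveI : IsIso u := NatIso.isIso_of_isIso_app u
  refine isProIsomorphic_map (moduleSpecΓFunctor (R := CommRingCat.of A)) ?_ ?_ h
  · exact Functor.associator _ _ _ ≪≫ Functor.isoWhiskerLeft (Algz.sectMod A 𝐔 G)
      (tilde.toTildeΓNatIso (R := CommRingCat.of A)).symm ≪≫ Functor.rightUnitor _
  · exact Functor.isoWhiskerLeft G' (asIso u) ≪≫
      Functor.isoWhiskerLeft G' (Functor.isoWhiskerRight (Functor.isoWhiskerRight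
        (Scheme.Modules.restrictFunctorIsoPullback (𝐓).ι) (Scheme.Modules.pushforward (𝐓).ι))
          (moduleSpecΓFunctor (R := CommRingCat.of A)))

theorem extSys_adic (hG' : @Formal.IsCohFormal A _ (Spec (CommRingCat.of A)) ⟨𝟙 (Spec (CommRingCat.of A))⟩ I G') :
    (∀ {i j : ℕ} (h : i ≤ j), Function.Surjective (eTr (extSys G') h)) ∧
    (∀ i, LinearMap.ker (eTr (extSys G') (Nat.le_succ i)) ≤
      I ^ (i + 1) • (⊤ : Submodule A ((extSys G').obj (op (i + 1))))) ∧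
    (∀ i, I ^ (i + 1) • (⊤ : Submodule A ((extSys G').obj (op i))) = ⊥) := by
  letI : (Spec (CommRingCat.of A)).Over (Spec (CommRingCat.of A)) := ⟨𝟙 _⟩
  haveI : IsNoetherianRing (CommRingCat.of A : Type u) := inferInstanceAs (IsNoetherianRing A)
  haveI : AlgebraicGeometry.IsNoetherian (Spec (CommRingCat.of A)) := inferInstance
  haveI : AlgebraicGeometry.IsNoetherian ((𝐓 : (Sp A).Opens) : Scheme.{u}) := by
    haveI : IsLocallyNoetherian ((𝐓 : (Sp A).Opens) : Scheme.{u}) := isLocallyNoetherian_of_isOpenImmersion (𝐓).ι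
    haveI : CompactSpace ((𝐓 : (Sp A).Opens) : Scheme.{u}) :=
      isCompact_iff_compactSpace.1 (TopologicalSpace.NoetherianSpace.isCompact _)
    exact {}
  let G'' := G' ⋙ Scheme.Modules.pullback (𝐓).ι
  have hG'' : Formal.IsCohFormal I G'' := FormalSys.isCohFormal_pullback (𝐓).ι (Category.comp_id _) hG'
  have hsurjυ : ∀ {P : Type u} [AddCommGroup P] [Module A P] {Q : Type u} [AddCommGroup Q] [Module A Q] {φ : P →ₗ[A] Q},
      CokTors (⊤ : Ideal A) φ → Function.Surjective φ := fun {P} _ _ {Q} _ _ {φ} hφ y => by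
    obtain ⟨k, hk⟩ := hφ y
    obtain ⟨x, hx⟩ := hk 1 (by rw [Ideal.top_pow]; trivial)
    exact ⟨x, hx.trans (one_smul A y)⟩
  refine ⟨fun {i j} h => ?_, fun i y hy => ?_, fun i => eq_bot_iff.2 (Submodule.smul_le.2 fun a ha z _ =>
    (Submodule.mem_bot A).2 (smul_eq_zero_of_mem hG'' i ha z))⟩
  · induction j, h using Nat.le_induction with
    | base => exact fun z => ⟨z, eTr_self _ z⟩
    | succ j h ih =>
      intro z
      obtain ⟨y, rfl⟩ := ih z
      obtain ⟨x, rfl⟩ := hsurjυ (cokTors_tS hG'' j) y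
      exact ⟨x, (eTr_eTr (X := extSys G') h (Nat.le_succ j) x).symm⟩
  · obtain ⟨Θ, hΘ⟩ := exists_level_iso' hG'' i
    let e := ((ΓU 𝐓).mapIso Θ).toLinearEquiv
    have h0 : υ 𝐓 _ (Submodule.Quotient.mk y) = 0 :=
      e.injective (((hΘ y).trans hy).trans (map_zero e).symm)
    obtain ⟨k, hk⟩ := (υ_eq_zero_iff (𝔞 := (⊤ : Ideal A)) _).1 h0
    exact (Submodule.Quotient.mk_eq_zero _).1 ((one_smul A _).symm.trans (hk 1 (by rw [Ideal.top_pow]; trivial)))

theorem isML_of_canonicallyExtends (h : Algz.CanonicallyExtends A I 𝐔 G) : ARSys.IsML (Algz.sectMod A 𝐔 G) := by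
  obtain ⟨G', hG', h⟩ := h
  exact isML_of_proIso (extSys_adic hG').1 (isProIsomorphic_sectMod h)

theorem ker_limit_le (h : Algz.CanonicallyExtends A I 𝐔 G) (k : ℕ) :
    ∃ n : ℕ, LinearMap.ker (limit.π (Algz.sectMod A 𝐔 G) (op n)).hom ≤
      I ^ k • (⊤ : Submodule A ↑(limit (Algz.sectMod A 𝐔 G))) := by
  obtain ⟨G', hG', h⟩ := h
  obtain ⟨hsurj, hker, hkill⟩ := extSys_adic hG'
  obtain ⟨P⟩ := nonempty_eProIso (isProIsomorphic_sectMod h)
  let X := Algz.sectMod A 𝐔 G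
  let Y := extSys G'
  let Φ : ↑(limit X) →ₗ[A] eLim Y := LinearMap.codRestrict _
    (LinearMap.pi fun n => (P.a n).comp (limit.π X (op (P.m n))).hom) fun ξ n =>
      (P.a_nat (Nat.le_succ n) _).trans (congrArg (P.a n) (limit_elt_tr ξ _))
  have hΦb : ∀ ξ n, P.b n ((Φ ξ).1 (P.k n)) = (limit.π X (op (P.m n))).hom ξ := fun ξ n =>
    (P.b_a n _).trans (limit_elt_tr ξ _)
  have hinj : Function.Injective Φ := fun ξ ξ' e => limit_elt_ext ξ ξ' fun n => by
    rw [← limit_elt_tr ξ (P.le n), ← limit_elt_tr ξ' (P.le n), ← hΦb, ← hΦb, e]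
  have hsurjΦ : Function.Surjective Φ := fun y => by
    have hb : ∀ {i j} (hij : i ≤ j) (K : ℕ) (hK : P.k i ≤ K) (hK' : P.k j ≤ K),
        eTr X (P.mono hij) (P.b j (y.1 (P.k j))) = P.b i (y.1 (P.k i)) := by
      intro i j hij K hK hK'
      have e : ∀ l (hl : P.k l ≤ K),
          P.b l (y.1 (P.k l)) = eTr X (P.mono ((P.le_k l).trans hl)) (P.b K (y.1 (P.k K))) := fun l hl => by
        have e₁ : P.a (P.k l) (eTr X (P.mono hl) (P.b K (y.1 (P.k K)))) = y.1 (P.k l) := by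
          rw [← P.a_nat hl, P.a_b, eTr_eTr, eLim_tr]
        rw [← e₁, P.b_a, eTr_eTr]
      rw [e i hK, e j hK', eTr_eTr]
    obtain ⟨ξ, hξ⟩ := exists_limit_elt (X := X) (fun n => eTr X (P.le n) (P.b n (y.1 (P.k n)))) fun n => by
      show eTr X _ (eTr X _ _) = eTr X _ _
      rw [eTr_eTr, ← hb (Nat.le_succ n) (max (P.k n) (P.k (n + 1))) (le_max_left _ _) (le_max_right _ _), eTr_eTr]
    refine ⟨ξ, Subtype.ext (funext fun n => ?_)⟩
    show P.a n ((limit.π X (op (P.m n))).hom ξ) = y.1 n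
    rw [hξ]
    exact (congrArg (P.a n) (hb (P.le n) _ (le_max_left (P.k n) (P.k (P.m n))) (le_max_right _ _))).trans
      ((P.a_b n _).trans (eLim_tr y _))
  let e := LinearEquiv.ofBijective Φ ⟨hinj, hsurjΦ⟩
  refine ⟨P.m (P.k k), fun ξ hξ => ?_⟩
  have h0 : (Φ ξ).1 k = 0 := by
    have h1 : (Φ ξ).1 (P.k k) = 0 := by
      show P.a (P.k k) ((limit.π X (op (P.m (P.k k)))).hom ξ) = 0
      exact (congrArg (P.a (P.k k)) hξ).trans (map_zero _)
    rw [← eLim_tr (Φ ξ) (P.le_k k), h1, map_zero]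
  have hmem := ker_eLim_le hsurj k (IsNoetherian.noetherian _) hkill hker (Φ ξ) h0
  have hmem' : e ξ ∈ Submodule.map e.toLinearMap (I ^ (k + 1) • (⊤ : Submodule A ↑(limit X))) := by
    rw [Submodule.map_smul'', Submodule.map_top, LinearMap.range_eq_top.2 e.surjective]
    exact hmem
  obtain ⟨ξ', hξ', he⟩ := Submodule.mem_map.1 hmem'
  rw [e.injective he] at hξ'
  exact Submodule.smul_mono_left (Ideal.pow_le_pow_right (Nat.le_succ k)) hξ'

end Groth.Agent.PuncSecLib
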