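import Groth.Agent.PuncSecLib.SectMod

/-!
# Mittag-Leffler limits, pro-isomorphisms of systems of modules
-/

set_option autoImplicit false
set_option linter.style.haveILetI false
set_option backward.isDefEq.respectTransparency.types false
set_option linter.unusedSectionVars false
set_option maxHeartbeats 1000000

universe u v w

open CategoryTheory CategoryTheory.Limits AlgebraicGeometry TopologicalSpace Opposite

noncomputable section

namespace Groth.Agent.PuncSecLib

section Modules

variable {A : Type u} [CommRing A] {X Y : ℕᵒᵖ ⥤ ModuleCat.{u} A}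

/-- The transition map on elements. -/
abbrev eTr (X : ℕᵒᵖ ⥤ ModuleCat.{u} A) {i j : ℕ} (h : i ≤ j) : ↑(X.obj (op j)) →ₗ[A] ↑(X.obj (op i)) :=
  (X.map (homOfLE h).op).hom

theorem eTr_self {i : ℕ} (h : i ≤ i) (x : X.obj (op i)) : eTr X h x = x := by
  show (X.map (𝟙 (op i))).hom x = x
  rw [X.map_id]; rfl

theorem eTr_eTr {i j k : ℕ} (h : i ≤ j) (h' : j ≤ k) (x : X.obj (op k)) :
    eTr X h (eTr X h' x) = eTr X (h.trans h') x :=
  congr(($((X.map_comp (homOfLE h').op (homOfLE h).op))).hom x).symm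

/-- An element of the limit from a compatible sequence. -/
theorem exists_limit_elt (x : ∀ n, X.obj (op n)) (hx : ∀ n, eTr X (Nat.le_succ n) (x (n + 1)) = x n) :
    ∃ z : ↑(limit X), ∀ n, (limit.π X (op n)).hom z = x n := by
  have hall : ∀ {i j : ℕ} (h : i ≤ j), eTr X h (x j) = x i := fun {i j} h => by
    induction j, h using Nat.le_induction with
    | base => exact eTr_self _ _
    | succ j h ih => rw [← eTr_eTr h (Nat.le_succ j), hx, ih]
  let c : Cone X :=
    { pt := ModuleCat.of A A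
      π := { app := fun m => ModuleCat.ofHom (LinearMap.toSpanSingleton A _ (x m.unop))
             naturality := fun i j f => ModuleCat.hom_ext (LinearMap.ext_ring (by
              show (1 : A) • x j.unop = (X.map f).hom ((1 : A) • x i.unop)
              rw [one_smul, one_smul, Subsingleton.elim f (homOfLE (leOfHom f.unop)).op]
              exact (hall (leOfHom f.unop)).symm)) } }
  refine ⟨(limit.lift X c).hom (1 : A), fun n => ?_⟩
  exact (congr(($(limit.lift_π c (op n))).hom (1 : A))).trans (one_smul A _)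

theorem limit_elt_tr (z : ↑(limit X)) {i j : ℕ} (h : i ≤ j) :
    eTr X h ((limit.π X (op j)).hom z) = (limit.π X (op i)).hom z :=
  congr(($(limit.w X (homOfLE h).op)).hom z)

theorem limit_elt_ext (z z' : ↑(limit X)) (h : ∀ n, (limit.π X (op n)).hom z = (limit.π X (op n)).hom z') :
    z = z' :=
  Concrete.limit_ext X z z' fun m => h m.unop

/-- The stable images. -/
def Stable (X : ℕᵒᵖ ⥤ ModuleCat.{u} A) (n : ℕ) (z : X.obj (op n)) : Prop :=
  ∀ m (h : n ≤ m), z ∈ LinearMap.range (eTr X h)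

theorem exists_limit_lift (hML : ∀ n, ∃ r, ∀ m (h : n ≤ m), r ≤ m → ∀ x, Stable X n (eTr X h x))
    (n : ℕ) (z : X.obj (op n)) (hz : Stable X n z) : ∃ ξ : ↑(limit X), (limit.π X (op n)).hom ξ = z := by
  have step : ∀ i (y : {y // Stable X (n + i) y}), ∃ y' : {y // Stable X (n + i + 1) y},
      eTr X (Nat.le_succ _) y'.1 = y.1 := fun i y => by
    obtain ⟨r, hr⟩ := hML (n + i + 1)
    obtain ⟨x, hx⟩ := y.2 (max r (n + i + 1)) ((Nat.le_succ _).trans (le_max_right _ _))
    exact ⟨⟨eTr X (le_max_right r (n + i + 1)) x, hr _ _ (le_max_left _ _) x⟩, (eTr_eTr _ _ x).trans hx⟩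
  choose g hg using step
  let y : ∀ i, {y // Stable X (n + i) y} := fun i => Nat.rec ⟨z, hz⟩ g i
  obtain ⟨ξ, hξ⟩ := exists_limit_elt (X := X) (fun m => eTr X (Nat.le_add_left m n) (y m).1) fun m => by
    rw [eTr_eTr, ← hg m (y m), eTr_eTr]

  exact ⟨ξ, (hξ n).trans (by
    have hall : ∀ i, eTr X (Nat.le_add_right n i) (y i).1 = z := fun i => by
      induction i with
      | zero => exact eTr_self _ _
      | succ i ih => rw [← eTr_eTr (Nat.le_add_right n i) (Nat.le_succ _), hg i (y i), ih]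
    exact hall n)⟩

theorem stable_shift (hML : ARSys.IsML X) (n : ℕ) :
    ∃ r, ∀ m (h : n ≤ m), r ≤ m → ∀ x, Stable X n (eTr X h x) := by
  obtain ⟨r, hr⟩ := hML n
  refine ⟨n + r, fun m h hm x k hk => ?_⟩
  have key : ∀ s, r ≤ s → LinearMap.range (eTr X (Nat.le_add_right n s)) = LinearMap.range (eTr X (Nat.le_add_right n r)) := by
    intro s hs
    have e : ∀ {P Q : ModuleCat.{u} A} (f : P ⟶ Q),
        ModuleCat.subobjectModule Q (imageSubobject f) = LinearMap.range f.hom := fun f => by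
      show LinearMap.range (imageSubobject f).arrow.hom = _
      conv_rhs => rw [← imageSubobject_arrow_comp f]
      rw [ModuleCat.hom_comp, LinearMap.range_comp_of_range_eq_top]
      exact LinearMap.range_eq_top.2 ((ModuleCat.epi_iff_surjective _).1 inferInstance)
    exact (e _).symm.trans ((congrArg (ModuleCat.subobjectModule _) (hr s hs)).trans (e _))
  have h₁ : eTr X h x ∈ LinearMap.range (eTr X (Nat.le_add_right n (m - n))) := by
    obtain ⟨s, rfl⟩ := Nat.exists_eq_add_of_le h
    exact ⟨eTr X (by omega : n + (n + s - n) ≤ n + s) x, eTr_eTr _ _ x⟩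
  rw [key _ (by omega), ← key (max r (k - n)) (le_max_left _ _)] at h₁
  obtain ⟨w, hw⟩ := h₁
  exact ⟨eTr X (by omega : k ≤ n + max r (k - n)) w, (eTr_eTr _ _ w).trans hw⟩

/-- A pro-isomorphism, on elements. -/
structure EProIso (X Y : ℕᵒᵖ ⥤ ModuleCat.{u} A) where
  m : ℕ → ℕ
  mono : Monotone m
  le : ∀ n, n ≤ m n
  a : ∀ n, ↑(X.obj (op (m n))) →ₗ[A] ↑(Y.obj (op n))
  a_nat : ∀ {i j} (h : i ≤ j) x, eTr Y h (a j x) = a i (eTr X (mono h) x)
  k : ℕ → ℕ
  le_k : ∀ n, n ≤ k n
  b : ∀ n, ↑(Y.obj (op (k n))) →ₗ[A] ↑(X.obj (op (m n)))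
  a_b : ∀ n y, a n (b n y) = eTr Y (le_k n) y
  b_a : ∀ n x, b n (a (k n) x) = eTr X (mono (le_k n)) x

theorem nonempty_eProIso (h : Algz.IsProIsomorphic X Y) : Nonempty (EProIso X Y) := by
  obtain ⟨m, hm, hle, a, ha⟩ := h
  choose k hk b hb₁ hb₂ using ha
  exact ⟨{ m := m, mono := hm, le := hle, a := fun n => (a.app (op n)).hom
           a_nat := fun h x => congr(($(a.naturality (homOfLE h).op)).hom x).symm
           k := k, le_k := hk, b := fun n => (b n).hom
           a_b := fun n y => congr(($(hb₂ n)).hom y)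
           b_a := fun n x => congr(($(hb₁ n)).hom x) }⟩

variable (hY : ∀ {i j : ℕ} (h : i ≤ j), Function.Surjective (eTr Y h))

include hY in
theorem EProIso.range_eTr (P : EProIso X Y) (n j : ℕ) (hj : P.m (P.k n) ≤ j) (h : n ≤ j) :
    LinearMap.range (eTr X h) = LinearMap.range ((eTr X (P.le n)).comp (P.b n)) := by
  refine le_antisymm ?_ ?_
  · rintro _ ⟨x, rfl⟩
    exact ⟨P.a (P.k n) (eTr X hj x), by rw [LinearMap.comp_apply, P.b_a, eTr_eTr, eTr_eTr]⟩
  · rintro _ ⟨y, rfl⟩
    have hkj : P.k n ≤ j := (P.le _).trans hj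
    obtain ⟨y', hy'⟩ := hY (hkj.trans (P.le_k j)) y
    refine ⟨eTr X (P.le j) (P.b j y'), ?_⟩
    rw [LinearMap.comp_apply, eTr_eTr]
    have e : P.a (P.k n) (eTr X (P.mono hkj) (P.b j y')) = y := by
      rw [← P.a_nat hkj, P.a_b, eTr_eTr]; exact hy'
    rw [← e, P.b_a, eTr_eTr, eTr_eTr]

include hY in
theorem isML_of_proIso [IsNoetherianRing A] (h : Algz.IsProIsomorphic X Y) : ARSys.IsML X := by
  obtain ⟨P⟩ := nonempty_eProIso h
  refine isML_aux fun n => ⟨P.m (P.k n), fun s hs => ?_⟩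
  exact (P.range_eTr hY n (n + s) (le_add_left hs) (Nat.le_add_right n s)).trans
    (P.range_eTr hY n (n + P.m (P.k n)) (Nat.le_add_left _ _) (Nat.le_add_right n _)).symm

/-- Compatible sequences. -/
def eLim (Y : ℕᵒᵖ ⥤ ModuleCat.{u} A) : Submodule A (∀ n, Y.obj (op n)) where
  carrier := {y | ∀ n, eTr Y (Nat.le_succ n) (y (n + 1)) = y n}
  zero_mem' := fun n => map_zero _
  add_mem' := fun {x y} hx hy n => by simp only [Pi.add_apply, map_add, hx n, hy n]
  smul_mem' := fun a x hx n => by simp only [Pi.smul_apply, map_smul, hx n]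

theorem eLim_tr (y : eLim Y) {i j : ℕ} (h : i ≤ j) : eTr Y h (y.1 j) = y.1 i := by
  induction j, h using Nat.le_induction with
  | base => exact eTr_self _ _
  | succ j h ih => rw [← eTr_eTr h (Nat.le_succ j), y.2 j, ih]

include hY in
theorem exists_eLim_lift (n : ℕ) (z : Y.obj (op n)) : ∃ y : eLim Y, y.1 n = z := by
  choose g hg using fun i => hY (Nat.le_succ (n + i))
  let y : ∀ i, Y.obj (op (n + i)) := fun i => Nat.rec z g i
  have hall : ∀ i, eTr Y (Nat.le_add_right n i) (y i) = z := fun i => by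
    induction i with
    | zero => exact eTr_self _ _
    | succ i ih => rw [← eTr_eTr (Nat.le_add_right n i) (Nat.le_succ _), hg i (y i), ih]
  refine ⟨⟨fun m => eTr Y (Nat.le_add_left m n) (y m), fun m => ?_⟩, hall n⟩
  show eTr Y _ (eTr Y _ (y (m + 1))) = eTr Y _ (y m)
  rw [eTr_eTr, ← hg m (y m), eTr_eTr]


include hY in
/-- The kernels of a complete adic system are the powers of the ideal. -/
theorem ker_eLim_le {I : Ideal A} (n : ℕ) (hI : (I ^ (n + 1)).FG)
    (hkill : ∀ i, I ^ (i + 1) • (⊤ : Submodule A (Y.obj (op i))) = ⊥)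
    (hker : ∀ i, LinearMap.ker (eTr Y (Nat.le_succ i)) ≤ I ^ (i + 1) • (⊤ : Submodule A (Y.obj (op (i + 1)))))
    (y : eLim Y) (hy : y.1 n = 0) : y ∈ I ^ (n + 1) • (⊤ : Submodule A (eLim Y)) := by
  obtain ⟨r, a, ha⟩ := Submodule.fg_iff_exists_fin_generating_family.1 hI
  have hai : ∀ j, a j ∈ I ^ (n + 1) := fun j => by rw [← ha]; exact Submodule.subset_span ⟨j, rfl⟩
  let π : ∀ i, eLim Y →ₗ[A] Y.obj (op i) := fun i => (LinearMap.proj i).comp (eLim Y).subtype
  have hπ : ∀ i, Function.Surjective (π i) := fun i z => exists_eLim_lift hY i z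
  -- the step of the approximation
  have step : ∀ (i : ℕ) (v : eLim Y), π (n + i) v = 0 → ∃ w : Fin r → eLim Y,
      (∀ j, w j ∈ I ^ i • (⊤ : Submodule A (eLim Y))) ∧ π (n + i + 1) (v - ∑ j, a j • w j) = 0 := by
    intro i v hv
    have h1 : π (n + i + 1) v ∈ I ^ (n + i + 1) • (⊤ : Submodule A (Y.obj (op (n + i + 1)))) :=
      hker (n + i) (LinearMap.mem_ker.2 ((v.2 (n + i)).trans hv))
    have h2 : I ^ (n + i + 1) = I ^ (n + 1) * I ^ i := by rw [← pow_add]; congr 1; omega
    rw [h2, ← smul_eq_mul, Submodule.smul_assoc] at h1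
    rw [← ha] at h1
    have hsp : ∀ {N : Submodule A (Y.obj (op (n + i + 1)))} {x}, x ∈ Submodule.span A (Set.range a) • N →
        ∃ c : Fin r → N, ∑ j, a j • (c j : Y.obj (op (n + i + 1))) = x := fun {N} {x} hx => by
      refine Submodule.smul_induction_on hx (fun q hq v hv => ?_) (fun x x' hx hx' => ?_)
      · obtain ⟨e, rfl⟩ := (Submodule.mem_span_range_iff_exists_fun A).1 hq
        refine ⟨fun j => e j • ⟨v, hv⟩, ?_⟩
        rw [Finset.sum_smul]
        exact Finset.sum_congr rfl fun j _ => (smul_smul _ _ _).trans (by rw [smul_eq_mul, mul_comm])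
      · obtain ⟨c, rfl⟩ := hx
        obtain ⟨c', rfl⟩ := hx'
        exact ⟨c + c', by simp only [Pi.add_apply, Submodule.coe_add, smul_add, Finset.sum_add_distrib]⟩
    obtain ⟨c, hc⟩ := hsp h1
    have hmap : Submodule.map (π (n + i + 1)) (I ^ i • (⊤ : Submodule A (eLim Y))) =
        I ^ i • (⊤ : Submodule A (Y.obj (op (n + i + 1)))) := by
      rw [Submodule.map_smul'', Submodule.map_top, LinearMap.range_eq_top.2 (hπ _)]
    choose w hw hw' using fun j => Submodule.mem_map.1 (hmap.ge (c j).2)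
    refine ⟨w, hw, ?_⟩
    rw [map_sub, map_sum, sub_eq_zero]
    refine Eq.trans hc.symm (Finset.sum_congr rfl fun j _ => ?_)
    rw [map_smul, hw' j]
  -- the residuals
  choose W hW hW' using step
  let V : ∀ i, {v : eLim Y // π (n + i) v = 0} := fun i =>
    Nat.rec (motive := fun i => {v : eLim Y // π (n + i) v = 0}) ⟨y, hy⟩
      (fun i v => ⟨v.1 - ∑ j, a j • W i v.1 v.2 j, hW' i v.1 v.2⟩) i
  let w : ℕ → Fin r → eLim Y := fun i => W i (V i).1 (V i).2
  have hV : ∀ i, (V i).1 + ∑ t ∈ Finset.range i, ∑ j, a j • w t j = y := fun i => by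
    induction i with
    | zero => simp [V]
    | succ i ih =>
      rw [Finset.sum_range_succ, show (V (i + 1)).1 = (V i).1 - ∑ j, a j • w i j from rfl]
      refine Eq.trans ?_ ih
      abel
  have hsmall : ∀ t m, m < t → ∀ j, π m (w t j) = 0 := fun t m hmt j => by
    have : π m (w t j) ∈ I ^ t • (⊤ : Submodule A (Y.obj (op m))) :=
      (Submodule.map_smul'' (I ^ t) (⊤ : Submodule A (eLim Y)) (π m)).le.trans
        (Submodule.smul_mono le_rfl le_top) (Submodule.mem_map_of_mem (hW t _ _ j))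
    have h2 := Submodule.smul_mono (Ideal.pow_le_pow_right hmt) (le_refl (⊤ : Submodule A (Y.obj (op m)))) this
    rwa [hkill m, Submodule.mem_bot] at h2
  let z : Fin r → eLim Y := fun j => ⟨fun m => π m (∑ t ∈ Finset.range (m + 1), w t j), fun m => by
    show eTr Y _ (π (m + 1) (∑ t ∈ Finset.range (m + 1 + 1), w t j)) = _
    refine ((∑ t ∈ Finset.range (m + 1 + 1), w t j).2 m).trans ?_
    show π m (∑ t ∈ Finset.range (m + 1 + 1), w t j) = _
    rw [Finset.sum_range_succ, map_add, hsmall (m + 1) m (Nat.lt_succ_self m) j, add_zero]⟩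
  have hz : y = ∑ j, a j • z j := by
    refine Subtype.ext (funext fun m => ?_)
    show π m y = π m (∑ j, a j • z j)
    have h0 : π m (V (m + 1)).1 = 0 := by
      have := (V (m + 1)).2
      refine ((eLim_tr (V (m + 1)).1 (show m ≤ n + (m + 1) by omega)).symm).trans ?_
      exact (congrArg _ this).trans (map_zero _)
    have h1 : π m y = ∑ t ∈ Finset.range (m + 1), ∑ j, a j • π m (w t j) := by
      refine ((congrArg (π m) (hV (m + 1))).symm.trans (map_add _ _ _)).trans ?_
      rw [h0, zero_add, map_sum]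
      exact Finset.sum_congr rfl fun t _ => by rw [map_sum]; exact Finset.sum_congr rfl fun j _ => map_smul _ _ _
    rw [h1, Finset.sum_comm, map_sum]
    refine Finset.sum_congr rfl fun j _ => ?_
    rw [map_smul, ← Finset.smul_sum]
    exact congrArg (a j • ·) (map_sum (π m) _ _).symm
  rw [hz]
  exact Submodule.sum_mem _ fun j _ => Submodule.smul_mem_smul (hai j) trivial

end Modules

end Groth.Agent.PuncSecLib
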