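import Mathlib
import Groth.Prelude.Def_FEt
import Groth.Agent.PuncSecLib.Reduced

/-! Sections on the punctured spectrum. -/

set_option autoImplicit false
set_option maxHeartbeats 1000000
set_option backward.isDefEq.respectTransparency false
universe u

open CategoryTheory AlgebraicGeometry Opposite TopologicalSpace

namespace Groth.Agent.PuncSecLib

variable (A : Type u) [CommRing A] [IsNoetherianRing A] [IsLocalRing A] [IsReduced A]

theorem exists_nonZeroDivisor_mem
    (hdim : ∀ (m' : Ideal ↥(integralClosure A (FractionRing A))) [m'.IsMaximal],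
      m'.comap (algebraMap A ↥(integralClosure A (FractionRing A))) = IsLocalRing.maximalIdeal A →
        2 ≤ ringKrullDim (Localization.AtPrime m')) :
    ∃ f ∈ IsLocalRing.maximalIdeal A, f ∈ nonZeroDivisors A := by
  classical
  let A' := integralClosure A (FractionRing A)
  have hker : RingHom.ker (algebraMap A A') ≤ IsLocalRing.maximalIdeal A := fun x hx => by
    have h1 : algebraMap A (FractionRing A) x = 0 := congrArg Subtype.val (RingHom.mem_ker.mp hx)
    rw [show x = 0 from IsFractionRing.injective A (FractionRing A) (h1.trans (map_zero _).symm)]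
    exact zero_mem _
  obtain ⟨m', hm'⟩ := Ideal.exists_ideal_over_maximal_of_isIntegral (S := A') (IsLocalRing.maximalIdeal A) hker
  haveI := hm'.1
  have h2 := hdim m' hm'.2
  rw [IsLocalization.AtPrime.ringKrullDim_eq_height m' (Localization.AtPrime m'),
    PrimeSpectrum.height_eq_orderHeight (⟨m', inferInstance⟩ : PrimeSpectrum A')] at h2
  have hmono : StrictMono (fun Q : PrimeSpectrum A' => (⟨Q.asIdeal.comap (algebraMap A A'), Q.isPrime.comap _⟩ : PrimeSpectrum A)) :=
    fun Q Q' h => Ideal.IsIntegral.comap_lt_comap h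
  have h3 := (WithBot.coe_le_coe.mp h2).trans (Order.height_le_height_apply_of_strictMono _ hmono ⟨m', inferInstance⟩)
  simp only [hm'.2] at h3
  by_contra hno
  push Not at hno
  have hsub : (IsLocalRing.maximalIdeal A : Set A) ⊆ ⋃ q ∈ ((minimalPrimes.finite_of_isNoetherianRing A).toFinset : Set (Ideal A)), (q : Set A) := by
    intro x hx
    by_contra hxu
    simp only [Set.Finite.coe_toFinset, Set.mem_iUnion, SetLike.mem_coe, exists_prop, not_exists, not_and] at hxu
    refine hno x hx (mem_nonZeroDivisors_iff_right.mpr fun c hc => ?_)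
    have hmem : c ∈ sInf (minimalPrimes A) := Ideal.mem_sInf.mpr fun {q} hq =>
      (hq.1.1.mem_or_mem (show c * x ∈ q by rw [hc]; exact zero_mem _)).resolve_right (hxu q hq)
    rw [show sInf (minimalPrimes A) = ⊥ from
      (Ideal.sInf_minimalPrimes (I := (⊥ : Ideal A))).trans (nilradical_eq_zero A)] at hmem
    exact hmem
  obtain ⟨q, hq, hle⟩ := (Ideal.subset_union_prime (f := fun i : Ideal A => i) ⊥ ⊥
    fun q hq _ _ => ((Set.Finite.mem_toFinset _).mp hq).1.1).1 hsub
  have hqmin := (Set.Finite.mem_toFinset _).mp hq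
  have h4 : (IsLocalRing.maximalIdeal A).height = 0 := Ideal.height_eq_zero_iff.mpr
    ((IsLocalRing.maximalIdeal.isMaximal A).eq_of_le hqmin.1.1.ne_top hle ▸ hqmin)
  rw [← PrimeSpectrum.height_eq_orderHeight] at h3
  rw [h4] at h3
  exact absurd h3 (by decide)

theorem punctured_sections
    (hdim : ∀ (m' : Ideal ↥(integralClosure A (FractionRing A))) [m'.IsMaximal],
      m'.comap (algebraMap A ↥(integralClosure A (FractionRing A))) = IsLocalRing.maximalIdeal A →
        2 ≤ ringKrullDim (Localization.AtPrime m')) :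
    (((Spec (CommRingCat.of A)).presheaf.map (homOfLE (le_top : FEt.puncturedSpec A ≤ ⊤)).op).hom.comp
        (Scheme.ΓSpecIso (CommRingCat.of A)).inv.hom).IsIntegral ∧
      ∃ φ : ↑((Spec (CommRingCat.of A)).presheaf.obj (op (FEt.puncturedSpec A))) →+* ↥(integralClosure A (FractionRing A)),
        Function.Injective φ ∧
          φ.comp (((Spec (CommRingCat.of A)).presheaf.map (homOfLE (le_top : FEt.puncturedSpec A ≤ ⊤)).op).hom.comp
            (Scheme.ΓSpecIso (CommRingCat.of A)).inv.hom) = algebraMap A ↥(integralClosure A (FractionRing A)) := by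
  let X := Spec (CommRingCat.of A)
  let U := FEt.puncturedSpec A
  let ρ := (X.presheaf.map (homOfLE (le_top : U ≤ ⊤)).op).hom.comp (Scheme.ΓSpecIso (CommRingCat.of A)).inv.hom
  change ρ.IsIntegral ∧ ∃ φ : Γ(X, U) →+* _, Function.Injective φ ∧ φ.comp ρ = _
  let D : A → X.Opens := fun g => PrimeSpectrum.basicOpen g
  have hDU : ∀ g ∈ IsLocalRing.maximalIdeal A, D g ≤ U := fun g hg x hx => by
    simp only [U, FEt.puncturedSpec, SetLike.mem_coe]
    intro h
    obtain rfl : x = IsLocalRing.closedPoint A := h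
    exact hx hg
  let res : ∀ (g : A) (hg : g ∈ IsLocalRing.maximalIdeal A), Γ(X, U) →+* Γ(X, D g) :=
    fun g hg => (X.presheaf.map (homOfLE (hDU g hg)).op).hom
  let al : ∀ g : A, A →+* Γ(X, D g) := fun g =>
    (X.presheaf.map (homOfLE (le_top : D g ≤ ⊤)).op).hom.comp (Scheme.ΓSpecIso (CommRingCat.of A)).inv.hom
  have hmap : ∀ (V W Z : X.Opens) (h1 : W ≤ V) (h2 : Z ≤ W) (x : Γ(X, V)),
      (X.presheaf.map (homOfLE h2).op).hom ((X.presheaf.map (homOfLE h1).op).hom x) =
        (X.presheaf.map (homOfLE (h2.trans h1)).op).hom x := fun V W Z h1 h2 x => by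
    rw [← RingHom.comp_apply, ← CommRingCat.hom_comp, ← Functor.map_comp]
    rfl
  have hres : ∀ (g : A) (hg : g ∈ IsLocalRing.maximalIdeal A) (a : A), res g hg (ρ a) = al g a :=
    fun g hg a => hmap _ _ _ le_top (hDU g hg) _
  letI : ∀ g : A, Algebra A Γ(X, D g) := fun g =>
    AlgebraicGeometry.StructureSheaf.openAlgebra A (op (PrimeSpectrum.basicOpen g))
  have hal : ∀ (g : A) (a : A), algebraMap A Γ(X, D g) a = al g a := fun g a => rfl
  haveI : ∀ g : A, IsLocalization.Away g Γ(X, D g) := fun g =>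
    AlgebraicGeometry.StructureSheaf.IsLocalization.to_basicOpen A g
  obtain ⟨f, hfm, hf⟩ := exists_nonZeroDivisor_mem A hdim
  have hfu : IsUnit (algebraMap A (FractionRing A) f) := IsLocalization.map_units (FractionRing A) (⟨f, hf⟩ : nonZeroDivisors A)
  let ψ : Γ(X, D f) →+* FractionRing A := IsLocalization.Away.lift f hfu
  have hψ : ∀ a, ψ (al f a) = algebraMap A (FractionRing A) a := fun a => IsLocalization.Away.lift_eq f hfu a
  let r : Γ(X, U) →+* FractionRing A := ψ.comp (res f hfm)
  have hr : ∀ a, r (ρ a) = algebraMap A (FractionRing A) a := fun a => by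
    change ψ (res f hfm (ρ a)) = _
    rw [hres f hfm, hψ]
  -- restrictions to overlaps
  have hzero : ∀ (g h : A) (hg : g ∈ IsLocalRing.maximalIdeal A) (hh : h ∈ IsLocalRing.maximalIdeal A) (d : Γ(X, U)),
      res g hg d = 0 → ∃ (k : ℕ) (a : A) (j : ℕ), res h hh d * al h (h ^ k) = al h a ∧ (g * h) ^ j * a = 0 := by
    intro g h hg hh d hd
    obtain ⟨⟨a, s⟩, hs⟩ := IsLocalization.surj (Submonoid.powers h) (res h hh d)
    obtain ⟨k, hk⟩ := s.2
    have hgh : g * h ∈ IsLocalRing.maximalIdeal A := Ideal.mul_mem_left _ _ hh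
    have h1 : D (g * h) ≤ D g := PrimeSpectrum.basicOpen_mul_le_left g h
    have h2 : D (g * h) ≤ D h := PrimeSpectrum.basicOpen_mul_le_right g h
    have e1 : (X.presheaf.map (homOfLE h1).op).hom (res g hg d) = res (g * h) hgh d := by
      exact hmap _ _ _ (hDU g hg) h1 d
    have e2 : (X.presheaf.map (homOfLE h2).op).hom (res h hh d) = res (g * h) hgh d := by
      exact hmap _ _ _ (hDU h hh) h2 d
    have e3 : ∀ c, (X.presheaf.map (homOfLE h2).op).hom (al h c) = al (g * h) c := fun c => by
      exact hmap _ _ _ le_top h2 _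
    rw [hd, map_zero] at e1
    have hs' : res h hh d * al h (h ^ k) = al h a := by
      rw [show (h ^ k : A) = (s : A) from hk]
      exact hs
    have h3 := congrArg (X.presheaf.map (homOfLE h2).op).hom hs'
    rw [map_mul, e2, ← e1, zero_mul, e3] at h3
    obtain ⟨⟨c, j, hj⟩, hc⟩ := (IsLocalization.map_eq_zero_iff (Submonoid.powers (g * h)) Γ(X, D (g * h)) a).mp h3.symm
    exact ⟨k, a, j, hs', by rw [show (g * h) ^ j = c from hj]; exact hc⟩
  have hrinj : Function.Injective r := by
    refine (injective_iff_map_eq_zero r).2 fun d hd => ?_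
    have hdf : res f hfm d = 0 := by
      obtain ⟨⟨a, s⟩, hs⟩ := IsLocalization.surj (Submonoid.powers f) (res f hfm d)
      have h1 := congrArg ψ hs
      rw [map_mul, show ψ (res f hfm d) = 0 from hd, zero_mul] at h1
      change 0 = ψ (al f a) at h1
      rw [hψ] at h1
      rw [show a = 0 from IsFractionRing.injective A (FractionRing A) (h1.symm.trans (map_zero _).symm), map_zero] at hs
      exact (IsLocalization.map_units Γ(X, D f) s).mul_left_eq_zero.mp hs
    refine TopCat.Sheaf.eq_of_locally_eq' X.sheaf (fun g : IsLocalRing.maximalIdeal A => D g.1) U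
      (fun g => homOfLE (hDU g.1 g.2)) (fun x hx => ?_) d 0 fun g => ?_
    · have hx' : x ≠ IsLocalRing.closedPoint A := hx
      obtain ⟨g, hg, hgx⟩ := SetLike.not_le_iff_exists.mp fun hle =>
        hx' (PrimeSpectrum.ext (le_antisymm (IsLocalRing.le_maximalIdeal x.isPrime.ne_top) hle))
      exact Opens.mem_iSup.mpr ⟨⟨g, hg⟩, hgx⟩
    · change res g.1 g.2 d = res g.1 g.2 0
      rw [map_zero]
      obtain ⟨k, a, j, hka, hja⟩ := hzero f g.1 hfm g.2 d hdf
      have hga : g.1 ^ j * a = 0 := by
        rw [mul_pow, mul_assoc] at hja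
        exact (mem_nonZeroDivisors_iff_left.mp (pow_mem hf j)) _ hja
      have hu : IsUnit (al g.1 g.1) := IsLocalization.map_units Γ(X, D g.1) (⟨g.1, Submonoid.mem_powers _⟩ : Submonoid.powers g.1)
      have h1 : al g.1 a = 0 := (IsUnit.mul_right_eq_zero (hu.pow j)).mp (by rw [← map_pow, ← map_mul, hga, map_zero])
      rw [h1] at hka
      rw [map_pow] at hka
      exact (hu.pow k).mul_left_eq_zero.mp hka
  have hs : ∀ d : Γ(X, U), IsIntegral A (r d) := fun d => by
    refine isIntegral_of_pow_mul_mem_reduced hdim (r d) fun g hg => ?_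
    obtain ⟨⟨b, s⟩, hb⟩ := IsLocalization.surj (Submonoid.powers g) (res g hg d)
    obtain ⟨N, hN⟩ := s.2
    have hd : res g hg (d * ρ (g ^ N) - ρ b) = 0 := by
      rw [map_sub, map_mul, hres g hg, hres g hg, show (g ^ N : A) = (s : A) from hN, sub_eq_zero]
      exact hb
    obtain ⟨k, a, j, hka, hja⟩ := hzero g f hg hfm _ hd
    have hga : g ^ j * a = 0 := by
      rw [mul_pow, mul_comm (g ^ j) (f ^ j), mul_assoc] at hja
      exact (mem_nonZeroDivisors_iff_left.mp (pow_mem hf j)) _ hja
    refine ⟨j + N, g ^ j * b, ?_⟩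
    have h1 := congrArg ψ hka
    rw [map_mul, hψ, hψ, show ψ (res f hfm (d * ρ (g ^ N) - ρ b)) = r (d * ρ (g ^ N) - ρ b) from rfl,
      map_sub, map_mul, hr, hr] at h1
    have h2 := congrArg (algebraMap A (FractionRing A)) hga
    rw [map_mul, ← h1, map_zero] at h2
    have h3 : algebraMap A (FractionRing A) (g ^ j) * (r d * algebraMap A _ (g ^ N) - algebraMap A _ b) = 0 := by
      refine ((hfu.pow k).mul_left_eq_zero).mp ?_
      rw [← map_pow, mul_assoc]
      exact h2
    rw [map_mul, ← map_pow, pow_add, map_mul, mul_assoc, ← sub_eq_zero]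
    linear_combination -h3
  refine ⟨fun d => ?_, r.codRestrict (integralClosure A (FractionRing A)).toSubring hs,
    fun d d' h => hrinj (congrArg Subtype.val h), RingHom.ext fun a => Subtype.ext (hr a)⟩
  obtain ⟨P, hPm, hP⟩ := hs d
  refine ⟨P, hPm, hrinj ?_⟩
  rw [map_zero, Polynomial.hom_eval₂, show r.comp ρ = algebraMap A (FractionRing A) from RingHom.ext hr]
  exact hP

end Groth.Agent.PuncSecLib
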