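import Groth.Agent.PuncSecLib.SectExt
import Groth.Agent.S2720

/-!
# Adic systems of finite modules are coherent formal modules on the spectrum
-/

set_option autoImplicit false
set_option linter.style.haveILetI false
set_option backward.isDefEq.respectTransparency.types false
set_option linter.unusedSectionVars false
set_option maxHeartbeats 1000000

universe u

open CategoryTheory CategoryTheory.Limits AlgebraicGeometry TopologicalSpace Opposite

noncomputable section

namespace Groth.Agent.PuncSecLib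

variable {A : Type u} [CommRing A]

theorem tilde_map_lsmul (M : ModuleCat.{u} A) (a : A) :
    (tilde.functor (CommRingCat.of A)).map (a • 𝟙 M) =
      @Formal.smulMod A _ (Spec (CommRingCat.of A)) ⟨𝟙 (Spec (CommRingCat.of A))⟩
        ((tilde.functor (CommRingCat.of A)).obj M) a := by
  show tilde.map (R := CommRingCat.of A) (a • 𝟙 M) = _
  rw [BCLib.tilde_map_smul (R := CommRingCat.of A) M a]
  rfl

theorem isCohFormal_tildeSys [IsNoetherianRing A] (I : Ideal A) (N : ℕᵒᵖ ⥤ ModuleCat.{u} A)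
    (hfin : ∀ n, Module.Finite A (N.obj (op n)))
    (hsurj : ∀ n, Function.Surjective (eTr N (Nat.le_succ n)))
    (hker : ∀ n, LinearMap.ker (eTr N (Nat.le_succ n)) = I ^ (n + 1) • (⊤ : Submodule A (N.obj (op (n + 1)))))
    (hkill : ∀ n, I ^ (n + 1) • (⊤ : Submodule A (N.obj (op n))) = ⊥) :
    @Formal.IsCohFormal A _ (Spec (CommRingCat.of A)) ⟨𝟙 (Spec (CommRingCat.of A))⟩ I
      (N ⋙ tilde.functor (CommRingCat.of A)) := by
  letI : (Spec (CommRingCat.of A)).Over (Spec (CommRingCat.of A)) := ⟨𝟙 _⟩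
  haveI : IsNoetherianRing (CommRingCat.of A : Type u) := inferInstanceAs (IsNoetherianRing A)
  refine ⟨fun n => ?_, fun n a ha => ?_, fun n => ?_⟩
  · haveI : Module.Finite (CommRingCat.of A : Type u) (N.obj (op n)) := hfin n
    exact Groth.Agent.S2720.isCoh_tilde' (R := CommRingCat.of A) (N.obj (op n))
  · show Formal.smulMod A ((tilde.functor (CommRingCat.of A)).obj (N.obj (op n))) a = 0
    rw [← tilde_map_lsmul]
    have h : (a • 𝟙 (N.obj (op n)) : N.obj (op n) ⟶ N.obj (op n)) = 0 := ModuleCat.hom_ext (LinearMap.ext fun x =>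
      (Submodule.mem_bot A).1 ((hkill n).le (Submodule.smul_mem_smul ha (Submodule.mem_top (x := x)))))
    rw [h]
    exact Functor.map_zero _ _ _
  · let J : Ideal A := I ^ (n + 1)
    let M : ModuleCat.{u} A := N.obj (op (n + 1))
    let π : M ⟶ N.obj (op n) := N.map (homOfLE (Nat.le_succ n)).op
    let c : (∐ fun _ : J => M) ⟶ M := Sigma.desc fun a => (a : A) • 𝟙 M
    have hcond : ∀ a : J, ((a : A) • 𝟙 M) ≫ π = 0 := fun a =>
      ModuleCat.hom_ext (LinearMap.ext fun x =>
        LinearMap.mem_ker.1 ((hker n).ge (Submodule.smul_mem_smul a.2 (Submodule.mem_top (x := x)))))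
    have hw : c ≫ π = 0 := Sigma.hom_ext _ _ fun a => by
      rw [← Category.assoc, Sigma.ι_desc, comp_zero]; exact hcond a
    haveI : Epi π := (ModuleCat.epi_iff_surjective _).2 (hsurj n)
    have hcol : IsColimit (CokernelCofork.ofπ π hw) := by
      refine CokernelCofork.IsColimit.ofπ' π hw fun {T} g hg => ?_
      have hle : LinearMap.ker (eTr N (Nat.le_succ n)) ≤ LinearMap.ker g.hom := by
        rw [hker n]
        refine Submodule.smul_le.2 fun a ha x _ => ?_
        have h := congr($((Sigma.ι (fun _ : J => M) ⟨a, ha⟩) ≫= hg).hom x)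
        rw [← Category.assoc, Sigma.ι_desc, comp_zero] at h
        exact h
      refine ⟨ModuleCat.ofHom (((LinearMap.ker (eTr N (Nat.le_succ n))).liftQ g.hom hle).comp
        (LinearMap.quotKerEquivOfSurjective _ (hsurj n)).symm.toLinearMap), ModuleCat.hom_ext (LinearMap.ext fun x => ?_)⟩
      exact congrArg ((LinearMap.ker (eTr N (Nat.le_succ n))).liftQ g.hom hle)
        ((LinearMap.quotKerEquivOfSurjective _ (hsurj n)).symm_apply_apply (Submodule.Quotient.mk x))
    let F := tilde.functor (CommRingCat.of A)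
    haveI : PreservesColimitsOfSize.{u, u} F := tilde.adjunction.leftAdjoint_preservesColimits
    haveI : PreservesColimitsOfSize.{0, 0} F := preservesColimitsOfSize_shrink _
    haveI : IsIso (sigmaComparison F (fun _ : J => M)) := inferInstance
    have hmap := CokernelCofork.mapIsColimit _ hcol F
    have hwα : Formal.smulFamily J (F.obj M) ≫ F.map π = 0 := Sigma.hom_ext _ _ fun a => by
      rw [comp_zero, ← Category.assoc, Formal.smulFamily, Sigma.ι_desc, ← tilde_map_lsmul, ← F.map_comp]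
      exact (congrArg F.map (hcond a)).trans (Functor.map_zero _ _ _)
    have hdesc : F.map c ≫ Formal.modPowπ I (n + 1) (F.obj M) = 0 := by
      refine (cancel_epi (sigmaComparison F (fun _ : J => M))).1 (Sigma.hom_ext _ _ fun a => ?_)
      rw [comp_zero, comp_zero, ι_comp_sigmaComparison_assoc, ← Category.assoc, ← F.map_comp, Sigma.ι_desc]
      erw [tilde_map_lsmul M (a : A)]
      have h := (Sigma.ι (fun _ : J => F.obj M) a) ≫= cokernel.condition (Formal.smulFamily J (F.obj M))
      rw [← Category.assoc, Formal.smulFamily, Sigma.ι_desc, comp_zero] at h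
      exact h
    let back : F.obj (N.obj (op n)) ⟶ Formal.modPow I (n + 1) (F.obj M) :=
      hmap.desc (CokernelCofork.ofπ (Formal.modPowπ I (n + 1) (F.obj M)) hdesc)
    have hback : F.map π ≫ back = Formal.modPowπ I (n + 1) (F.obj M) :=
      hmap.fac (CokernelCofork.ofπ (Formal.modPowπ I (n + 1) (F.obj M)) hdesc) WalkingParallelPair.one
    refine ⟨hwα, ⟨back, ?_, ?_⟩⟩
    · refine (cancel_epi (cokernel.π (Formal.smulFamily J (F.obj M)))).1 ?_
      refine (Category.assoc _ _ _).symm.trans ((congrArg (· ≫ back) (cokernel.π_desc _ _ _)).trans ?_)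
      exact hback.trans (Category.comp_id _).symm
    · haveI : Epi (F.map π) := F.map_epi π
      refine (cancel_epi (F.map π)).1 ?_
      refine (Category.assoc _ _ _).symm.trans ((congrArg (· ≫ _) hback).trans ?_)
      exact (cokernel.π_desc _ _ _).trans (Category.comp_id _).symm

theorem exists_adic_proIso [IsNoetherianRing A] {I : Ideal A} {X : ℕᵒᵖ ⥤ ModuleCat.{u} A}
    (hX : ∀ (j : ℕ) (b : A), b ∈ I ^ (j + 1) → ∀ z : X.obj (op j), b • z = 0)
    (ha : ARSys.IsML X)
    (hb : ∀ k : ℕ, ∃ n : ℕ, LinearMap.ker (limit.π X (op n)).hom ≤ I ^ k • (⊤ : Submodule A ↑(limit X)))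
    (hc : ∀ n : ℕ, Module.Finite A ↥(LinearMap.range (limit.π X (op n)).hom)) :
    ∃ N : ℕᵒᵖ ⥤ ModuleCat.{u} A, Algz.IsProIsomorphic X N ∧
      @Formal.IsCohFormal A _ (Spec (CommRingCat.of A)) ⟨𝟙 (Spec (CommRingCat.of A))⟩ I
        (N ⋙ tilde.functor (CommRingCat.of A)) := by
  let M : Type u := ↑(limit X)
  let π : ∀ n, M →ₗ[A] X.obj (op n) := fun n => (limit.π X (op n)).hom
  let P : ℕ → Submodule A M := fun n => I ^ (n + 1) • ⊤
  have hP : ∀ {i j}, i ≤ j → P j ≤ P i := fun h => Submodule.smul_mono_left (Ideal.pow_le_pow_right (Nat.succ_le_succ h))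
  let N : ℕᵒᵖ ⥤ ModuleCat.{u} A := Functor.ofOpSequence (X := fun n => ModuleCat.of A (M ⧸ P n))
    (fun n => ModuleCat.ofHom (Submodule.mapQ (P (n + 1)) (P n) LinearMap.id (hP (Nat.le_succ n))))
  have hNtr : ∀ {i j} (h : i ≤ j) (x : M),
      eTr N h (Submodule.Quotient.mk x) = Submodule.Quotient.mk x := fun {i j} h x => by
    induction j, h using Nat.le_induction with
    | base => exact eTr_self _ _
    | succ j h ih =>
      rw [← eTr_eTr (X := N) h (Nat.le_succ j)]
      refine (congrArg (eTr N h) ?_).trans ih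
      show (N.map (homOfLE (Nat.le_add_right j 1)).op).hom _ = _
      rw [Functor.ofOpSequence_map_homOfLE_succ]
      rfl
  -- the controlling indices
  choose c₀ hc₀ using fun n => hb (n + 1)
  choose r hr using fun i => stable_shift ha i
  let c : ℕ → ℕ := fun n => (Finset.range (n + 1)).sup c₀ + n
  have hcmono : Monotone c := fun i j h =>
    Nat.add_le_add (Finset.sup_mono (Finset.range_mono (Nat.succ_le_succ h))) h
  have hck : ∀ n, LinearMap.ker (π (c n)) ≤ P n := fun n x hx => by
    have hle : c₀ n ≤ c n := (Finset.le_sup (Finset.self_mem_range_succ n)).trans (Nat.le_add_right _ _)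
    refine hc₀ n ?_
    refine (limit_elt_tr x hle).symm.trans ?_
    exact (congrArg (eTr X hle) (LinearMap.mem_ker.1 hx)).trans (map_zero _)
  let m : ℕ → ℕ := fun n => (Finset.range (n + 1)).sup (fun i => r (c i)) + c n
  have hm : Monotone m := fun i j h =>
    Nat.add_le_add (Finset.sup_mono (Finset.range_mono (Nat.succ_le_succ h))) (hcmono h)
  have hcm : ∀ n, c n ≤ m n := fun n => Nat.le_add_left _ _
  have hle : ∀ n, n ≤ m n := fun n => (Nat.le_add_left n _).trans (hcm n)
  have hrange : ∀ n (x : X.obj (op (m n))), eTr X (hcm n) x ∈ LinearMap.range (π (c n)) := fun n x => by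
    have hrm : r (c n) ≤ m n :=
      (Finset.le_sup (f := fun i => r (c i)) (Finset.self_mem_range_succ n)).trans (Nat.le_add_right _ _)
    exact exists_limit_lift (stable_shift ha) _ _ (hr (c n) (m n) (hcm n) hrm x)
  let q : ∀ n, LinearMap.range (π (c n)) →ₗ[A] M ⧸ P n := fun n =>
    ((LinearMap.ker (π (c n))).mapQ (P n) LinearMap.id (hck n)).comp (π (c n)).quotKerEquivRange.symm.toLinearMap
  have hq : ∀ n (x : M) (hx : π (c n) x ∈ LinearMap.range (π (c n))), q n ⟨π (c n) x, hx⟩ = Submodule.Quotient.mk x :=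
    fun n x hx => congrArg ((LinearMap.ker (π (c n))).mapQ (P n) LinearMap.id (hck n))
      (LinearMap.quotKerEquivRange_symm_apply_image _ x hx)
  let a₀ : ∀ n, X.obj (op (m n)) →ₗ[A] N.obj (op n) := fun n =>
    (q n).comp (LinearMap.codRestrict _ (eTr X (hcm n)) (hrange n))
  have ha₀ : ∀ n (z : X.obj (op (m n))) (x : M), π (c n) x = eTr X (hcm n) z →
      a₀ n z = Submodule.Quotient.mk x := fun n z x h => by
    refine Eq.trans ?_ (hq n x (LinearMap.mem_range_self _ x))
    exact congrArg (q n) (Subtype.ext h.symm)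
  have hnat : ∀ {i j} (h : i ≤ j) z, eTr N h (a₀ j z) = a₀ i (eTr X (hm h) z) := fun {i j} h z => by
    obtain ⟨x, hx⟩ := hrange j z
    rw [ha₀ j z x hx, hNtr h x, ha₀ i (eTr X (hm h) z) x]
    rw [eTr_eTr, ← eTr_eTr (X := X) (hcmono h) (hcm j), ← hx]
    exact (limit_elt_tr x (hcmono h)).symm
  let aH : ∀ n, X.obj (op (m n)) ⟶ N.obj (op n) := fun n => ModuleCat.ofHom (a₀ n)
  let a : DerCA.reindex X hm ⟶ N :=
    { app := fun y => aH y.unop
      naturality := fun y y' f => ModuleCat.hom_ext (LinearMap.ext fun z => by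
        rw [Subsingleton.elim f (homOfLE (leOfHom f.unop)).op]
        exact (hnat (leOfHom f.unop) z).symm) }
  have hkillX : ∀ j, P j ≤ LinearMap.ker (π j) := fun j => Submodule.smul_le.2 fun b hbI x _ => by
    rw [LinearMap.mem_ker, map_smul]
    exact hX j b hbI _
  have hpro : Algz.IsProIsomorphic X N := by
    let bH : ∀ n, N.obj (op (m n)) ⟶ X.obj (op (m n)) := fun n =>
      ModuleCat.ofHom ((P (m n)).liftQ (π (m n)) (hkillX _))
    refine ⟨m, hm, hle, a, fun n => ⟨m n, hle n, bH n, ?_, ?_⟩⟩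
    · refine ModuleCat.hom_ext (LinearMap.ext fun z => ?_)
      obtain ⟨x, hx⟩ := hrange (m n) z
      show (P (m n)).liftQ (π (m n)) (hkillX _) (a₀ (m n) z) = eTr X (hm (hle n)) z
      rw [ha₀ _ z x hx]
      show π (m n) x = _
      have h1 : m n ≤ c (m n) := Nat.le_add_left _ _
      rw [← eTr_eTr (X := X) h1 (hcm (m n)), ← hx]
      exact (limit_elt_tr x h1).symm
    · refine ModuleCat.hom_ext (LinearMap.ext fun y => ?_)
      obtain ⟨x, rfl⟩ := Submodule.Quotient.mk_surjective _ y
      show a₀ n (π (m n) x) = eTr N (hle n) (Submodule.Quotient.mk x)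
      rw [hNtr (hle n) x]
      exact ha₀ n _ x (limit_elt_tr x (hcm n)).symm
  refine ⟨N, hpro, ?_⟩
  refine isCohFormal_tildeSys I N (fun n => ?_) (fun n y => ?_) (fun n => ?_) (fun n => ?_)
  · haveI := hc (c n)
    refine Module.Finite.of_surjective (q n) fun y => ?_
    obtain ⟨x, rfl⟩ := Submodule.Quotient.mk_surjective _ y
    exact ⟨⟨π (c n) x, LinearMap.mem_range_self _ x⟩, hq n x _⟩
  · obtain ⟨x, rfl⟩ := Submodule.Quotient.mk_surjective _ y
    exact ⟨Submodule.Quotient.mk x, hNtr _ x⟩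
  · refine le_antisymm (fun y hy => ?_) (Submodule.smul_le.2 fun b hbI y _ => ?_)
    · obtain ⟨x, rfl⟩ := Submodule.Quotient.mk_surjective _ y
      have hx : x ∈ P n := (Submodule.Quotient.mk_eq_zero _).1 ((hNtr _ x).symm.trans hy)
      have := Submodule.mem_map_of_mem (f := (P (n + 1)).mkQ) hx
      rw [Submodule.map_smul''] at this
      exact Submodule.smul_mono le_rfl le_top this
    · obtain ⟨x, rfl⟩ := Submodule.Quotient.mk_surjective _ y
      show eTr N (Nat.le_succ n) (b • Submodule.Quotient.mk x) = 0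
      exact (congrArg (eTr N (Nat.le_succ n)) ((P (n + 1)).mkQ.map_smul b x).symm).trans ((hNtr _ (b • x)).trans
        ((Submodule.Quotient.mk_eq_zero _).2 (Submodule.smul_mem_smul hbI trivial)))
  · refine eq_bot_iff.2 (Submodule.smul_le.2 fun b hbI y _ => ?_)
    obtain ⟨x, rfl⟩ := Submodule.Quotient.mk_surjective _ y
    exact (Submodule.mem_bot A).2 ((Submodule.Quotient.mk_eq_zero _).2 (Submodule.smul_mem_smul hbI trivial))

theorem canonicallyExtends_of_isML [IsNoetherianRing A] {I 𝔞 : Ideal A}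
    {G : ℕᵒᵖ ⥤ (LocCoh.puncturedOpen A 𝔞 : Scheme.{u}).Modules} (hG : Formal.IsCohFormal I G)
    (ha : ARSys.IsML (Algz.sectMod A (LocCoh.puncturedOpen A 𝔞) G))
    (hb : ∀ k : ℕ, ∃ n : ℕ, LinearMap.ker (limit.π (Algz.sectMod A (LocCoh.puncturedOpen A 𝔞) G) (op n)).hom ≤
      I ^ k • (⊤ : Submodule A ↑(limit (Algz.sectMod A (LocCoh.puncturedOpen A 𝔞) G))))
    (hc : ∀ n : ℕ, Module.Finite A
      ↥(LinearMap.range (limit.π (Algz.sectMod A (LocCoh.puncturedOpen A 𝔞) G) (op n)).hom)) :
    Algz.CanonicallyExtends A I (LocCoh.puncturedOpen A 𝔞) G := by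
  obtain ⟨N, hN, hN'⟩ := exists_adic_proIso (fun j b hbI z => smul_eq_zero_of_mem hG j hbI z) ha hb hc
  exact ⟨N ⋙ tilde.functor (CommRingCat.of A), hN',
    isProIsomorphic_map (tilde.functor (CommRingCat.of A)) (Iso.refl _) (Iso.refl _) hN⟩

end Groth.Agent.PuncSecLib
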