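import Groth.Agent.PuncSecLib.SecFun
import Groth.Agent.QcInjLib.Scheme

/-!
# Maps with torsion kernel and cokernel become isomorphisms on the punctured open
-/

set_option autoImplicit false
set_option linter.style.haveILetI false
set_option backward.isDefEq.respectTransparency.types false

universe u

open CategoryTheory CategoryTheory.Limits AlgebraicGeometry TopologicalSpace Opposite

noncomputable section

namespace Groth.Agent.PuncSecLib

variable {A : Type u} [CommRing A] [IsNoetherianRing A] {𝔞 : Ideal A}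
  {M N : Type u} [AddCommGroup M] [Module A M] [AddCommGroup N] [Module A N]

local notation "𝐔" => LocCoh.puncturedOpen A 𝔞

/-- Killed by a power of the ideal. -/
def PowTors (𝔞 : Ideal A) {M : Type u} [AddCommGroup M] [Module A M] (m : M) : Prop :=
  ∃ n : ℕ, ∀ b ∈ 𝔞 ^ n, b • m = 0

/-- Cokernel torsion. -/
def CokTors (𝔞 : Ideal A) {M N : Type u} [AddCommGroup M] [Module A M] [AddCommGroup N] [Module A N]
    (φ : M →ₗ[A] N) : Prop :=
  ∀ y : N, ∃ n : ℕ, ∀ b ∈ 𝔞 ^ n, b • y ∈ LinearMap.range φ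

omit [IsNoetherianRing A] in
theorem PowTors.map (φ : M →ₗ[A] N) {m : M} (h : PowTors 𝔞 m) : PowTors 𝔞 (φ m) :=
  h.imp fun n hn b hb => by rw [← map_smul, hn b hb, map_zero]

theorem υ_eq_zero_iff (m : M) : υ 𝐔 M m = 0 ↔ PowTors 𝔞 m := by
  rw [← χ_ε, LinearEquiv.map_eq_zero_iff]
  exact ε_eq_zero_iff_pow m

theorem cokTors_υ : CokTors 𝔞 (υ 𝐔 M) := fun z => by
  obtain ⟨n, hn⟩ := exists_pow_smul_mem_range ((χ 𝐔 M).symm z)
  refine ⟨n, fun b hb => ?_⟩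
  obtain ⟨m, hm⟩ := hn b hb
  exact ⟨m, by rw [← χ_ε, hm, map_smul, LinearEquiv.apply_symm_apply]⟩

theorem eq_zero_of_powTors {G : (𝐔 : Scheme.{u}).Modules} {z : ↑((ΓU 𝐔).obj G)} (h : PowTors 𝔞 z) : z = 0 := by
  have e : ((ΓU 𝐔).map ((tRadj 𝐔).counit.app G)).hom (υ 𝐔 ↑((ΓU 𝐔).obj G) z) = z :=
    congr(($((tRadj 𝐔).right_triangle_components G)).hom z)
  rw [← e, (υ_eq_zero_iff z).2 h, map_zero]

/-- Maps to sections agree as soon as they do up to torsion. -/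
theorem hom_ext_cokTors {G : (𝐔 : Scheme.{u}).Modules} {ι : M →ₗ[A] N} (hι : CokTors 𝔞 ι)
    {q q' : N →ₗ[A] ↑((ΓU 𝐔).obj G)} (h : q.comp ι = q'.comp ι) : q = q' := by
  refine LinearMap.ext fun y => sub_eq_zero.1 (eq_zero_of_powTors (𝔞 := 𝔞) ?_)
  obtain ⟨n, hn⟩ := hι y
  refine ⟨n, fun b hb => ?_⟩
  obtain ⟨x, hx⟩ := hn b hb
  rw [smul_sub, ← map_smul, ← map_smul, ← hx]
  exact sub_eq_zero.2 (LinearMap.congr_fun h x)

theorem epi_tR {φ : M →ₗ[A] N} (hφ : CokTors 𝔞 φ) : Epi ((tR 𝐔).map (ModuleCat.ofHom φ)) := by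
  refine ⟨fun {G} g g' h => ?_⟩
  refine ((tRadj 𝐔).homEquiv (ModuleCat.of A N) G).injective (ModuleCat.hom_ext ?_)
  refine hom_ext_cokTors hφ ?_
  exact congrArg ModuleCat.Hom.hom (((tRadj 𝐔).homEquiv_naturality_left (ModuleCat.ofHom φ) g).symm.trans
    ((congrArg ((tRadj 𝐔).homEquiv _ _) h).trans ((tRadj 𝐔).homEquiv_naturality_left (ModuleCat.ofHom φ) g')))

omit [IsNoetherianRing A] in
theorem mono_tR (U : (Sp A).Opens) {φ : M →ₗ[A] N} (hφ : Function.Injective φ) :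
    Mono ((tR U).map (ModuleCat.ofHom φ)) :=
  QcInjLib.mono_of_app_injective _ fun W => TildeD.injective_tilde_map_app (R := CommRingCat.of A)
    (ModuleCat.ofHom φ) hφ (U.ι ''ᵁ W)

theorem isIso_tR {φ : M →ₗ[A] N} (hinj : Function.Injective φ) (hcok : CokTors 𝔞 φ) :
    IsIso ((tR 𝐔).map (ModuleCat.ofHom φ)) := by
  haveI := epi_tR hcok
  haveI := mono_tR 𝐔 hinj
  exact isIso_of_mono_of_epi _

theorem exists_extension {G : (𝐔 : Scheme.{u}).Modules} {ι : M →ₗ[A] N} (hinj : Function.Injective ι)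
    (hcok : CokTors 𝔞 ι) (φ : M →ₗ[A] ↑((ΓU 𝐔).obj G)) : ∃ q : N →ₗ[A] ↑((ΓU 𝐔).obj G), q.comp ι = φ := by
  haveI := isIso_tR hinj hcok
  refine ⟨adjL 𝐔 (inv ((tR 𝐔).map (ModuleCat.ofHom ι)) ≫ adjR 𝐔 φ), ?_⟩
  refine Eq.trans ?_ (adjL_adjR 𝐔 φ)
  refine congrArg ModuleCat.Hom.hom ((((tRadj 𝐔).homEquiv_naturality_left (ModuleCat.ofHom ι) _)).symm.trans ?_)
  rw [IsIso.hom_inv_id_assoc]

end Groth.Agent.PuncSecLib
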