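import Groth.Agent.PuncSecLib.Tower

/-!
# The limit of a tower of sections
-/

set_option autoImplicit false
set_option linter.style.haveILetI false
set_option backward.isDefEq.respectTransparency.types false
set_option linter.unusedSectionVars false

universe u

open CategoryTheory CategoryTheory.Limits AlgebraicGeometry TopologicalSpace Opposite

noncomputable section

namespace Groth.Agent.PuncSecLib.Tower

variable {A : Type u} [CommRing A] [IsNoetherianRing A] {𝔞 : Ideal A} {f : A}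
  {G : ℕ → (LocCoh.puncturedOpen A 𝔞 : Scheme.{u}).Modules} (T : Tower 𝔞 f G)

/-- Projection from level `n` to level `m`. -/
def P (T' : Tower 𝔞 f G) : ∀ {m n : ℕ}, m ≤ n → (Γp 𝔞 (G n) →ₗ[A] Γp 𝔞 (G m)) :=
  fun {m n} h => Nat.leRec (motive := fun n _ => Γp 𝔞 (G n) →ₗ[A] Γp 𝔞 (G m)) LinearMap.id
    (fun k _ φ => φ.comp (T'.t k)) h

theorem P_self (m : ℕ) (x : Γp 𝔞 (G m)) : T.P (le_refl m) x = x := by
  show Nat.leRec (motive := fun n _ => Γp 𝔞 (G n) →ₗ[A] Γp 𝔞 (G m)) LinearMap.id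
    (fun k _ φ => φ.comp (T.t k)) (le_refl m) x = x
  rw [Nat.leRec_self]; rfl

theorem P_succ {m n : ℕ} (h : m ≤ n) (x : Γp 𝔞 (G (n + 1))) :
    T.P (h.trans (Nat.le_succ n)) x = T.P h (T.t n x) := by
  show Nat.leRec (motive := fun n _ => Γp 𝔞 (G n) →ₗ[A] Γp 𝔞 (G m)) LinearMap.id
    (fun k _ φ => φ.comp (T.t k)) (h.trans (Nat.le_succ n)) x = _
  rw [Nat.leRec_succ _ _ h]
  rfl

theorem t_P {m n : ℕ} (h : m + 1 ≤ n) : ∀ x : Γp 𝔞 (G n),
    T.t m (T.P h x) = T.P ((Nat.le_succ m).trans h) x := by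
  induction n, h using Nat.le_induction with
  | base =>
    intro x
    rw [P_self, P_succ _ (le_refl m), P_self]
  | succ n h ih =>
    intro x
    rw [P_succ _ h, ih, ← P_succ _ ((Nat.le_succ m).trans h)]

theorem P_ψ {m n : ℕ} (h : m ≤ n) : ∀ z : Γp 𝔞 (G n),
    T.P (Nat.succ_le_succ h) (T.ψ n z) = T.ψ m (T.P h z) := by
  induction n, h using Nat.le_induction with
  | base => intro z; rw [P_self, P_self]
  | succ n h ih =>
    intro z
    rw [P_succ _ (Nat.succ_le_succ h), t_ψ_succ, ih, ← P_succ _ h]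

theorem p₀_eq : ∀ (n : ℕ) (x : Γp 𝔞 (G n)), T.p₀ n x = T.P (Nat.zero_le n) x
  | 0, x => (T.P_self 0 x).symm
  | n + 1, x => (p₀_eq n (T.t n x)).trans (T.P_succ (Nat.zero_le n) x).symm

/-- The limit. -/
def Lim : Submodule A (∀ n, Γp 𝔞 (G n)) where
  carrier := {y | ∀ n, T.t n (y (n + 1)) = y n}
  zero_mem' n := map_zero _
  add_mem' {x y} hx hy n := by simp only [Pi.add_apply, map_add, hx n, hy n]
  smul_mem' a x hx n := by simp only [Pi.smul_apply, map_smul, hx n]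

/-- The projections. -/
def pr (n : ℕ) : T.Lim →ₗ[A] Γp 𝔞 (G n) := (LinearMap.proj n).comp T.Lim.subtype

theorem exists_eq_smul (x : T.Lim) (hx : T.pr 0 x = 0) :
    ∃ z : T.Lim, x = f • z ∧ ∀ n, T.ψ n (T.pr n z) = T.pr (n + 1) x := by
  have hp : ∀ n, T.p₀ n (x.1 n) = 0 := fun n => by
    induction n with
    | zero => exact hx
    | succ n ih =>
      show T.p₀ n (T.t n (x.1 (n + 1))) = 0
      rw [x.2 n, ih]
  choose z hz using fun n => T.exists_eq_ψ n (x.1 (n + 1)) (hp (n + 1))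
  refine ⟨⟨z, fun n => T.ψ_injective n ?_⟩, Subtype.ext (funext fun n => ?_), hz⟩
  · rw [hz n, ← t_ψ_succ, hz (n + 1), x.2 (n + 1)]
  · show x.1 n = f • z n
    rw [← T.t_ψ, hz n, x.2 n]

theorem ker_pr : ∀ n, LinearMap.ker (T.pr n) = Ideal.span {f} ^ (n + 1) • (⊤ : Submodule A T.Lim) := by
  intro n
  refine le_antisymm ?_ fun y hy => ?_
  · induction n with
    | zero =>
      intro x hx
      obtain ⟨z, rfl, -⟩ := T.exists_eq_smul x hx
      rw [zero_add, pow_one]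
      exact Submodule.smul_mem_smul (Ideal.mem_span_singleton_self f) Submodule.mem_top
    | succ n ih =>
      intro x hx
      have hx0 : ∀ m (h : m ≤ n + 1), T.pr m x = 0 := fun m h => by
        obtain ⟨k, hk⟩ := Nat.exists_eq_add_of_le h
        clear h
        induction k generalizing m with
        | zero => obtain rfl : m = n + 1 := by omega
                  exact hx
        | succ k ihk =>
          refine (x.2 m).symm.trans ?_
          rw [show x.1 (m + 1) = 0 from ihk (m + 1) (by omega), map_zero]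
      obtain ⟨z, rfl, hz⟩ := T.exists_eq_smul x (hx0 0 (Nat.zero_le _))
      have hz0 : T.pr n z = 0 := T.ψ_injective n (by rw [hz, map_zero]; exact hx0 (n + 1) le_rfl)
      obtain ⟨w, rfl⟩ := (mem_pow_smul_top f _ _ _).1 (ih hz0)
      refine (mem_pow_smul_top f _ _ _).2 ⟨w, ?_⟩
      rw [smul_smul, ← pow_succ']
  · obtain ⟨w, rfl⟩ := (mem_pow_smul_top f _ _ _).1 hy
    show T.pr n (f ^ (n + 1) • w) = 0
    rw [map_smul]
    exact T.killed n _

theorem isHausdorff_lim : IsHausdorff (Ideal.span {f}) T.Lim := by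
  refine ⟨fun y hy => Subtype.ext (funext fun n => ?_)⟩
  have h := SModEq.zero.1 (hy (n + 1))
  rw [← T.ker_pr n] at h
  exact h

theorem finite_lim [IsAdicComplete (Ideal.span {f}) A] [Module.Finite A (Γp 𝔞 (G 0))] :
    Module.Finite A T.Lim := by
  classical
  obtain ⟨r, g, hg⟩ := Module.Finite.exists_fin' A (LinearMap.range (T.pr 0))
  choose w hw using fun i : Fin r => (g (Pi.single i 1)).2
  let φ : (Fin r → A) →ₗ[A] T.Lim := Fintype.linearCombination A w
  haveI := FiniteCompleteLib.isAdicComplete_of_finite (Ideal.span {f}) (Fin r → A)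
  haveI := T.isHausdorff_lim
  refine Module.Finite.of_surjective φ (surjective_of_mkQ_comp_surjective (I := Ideal.span {f}) fun q => ?_)
  obtain ⟨y, rfl⟩ := Submodule.Quotient.mk_surjective _ q
  obtain ⟨c, hc⟩ := hg ⟨T.pr 0 y, LinearMap.mem_range_self _ y⟩
  refine ⟨c, (Submodule.Quotient.eq _).2 ?_⟩
  have h0' : T.pr 0 (φ c - y) = 0 := by
    rw [map_sub, sub_eq_zero, Fintype.linearCombination_apply, map_sum]
    refine Eq.trans ?_ ((congrArg Subtype.val hc).trans rfl)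
    conv_rhs => rw [pi_eq_sum_univ' c, map_sum, AddSubmonoidClass.coe_finsetSum]
    refine Finset.sum_congr rfl fun i _ => ?_
    rw [map_smul, map_smul, hw i]
    rfl
  obtain ⟨z, hz, -⟩ := T.exists_eq_smul (φ c - y) h0'
  rw [hz]
  exact Submodule.smul_mem_smul (Ideal.mem_span_singleton_self f) Submodule.mem_top

section Lift

variable {H : Type u} [AddCommGroup H] [Module A H] (d : ∀ n, Γp 𝔞 (G n) →ₗ[A] H)

theorem exists_lift_stage {c : ℕ} (hc : ∀ n, c ≤ n → LinearMap.range (d n) ≤ LinearMap.range (d c))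
    (hdψ : ∀ n z, d (n + 1) (T.ψ n z) = d n z) (hlift : ∀ n y, d n y = 0 → ∃ x, T.t n x = y)
    (n : ℕ) (hn : c ≤ n) (y : Γp 𝔞 (G n)) :
    ∃ y' : Γp 𝔞 (G (n + 1)), ∀ m (h : m ≤ n), m + c < n → T.P h (T.t n y') = T.P h y := by
  have key : ∀ n, c ≤ n → ∀ z : Γp 𝔞 (G c), ∃ w : Γp 𝔞 (G n), d n w = d c z ∧
      ∀ m (h : m ≤ n), m + c < n → T.P h w = 0 := by
    intro n hn z
    induction n, hn using Nat.le_induction with
    | base => exact ⟨z, rfl, fun m h hm => by omega⟩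
    | succ k hk ih =>
      obtain ⟨w, hw, hw0⟩ := ih
      refine ⟨T.ψ k w, (hdψ k w).trans hw, fun m h hm => ?_⟩
      cases m with
      | zero => exact (T.p₀_eq _ _).symm.trans (T.p₀_ψ k w)
      | succ m => rw [T.P_ψ (Nat.le_of_succ_le_succ h), hw0 m _ (by omega), map_zero]
  obtain ⟨z, hz⟩ := hc n hn (LinearMap.mem_range_self (d n) y)
  obtain ⟨w, hw, hw0⟩ := key n hn z
  obtain ⟨y', hy'⟩ := hlift n (y - w) (by rw [map_sub, hw, hz, sub_self])
  exact ⟨y', fun m h hm => by rw [hy', map_sub, hw0 m h hm, sub_zero]⟩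

theorem exists_mem_lim {c : ℕ} (hc : ∀ n, c ≤ n → LinearMap.range (d n) ≤ LinearMap.range (d c))
    (hdψ : ∀ n z, d (n + 1) (T.ψ n z) = d n z) (hlift : ∀ n y, d n y = 0 → ∃ x, T.t n x = y)
    (n : ℕ) (y : Γp 𝔞 (G (n + c + 1))) :
    ∃ x : T.Lim, T.pr n x = T.P (by omega : n ≤ n + c + 1) y := by
  let N := n + c + 1
  choose nxt hnxt using fun k (z : Γp 𝔞 (G (N + k))) =>
    T.exists_lift_stage d hc hdψ hlift (N + k) (by omega) z
  let Y : ∀ k, Γp 𝔞 (G (N + k)) := fun k => Nat.rec (motive := fun k => Γp 𝔞 (G (N + k))) y nxt k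
  have hY : ∀ k m (h : m ≤ N + k), m + c < N + k → T.P h (T.t (N + k) (Y (k + 1))) = T.P h (Y k) :=
    fun k => hnxt k (Y k)
  let x : ∀ m, Γp 𝔞 (G m) := fun m => T.P (by omega : m ≤ N + m) (Y m)
  refine ⟨⟨x, fun m => ?_⟩, ?_⟩
  · show T.t m (T.P _ (Y (m + 1))) = T.P _ (Y m)
    rw [t_P]
    refine (T.P_succ (by omega : m ≤ N + m) (Y (m + 1))).trans (hY m m _ (by omega))
  · show T.P _ (Y n) = _
    have : ∀ k, T.P (by omega : n ≤ N + k) (Y k) = T.P (by omega : n ≤ N) y := fun k => by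
      induction k with
      | zero => rfl
      | succ k ih => exact (T.P_succ (by omega : n ≤ N + k) (Y (k + 1))).trans ((hY k n _ (by omega)).trans ih)
    exact this n

end Lift

theorem cokTors_pr [Module.Finite A (Γp 𝔞 (G 0))] (hH : Module.Finite A (LocCoh.H 𝔞 2 (Γp 𝔞 (G 0)))) (n : ℕ) :
    CokTors 𝔞 (T.pr n) := by
  obtain ⟨E, ι, hE, hι⟩ := exists_embedding (A := A) (Γp 𝔞 (G 0))
  let π := (LinearMap.range ι).mkQ
  obtain ⟨hfin, t, ht⟩ := finite_obs (𝔞 := 𝔞) (K := Γp 𝔞 (G 0)) hι (Submodule.mkQ_surjective (LinearMap.range ι))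
    (Submodule.ker_mkQ _).symm hH
  haveI := hfin
  haveI : IsNoetherian A (Obs 𝔞 (↥E ⧸ LinearMap.range ι)) := isNoetherian_of_isNoetherianRing_of_finite A _
  have hmono : Monotone fun n => LinearMap.range (T.d ι n) := monotone_nat_of_le_succ fun n => by
    rintro _ ⟨z, rfl⟩
    exact ⟨T.ψ n z, T.d_ψ ι n z⟩
  obtain ⟨c, hc⟩ := monotone_stabilizes_iff_noetherian.2 ‹_› ⟨_, hmono⟩
  refine cokTors_of_loc fun z p hp => ?_
  obtain ⟨a, ha, hap⟩ := Set.not_subset.1 (fun h => hp h)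
  have hk : ∀ k, ∃ (s : A) (y : Γp 𝔞 (G (n + k))), s ∉ p.asIdeal ∧ T.P (Nat.le_add_right n k) y = s • z := by
    intro k
    induction k with
    | zero => exact ⟨1, z, fun h => p.2.ne_top ((Ideal.eq_top_iff_one _).2 h), by rw [one_smul]; exact T.P_self n z⟩
    | succ k ih =>
      obtain ⟨s, y, hs, hy⟩ := ih
      obtain ⟨x, hx⟩ := T.exists_lift ι hι (n + k) (a ^ t • y)
        (by rw [map_smul]; exact ht _ _ (Ideal.pow_mem_pow ha t))
      refine ⟨a ^ t * s, x, fun h => (p.2.mem_or_mem h).elim (fun h' => hap (p.2.mem_of_pow_mem _ h')) hs, ?_⟩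
      exact (T.P_succ (Nat.le_add_right n k) x).trans (by rw [hx, map_smul, hy, mul_smul])
  obtain ⟨s, y, hs, hy⟩ := hk (c + 1)
  obtain ⟨x, hx⟩ := T.exists_mem_lim (T.d ι) (c := c) (fun m hm => (hc m hm).ge) (T.d_ψ ι)
    (T.exists_lift ι hι) n y
  exact ⟨s, hs, x, hx.trans hy⟩

end Groth.Agent.PuncSecLib.Tower
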